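import Mathlib
import Cfsg.Prelude
import Cfsg.Agent.Lib.Helper19.ElemAbFixed
import Cfsg.Agent.Lib.Helper19.SylowRel
import Cfsg.Agent.Lib.Helper18.Subnormal

set_option autoImplicit false

namespace Cfsg.Agent.Lib.Helper19

open Subgroup

section Abstract

variable {Q : Type*} [Group Q]

/-- `y^k x = c^k x y^k` when `y x = c x y` and `c` commutes with `y`. -/
theorem pow_mul_central {x y c : Q} (h : y * x = c * x * y) (hcy : Commute c y) (k : ℕ) :
    y ^ k * x = c ^ k * x * y ^ k := by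
  induction k with
  | zero => simp
  | succ k ih =>
    calc y ^ (k + 1) * x = y * (y ^ k * x) := by rw [pow_succ', mul_assoc]
      _ = y * (c ^ k * x * y ^ k) := by rw [ih]
      _ = (y * c ^ k) * x * y ^ k := by simp only [mul_assoc]
      _ = (c ^ k * y) * x * y ^ k := by rw [(hcy.pow_left k).eq]
      _ = c ^ k * (y * x) * y ^ k := by simp only [mul_assoc]
      _ = c ^ k * (c * x * y) * y ^ k := by rw [h]
      _ = c ^ (k + 1) * x * y ^ (k + 1) := by rw [pow_succ, pow_succ']; simp only [mul_assoc]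

/-- `(x y)^n = c^(n(n-1)/2) x^n y^n` when `y x = c x y` and `c` commutes with `x` and `y`. -/
theorem mul_pow_central {x y c : Q} (h : y * x = c * x * y) (hcx : Commute c x)
    (hcy : Commute c y) (n : ℕ) :
    (x * y) ^ n = c ^ (n * (n - 1) / 2) * (x ^ n * y ^ n) := by
  induction n with
  | zero => simp
  | succ n ih =>
    have e : (n + 1) * (n + 1 - 1) / 2 = n * (n - 1) / 2 + n := Nat.triangle_succ n
    rw [e, pow_succ, ih]
    calc c ^ (n * (n - 1) / 2) * (x ^ n * y ^ n) * (x * y)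
        = c ^ (n * (n - 1) / 2) * (x ^ n * (y ^ n * x) * y) := by simp only [mul_assoc]
      _ = c ^ (n * (n - 1) / 2) * (x ^ n * (c ^ n * x * y ^ n) * y) := by
          rw [pow_mul_central h hcy]
      _ = c ^ (n * (n - 1) / 2) * ((x ^ n * c ^ n) * x * y ^ n * y) := by simp only [mul_assoc]
      _ = c ^ (n * (n - 1) / 2) * ((c ^ n * x ^ n) * x * y ^ n * y) := by
          rw [((hcx.pow_left n).pow_right n).eq]
      _ = (c ^ (n * (n - 1) / 2) * c ^ n) * ((x ^ n * x) * (y ^ n * y)) := by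
          simp only [mul_assoc]
      _ = c ^ (n * (n - 1) / 2 + n) * (x ^ (n + 1) * y ^ (n + 1)) := by
          rw [← pow_add, ← pow_succ, ← pow_succ]

variable {p : ℕ} [hp : Fact p.Prime]

omit hp in
/-- In an extraspecial group commutators are central. -/
theorem es_comm_mem_center (hE : Cfsg.IsExtraspecial p Q) (x y : Q) :
    x * y * x⁻¹ * y⁻¹ ∈ center Q := by
  have h1 : x * y * x⁻¹ * y⁻¹ ∈ _root_.commutator Q := by
    rw [_root_.commutator_def]
    exact Subgroup.commutator_mem_commutator (mem_top x) (mem_top y)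
  rw [hE.1.2.2] at h1
  exact h1

omit hp in
/-- Central elements of an extraspecial group have `p`-th power one. -/
theorem es_center_pow (hE : Cfsg.IsExtraspecial p Q) {z : Q} (hz : z ∈ center Q) : z ^ p = 1 := by
  have h := pow_card_eq_one' (G := center Q) (x := ⟨z, hz⟩)
  rw [hE.2] at h
  exact congrArg Subtype.val h

omit hp in
/-- `p`-th powers in an extraspecial group are central. -/
theorem es_pow_mem_center (hE : Cfsg.IsExtraspecial p Q) (x : Q) : x ^ p ∈ center Q := by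
  rw [mem_center_iff]
  intro g
  -- c = x g x⁻¹ g⁻¹ is central of order dividing p
  have hc := es_comm_mem_center hE x g
  have hcp := es_center_pow hE hc
  have h : x * g = (x * g * x⁻¹ * g⁻¹) * g * x := by group
  have hcx : Commute (x * g * x⁻¹ * g⁻¹) x := (mem_center_iff.mp hc x).symm
  have := pow_mul_central h hcx p
  rw [hcp, one_mul] at this
  exact this.symm

/-- The `p`-th power map of an extraspecial `p`-group, `p` odd, is multiplicative. -/
theorem es_mul_pow (hE : Cfsg.IsExtraspecial p Q) (hp2 : p ≠ 2) (x y : Q) :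
    (x * y) ^ p = x ^ p * y ^ p := by
  have hc := es_comm_mem_center hE y x
  have hcp := es_center_pow hE hc
  have h : y * x = (y * x * y⁻¹ * x⁻¹) * x * y := by group
  have hcx : Commute (y * x * y⁻¹ * x⁻¹) x := (mem_center_iff.mp hc x).symm
  have hcy : Commute (y * x * y⁻¹ * x⁻¹) y := (mem_center_iff.mp hc y).symm
  rw [mul_pow_central h hcx hcy p]
  have hodd : Odd p := hp.out.odd_of_ne_two hp2
  obtain ⟨m, hm⟩ := hodd
  have e : p * (p - 1) / 2 = p * m := by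
    rw [hm]
    have : 2 * m + 1 - 1 = 2 * m := by omega
    rw [this, ← mul_assoc, mul_comm _ 2, mul_assoc, Nat.mul_div_cancel_left _ (by norm_num)]
  rw [e, pow_mul, hcp, one_pow, one_mul]

/-- The `p`-th power map as a homomorphism. -/
noncomputable def esPowHom (hE : Cfsg.IsExtraspecial p Q) (hp2 : p ≠ 2) : Q →* Q where
  toFun x := x ^ p
  map_one' := one_pow p
  map_mul' := es_mul_pow hE hp2

theorem esPowHom_apply (hE : Cfsg.IsExtraspecial p Q) (hp2 : p ≠ 2) (x : Q) :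
    esPowHom hE hp2 x = x ^ p := rfl

theorem es_exists_pow_ne (hexp : Monoid.exponent Q = p ^ 2) : ∃ c : Q, c ^ p ≠ 1 := by
  by_contra h
  push Not at h
  have := Monoid.exponent_dvd_of_forall_pow_eq_one h
  rw [hexp] at this
  have h2 := Nat.le_of_dvd hp.out.pos this
  have h3 : p < p ^ 2 := by
    have := hp.out.one_lt
    nlinarith
  omega

theorem es_card_ker [Finite Q] (hE : Cfsg.IsExtraspecial p Q) (hp2 : p ≠ 2)
    (hcard : Nat.card Q = p ^ 3) (hexp : Monoid.exponent Q = p ^ 2) :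
    Nat.card (esPowHom hE hp2).ker = p ^ 2 := by
  have hle : (esPowHom hE hp2).range ≤ center Q := by
    rintro _ ⟨x, rfl⟩
    exact es_pow_mem_center hE x
  have hdvd : Nat.card (esPowHom hE hp2).range ∣ p := by
    have := Subgroup.card_dvd_of_le hle
    rwa [hE.2] at this
  have hne : Nat.card (esPowHom hE hp2).range ≠ 1 := by
    intro h1
    have hbot := Subgroup.eq_bot_of_card_eq _ h1
    obtain ⟨c, hc⟩ := es_exists_pow_ne (p := p) hexp
    have : esPowHom hE hp2 c ∈ (esPowHom hE hp2).range := ⟨c, rfl⟩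
    rw [hbot, mem_bot] at this
    exact hc this
  have hr : Nat.card (esPowHom hE hp2).range = p := by
    rcases (Nat.dvd_prime hp.out).mp hdvd with h | h
    · exact absurd h hne
    · exact h
  have h1 := Subgroup.card_mul_index (esPowHom hE hp2).ker
  rw [Subgroup.index_ker, hr, hcard] at h1
  have hp0 := hp.out.pos
  have : Nat.card (esPowHom hE hp2).ker * p = p ^ 2 * p := by rw [h1]; ring
  exact Nat.eq_of_mul_eq_mul_right hp0 this

end Abstract

section Fusion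

variable {G : Type*} [Group G] {p : ℕ} [hp : Fact p.Prime]

/-- The facts about a subgroup `P` that is extraspecial of order `p³` and exponent `p²`, stated
for elements of the ambient group: `Z` its centre, `E` its elements of order dividing `p`. -/
structure ESData (p : ℕ) (P Z E : Subgroup G) : Prop where
  memZ : ∀ g, g ∈ Z ↔ g ∈ P ∧ ∀ q ∈ P, q * g = g * q
  memE : ∀ g, g ∈ E ↔ g ∈ P ∧ g ^ p = 1
  cardZ : Nat.card Z = p
  cardE : Nat.card E = p ^ 2
  comm : ∀ x ∈ P, ∀ y ∈ P, x * y * x⁻¹ * y⁻¹ ∈ Z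
  mulpow : ∀ x ∈ P, ∀ y ∈ P, (x * y) ^ p = x ^ p * y ^ p
  powZ : ∀ x ∈ P, x ^ p ∈ Z
  ex : ∃ c ∈ P, c ^ p ≠ 1

namespace ESData

variable {P Z E : Subgroup G}

omit hp in
theorem pow_eq_one (h : ESData p P Z E) {z : G} (hz : z ∈ Z) : z ^ p = 1 := by
  have h1 := pow_card_eq_one' (G := Z) (x := ⟨z, hz⟩)
  rw [h.cardZ] at h1
  exact congrArg Subtype.val h1

omit hp in
theorem E_le_P (h : ESData p P Z E) : E ≤ P := fun g hg => ((h.memE g).mp hg).1

omit hp in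
theorem Z_le_P (h : ESData p P Z E) : Z ≤ P := fun g hg => ((h.memZ g).mp hg).1

omit hp in
theorem Z_le_E (h : ESData p P Z E) : Z ≤ E :=
  fun g hg => (h.memE g).mpr ⟨h.Z_le_P hg, h.pow_eq_one hg⟩

theorem commE (h : ESData p P Z E) : ∀ x ∈ E, ∀ y ∈ E, x * y = y * x := by
  intro x hx y hy
  have := IsPGroup.commutative_of_card_eq_prime_sq h.cardE ⟨x, hx⟩ ⟨y, hy⟩
  exact congrArg Subtype.val this

theorem mem_powers [Finite G] (h : ESData p P Z E) {z : G} (hz : z ∈ Z) (hz1 : z ≠ 1) {t : G}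
    (ht : t ∈ Z) : ∃ k : ℕ, z ^ k = t := by
  have h1 : (⟨t, ht⟩ : Z) ∈ zpowers (⟨z, hz⟩ : Z) :=
    mem_zpowers_of_prime_card h.cardZ (fun h0 => hz1 (congrArg Subtype.val h0))
  rw [← mem_powers_iff_mem_zpowers] at h1
  obtain ⟨k, hk⟩ := h1
  exact ⟨k, congrArg Subtype.val hk⟩

theorem decomp [Finite G] (h : ESData p P Z E) {c : G} (hc : c ∈ P) (hcp : c ^ p ≠ 1) {q : G}
    (hq : q ∈ P) : ∃ n : ℕ, q * (c ^ n)⁻¹ ∈ E := by
  obtain ⟨n, hn⟩ := h.mem_powers (h.powZ c hc) hcp (h.powZ q hq)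
  refine ⟨n, (h.memE _).mpr ⟨mul_mem hq (inv_mem (pow_mem hc n)), ?_⟩⟩
  rw [h.mulpow q hq _ (inv_mem (pow_mem hc n)), inv_pow, ← pow_mul, mul_comm n p, pow_mul, hn,
    mul_inv_cancel]

theorem central_of_commute [Finite G] (h : ESData p P Z E) {c : G} (hc : c ∈ P)
    (hcp : c ^ p ≠ 1) {y : G} (hy : y ∈ E) (hcy : c * y = y * c) : y ∈ Z := by
  rw [h.memZ]
  refine ⟨h.E_le_P hy, fun q hq => ?_⟩
  obtain ⟨n, hn⟩ := h.decomp hc hcp hq
  have h1 : Commute (q * (c ^ n)⁻¹) y := h.commE _ hn _ hy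
  have h2 : Commute (c ^ n) y := (show Commute c y from hcy).pow_left n
  have h3 := h1.mul_left h2
  rw [inv_mul_cancel_right] at h3
  exact h3.eq

omit hp in
theorem conjE (h : ESData p P Z E) : ∀ q ∈ P, ∀ e ∈ E, q * e * q⁻¹ ∈ E := by
  intro q hq e he
  rw [h.memE] at he ⊢
  exact ⟨mul_mem (mul_mem hq he.1) (inv_mem hq), by rw [conj_pow, he.2, mul_one, mul_inv_cancel]⟩

end ESData

/-- The fusion argument: the centre of a Sylow `p`-subgroup which is extraspecial of order `p³`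
and exponent `p²` (`p` odd) is strongly closed. -/
theorem ESData.stronglyClosed [Finite G] (hp2 : p ≠ 2) (P : Sylow p G) {Z E : Subgroup G}
    (h : ESData p (P : Subgroup G) Z E) :
    ∀ z ∈ Z, ∀ g : G, g * z * g⁻¹ ∈ (P : Subgroup G) → g * z * g⁻¹ ∈ Z := by
  intro z hz g hbP
  by_contra hbZ
  obtain ⟨b, hb⟩ : ∃ b, b = g * z * g⁻¹ := ⟨_, rfl⟩
  rw [← hb] at hbP hbZ
  have hzp : z ^ p = 1 := h.pow_eq_one hz
  have hbp : b ^ p = 1 := by rw [hb, conj_pow, hzp, mul_one, mul_inv_cancel]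
  have hbE : b ∈ E := (h.memE b).mpr ⟨hbP, hbp⟩
  have hb1 : b ≠ 1 := fun h1 => hbZ (h1 ▸ Z.one_mem)
  have hz1 : z ≠ 1 := by
    rintro rfl
    apply hb1
    rw [hb, mul_one, mul_inv_cancel]
  -- Step 1: a conjugating element `t` with `t z t⁻¹ = b` and `t⁻¹ E t ≤ P`
  obtain ⟨t, ht, htE⟩ : ∃ t : G, t * z * t⁻¹ = b ∧ ∀ a ∈ E, t⁻¹ * a * t ∈ (P : Subgroup G) := by
    have hEC : E ≤ centralizer {b} := by
      intro e he
      rw [mem_centralizer_iff]
      intro x hx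
      rw [Set.mem_singleton_iff] at hx
      subst hx
      exact h.commE _ hbE _ he
    have hRC : ((g • P : Sylow p G) : Subgroup G) ≤ centralizer {b} := by
      intro r hr
      rw [mem_smul_sylow_iff] at hr
      rw [mem_centralizer_iff]
      intro x hx
      rw [Set.mem_singleton_iff] at hx
      subst hx
      have h1 := ((h.memZ z).mp hz).2 _ hr
      rw [hb]
      calc g * z * g⁻¹ * r = g * (z * (g⁻¹ * r * g)) * g⁻¹ := by group
        _ = g * ((g⁻¹ * r * g) * z) * g⁻¹ := by rw [h1]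
        _ = r * (g * z * g⁻¹) := by group
    have hidx : ¬ p ∣ ((g • P : Sylow p G) : Subgroup G).relIndex (centralizer {b}) := fun hd =>
      (g • P).not_dvd_index (hd.trans (relIndex_dvd_index_of_le hRC))
    obtain ⟨k, hk, hkE⟩ := exists_conj_le_of_not_dvd_relIndex hRC (g • P).isPGroup' hidx hEC
      (P.isPGroup'.to_le h.E_le_P)
    refine ⟨k⁻¹ * g, ?_, ?_⟩
    · have hkb : b * k = k * b := mem_centralizer_iff.mp hk b rfl
      calc k⁻¹ * g * z * (k⁻¹ * g)⁻¹ = k⁻¹ * (g * z * g⁻¹) * k := by group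
        _ = k⁻¹ * (b * k) := by rw [← hb, mul_assoc]
        _ = b := by rw [hkb, inv_mul_cancel_left]
    · intro a ha
      have h1 := hkE a ha
      rw [mem_smul_sylow_iff] at h1
      have h2 : (k⁻¹ * g)⁻¹ * a * (k⁻¹ * g) = g⁻¹ * (k * a * k⁻¹) * g := by group
      rw [h2]
      exact h1
  -- Step 2: `t` normalizes `E`
  have hN1 : ∀ a ∈ E, t⁻¹ * a * t ∈ E := by
    intro a ha
    rw [h.memE]
    refine ⟨htE a ha, ?_⟩
    have h1 : (t⁻¹ * a * t) ^ p = t⁻¹ * a ^ p * t := by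
      have h2 := conj_pow (a := t⁻¹) (b := a) (i := p)
      rwa [inv_inv] at h2
    rw [h1, ((h.memE a).mp ha).2, mul_one, inv_mul_cancel]
  -- Step 3: the two unipotent actions on `E`
  obtain ⟨x, hxP, hxp⟩ := h.ex
  obtain ⟨e₁, he₁⟩ : ∃ e₁, e₁ = x * b * x⁻¹ * b⁻¹ := ⟨_, rfl⟩
  have he₁Z : e₁ ∈ Z := he₁ ▸ h.comm x hxP b hbP
  have he₁E : e₁ ∈ E := h.Z_le_E he₁Z
  have he₁1 : e₁ ≠ 1 := by
    intro h1
    apply hbZ
    apply h.central_of_commute hxP hxp hbE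
    rw [he₁] at h1
    have h2 : x * b = (x * b * x⁻¹ * b⁻¹) * (b * x) := by group
    rw [h2, h1, one_mul]
  have hcomm12 : e₁ * b = b * e₁ := h.commE _ he₁E _ hbE
  have hx1 : x * e₁ * x⁻¹ = e₁ := by
    have h1 := ((h.memZ e₁).mp he₁Z).2 x hxP
    rw [h1, mul_inv_cancel_right]
  have hx2 : x * b * x⁻¹ = e₁ * b := by rw [he₁, inv_mul_cancel_right]
  obtain ⟨y, hy⟩ : ∃ y, y = t * x * t⁻¹ := ⟨_, rfl⟩
  have hy2 : y * b * y⁻¹ = b := by
    have hxz : x * z = z * x := ((h.memZ z).mp hz).2 x hxP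
    rw [hy, ← ht]
    calc t * x * t⁻¹ * (t * z * t⁻¹) * (t * x * t⁻¹)⁻¹ = t * (x * z) * x⁻¹ * t⁻¹ := by group
      _ = t * z * t⁻¹ := by rw [hxz, mul_assoc t, mul_inv_cancel_right]
  have he₁' : t⁻¹ * e₁ * t ∈ E := hN1 e₁ he₁E
  have htZ : x * (t⁻¹ * e₁ * t) * x⁻¹ * (t⁻¹ * e₁ * t)⁻¹ ∈ Z :=
    h.comm x hxP _ (h.E_le_P he₁')
  obtain ⟨k, hk⟩ := h.mem_powers hz hz1 htZ
  have hy1' : y * e₁ * y⁻¹ = b ^ k * e₁ := by
    have h1 : b ^ k = t * z ^ k * t⁻¹ := by rw [← ht, conj_pow]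
    rw [h1, hk, hy]
    group
  have hy1 : y * e₁ * y⁻¹ = e₁ * b ^ k := by
    rw [hy1']
    exact ((Commute.pow_right (show Commute e₁ b from hcomm12) k).eq).symm
  have hbo : orderOf b = p := orderOf_eq_prime hbp hb1
  have hkp : ¬ p ∣ k := by
    rintro ⟨m, rfl⟩
    rw [pow_mul, hzp, one_pow] at hk
    have hxe : x * (t⁻¹ * e₁ * t) = (t⁻¹ * e₁ * t) * x := by
      have h1 : x * (t⁻¹ * e₁ * t) =
          (x * (t⁻¹ * e₁ * t) * x⁻¹ * (t⁻¹ * e₁ * t)⁻¹) * ((t⁻¹ * e₁ * t) * x) := by group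
      rw [h1, ← hk, one_mul]
    have he'Z := h.central_of_commute hxP hxp he₁' hxe
    obtain ⟨m', hm'⟩ := h.mem_powers hz hz1 he'Z
    have he₁b : e₁ = b ^ m' := by
      rw [← ht, conj_pow, hm']
      group
    have h2 : b ∈ zpowers e₁ :=
      mem_zpowers_of_mem_zpowers_prime hbo (by rw [he₁b]; exact pow_mem (mem_zpowers b) m') he₁1
    exact hbZ ((zpowers_le.mpr he₁Z) h2)
  have hcop : Nat.Coprime k p := ((Nat.Prime.coprime_iff_not_dvd hp.out).mpr hkp).symm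
  obtain ⟨j, -, hj⟩ := Nat.exists_mul_mod_eq_one_of_coprime hcop hp.out.one_lt
  have hw2 : ∀ m : ℕ, y ^ m * b * (y ^ m)⁻¹ = b := by
    intro m
    induction m with
    | zero => simp
    | succ m ih =>
      calc y ^ (m + 1) * b * (y ^ (m + 1))⁻¹ = y * (y ^ m * b * (y ^ m)⁻¹) * y⁻¹ := by
            rw [pow_succ']; group
        _ = b := by rw [ih, hy2]
  have hw1 : ∀ m : ℕ, y ^ m * e₁ * (y ^ m)⁻¹ = e₁ * b ^ (k * m) := by
    intro m
    induction m with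
    | zero => simp
    | succ m ih =>
      calc y ^ (m + 1) * e₁ * (y ^ (m + 1))⁻¹ = y * (y ^ m * e₁ * (y ^ m)⁻¹) * y⁻¹ := by
            rw [pow_succ']; group
        _ = y * (e₁ * b ^ (k * m)) * y⁻¹ := by rw [ih]
        _ = (y * e₁ * y⁻¹) * (y * b * y⁻¹) ^ (k * m) := by rw [conj_pow]; group
        _ = e₁ * b ^ (k * (m + 1)) := by
            rw [hy1, hy2, mul_assoc, ← pow_add, mul_add, mul_one, add_comm]
  have hbkj : b ^ (k * j) = b := by
    rw [pow_eq_pow_mod (k * j) hbp, hj, pow_one]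
  obtain ⟨w, hw⟩ : ∃ w, w = y ^ j := ⟨_, rfl⟩
  have hwe1 : w * e₁ * w⁻¹ = e₁ * b := by rw [hw, hw1 j, hbkj]
  have hwe2 : w * b * w⁻¹ = b := by rw [hw, hw2 j]
  have hwi2 : w⁻¹ * b * w = b := by
    calc w⁻¹ * b * w = w⁻¹ * (w * b * w⁻¹) * w := by rw [hwe2]
      _ = b := by group
  have hwi1 : w⁻¹ * e₁ * w = e₁ * b⁻¹ := by
    have h1 : w * (e₁ * b⁻¹) * w⁻¹ = e₁ := by
      calc w * (e₁ * b⁻¹) * w⁻¹ = (w * e₁ * w⁻¹) * (w * b * w⁻¹)⁻¹ := by group
        _ = e₁ := by rw [hwe1, hwe2, mul_inv_cancel_right]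
    calc w⁻¹ * e₁ * w = w⁻¹ * (w * (e₁ * b⁻¹) * w⁻¹) * w := by rw [h1]
      _ = e₁ * b⁻¹ := by group
  -- Step 4: an element inverting `E`
  obtain ⟨s, hs⟩ : ∃ s, s = x * w⁻¹ * x := ⟨_, rfl⟩
  have hs1 : s * e₁ * s⁻¹ = b⁻¹ := by
    calc s * e₁ * s⁻¹ = x * (w⁻¹ * (x * e₁ * x⁻¹) * w) * x⁻¹ := by rw [hs]; group
      _ = x * (e₁ * b⁻¹) * x⁻¹ := by rw [hx1, hwi1]
      _ = (x * e₁ * x⁻¹) * (x * b * x⁻¹)⁻¹ := by group
      _ = b⁻¹ := by rw [hx1, hx2, hcomm12, mul_inv_rev, mul_inv_cancel_left]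
  have hs2 : s * b * s⁻¹ = e₁ := by
    calc s * b * s⁻¹ = x * (w⁻¹ * (x * b * x⁻¹) * w) * x⁻¹ := by rw [hs]; group
      _ = x * ((w⁻¹ * e₁ * w) * (w⁻¹ * b * w)) * x⁻¹ := by rw [hx2]; group
      _ = x * (e₁ * b⁻¹ * b) * x⁻¹ := by rw [hwi1, hwi2]
      _ = e₁ := by rw [inv_mul_cancel_right, hx1]
  obtain ⟨n, hn⟩ : ∃ n, n = s * s := ⟨_, rfl⟩
  have hn1 : n * e₁ * n⁻¹ = e₁⁻¹ := by
    calc n * e₁ * n⁻¹ = s * (s * e₁ * s⁻¹) * s⁻¹ := by rw [hn]; group
      _ = (s * b * s⁻¹)⁻¹ := by rw [hs1]; group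
      _ = e₁⁻¹ := by rw [hs2]
  have hn2 : n * b * n⁻¹ = b⁻¹ := by
    calc n * b * n⁻¹ = s * (s * b * s⁻¹) * s⁻¹ := by rw [hn]; group
      _ = b⁻¹ := by rw [hs2, hs1]
  have he₁o : orderOf e₁ = p := orderOf_eq_prime (h.pow_eq_one he₁Z) he₁1
  have hbn : b ∈ normalizer (zpowers e₁ : Set G) := by
    apply centralizer_le_normalizer
    rw [mem_centralizer_iff]
    intro a ha
    obtain ⟨i, rfl⟩ := mem_zpowers_iff.mp ha
    exact ((show Commute e₁ b from hcomm12).zpow_left i).eq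
  have hsup : zpowers e₁ ⊔ zpowers b = E := by
    have hle : zpowers e₁ ⊔ zpowers b ≤ E := sup_le (zpowers_le.mpr he₁E) (zpowers_le.mpr hbE)
    have hfin : Finite E := inferInstance
    apply Subgroup.eq_of_le_of_card_ge hle
    have hbnot : b ∉ zpowers e₁ := fun hb' => hbZ (zpowers_le.mpr he₁Z hb')
    rw [card_sup_zpowers_prime (zpowers e₁) hbo hbnot hbn, Nat.card_zpowers, he₁o, h.cardE, sq]
  have hinv : ∀ e ∈ E, n * e * n⁻¹ = e⁻¹ := by
    intro e he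
    rw [← hsup, sup_comm] at he
    obtain ⟨c, hc, a, ha, rfl⟩ :=
      Cfsg.Agent.Lib.Helper18.mem_sup_of_le_normalizer (zpowers_le.mpr hbn) he
    obtain ⟨i, rfl⟩ := mem_zpowers_iff.mp ha
    obtain ⟨l, rfl⟩ := mem_zpowers_iff.mp hc
    have h1 : n * e₁ ^ i * n⁻¹ = (e₁ ^ i)⁻¹ := by rw [← conj_zpow, hn1, inv_zpow]
    have h2 : n * b ^ l * n⁻¹ = (b ^ l)⁻¹ := by rw [← conj_zpow, hn2, inv_zpow]
    have hc12 : Commute (e₁ ^ i) (b ^ l) := (show Commute e₁ b from hcomm12).zpow_zpow i l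
    calc n * (b ^ l * e₁ ^ i) * n⁻¹ = (n * b ^ l * n⁻¹) * (n * e₁ ^ i * n⁻¹) := by group
      _ = (b ^ l)⁻¹ * (e₁ ^ i)⁻¹ := by rw [h1, h2]
      _ = (b ^ l * e₁ ^ i)⁻¹ := by rw [mul_inv_rev]; exact hc12.inv_inv.eq.symm
  -- Step 5: the contradiction
  obtain ⟨x', hx'⟩ : ∃ x', x' = n * x * n⁻¹ := ⟨_, rfl⟩
  have hPE := h.conjE
  have hA : x⁻¹ * x' ∈ centralizer (E : Set G) := by
    rw [mem_centralizer_iff]
    intro e he
    have h1 : n⁻¹ * e * n = e⁻¹ := by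
      have h0 := hinv e⁻¹ (E.inv_mem he)
      rw [inv_inv] at h0
      calc n⁻¹ * e * n = n⁻¹ * (n * e⁻¹ * n⁻¹) * n := by rw [h0]
        _ = e⁻¹ := by group
    have h2 : n * (x * e⁻¹ * x⁻¹) * n⁻¹ = (x * e⁻¹ * x⁻¹)⁻¹ :=
      hinv _ (hPE x hxP _ (E.inv_mem he))
    have h3 : x' * e * x'⁻¹ = x * e * x⁻¹ := by
      calc x' * e * x'⁻¹ = n * (x * (n⁻¹ * e * n) * x⁻¹) * n⁻¹ := by rw [hx']; group
        _ = n * (x * e⁻¹ * x⁻¹) * n⁻¹ := by rw [h1]
        _ = x * e * x⁻¹ := by rw [h2]; group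
    calc e * (x⁻¹ * x') = x⁻¹ * (x * e * x⁻¹) * x' := by group
      _ = x⁻¹ * (x' * e * x'⁻¹) * x' := by rw [h3]
      _ = x⁻¹ * x' * e := by group
  have hB : (P : Subgroup G) ≤ normalizer (centralizer (E : Set G) : Set G) := by
    have key : ∀ q ∈ (P : Subgroup G), ∀ c ∈ centralizer (E : Set G),
        q * c * q⁻¹ ∈ centralizer (E : Set G) := by
      intro q hq c hc
      rw [mem_centralizer_iff] at hc ⊢
      intro e he
      have h0 : q⁻¹ * e * q ∈ E := by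
        have := hPE q⁻¹ (inv_mem hq) e he
        rwa [inv_inv] at this
      have h1 := hc (q⁻¹ * e * q) h0
      calc e * (q * c * q⁻¹) = q * ((q⁻¹ * e * q) * c) * q⁻¹ := by group
        _ = q * (c * (q⁻¹ * e * q)) * q⁻¹ := by rw [h1]
        _ = q * c * q⁻¹ * e := by group
    intro q hq
    rw [mem_normalizer_iff]
    intro c
    constructor
    · exact key q hq c
    · intro hc
      have h1 := key q⁻¹ (inv_mem hq) _ hc
      have h2 : q⁻¹ * (q * c * q⁻¹) * q⁻¹⁻¹ = c := by group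
      rwa [h2] at h1
  have hx'sup : x' ∈ (P : Subgroup G) ⊔ centralizer (E : Set G) := by
    have h1 : x' = x * (x⁻¹ * x') := by group
    rw [h1]
    exact mul_mem (mem_sup_left hxP) (mem_sup_right hA)
  have hQle : zpowers x' ≤ (P : Subgroup G) ⊔ centralizer (E : Set G) := zpowers_le.mpr hx'sup
  have hQp : IsPGroup p (zpowers x') := by
    have h1 : zpowers x' = (zpowers x).map (MulAut.conj n).toMonoidHom := by
      rw [MonoidHom.map_zpowers, hx']
      rfl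
    rw [h1]
    exact (P.isPGroup'.to_le (zpowers_le.mpr hxP)).map _
  have hidx : ¬ p ∣ (P : Subgroup G).relIndex ((P : Subgroup G) ⊔ centralizer (E : Set G)) :=
    fun hd => P.not_dvd_index (hd.trans (relIndex_dvd_index_of_le le_sup_left))
  obtain ⟨d, hd, hdx⟩ := exists_conj_le_of_not_dvd_relIndex le_sup_left P.isPGroup' hidx hQle hQp
  have hdx' := hdx x' (mem_zpowers x')
  obtain ⟨q, hq, c₁, hc₁, rfl⟩ := Cfsg.Agent.Lib.Helper18.mem_sup_of_le_normalizer hB hd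
  obtain ⟨x'', hx''⟩ : ∃ x'', x'' = c₁ * x' * c₁⁻¹ := ⟨_, rfl⟩
  have hx''P : x'' ∈ (P : Subgroup G) := by
    have h1 : x'' = q⁻¹ * (q * c₁ * x' * (q * c₁)⁻¹) * q := by rw [hx'']; group
    rw [h1]
    exact mul_mem (mul_mem (inv_mem hq) hdx') hq
  have hD : x⁻¹ * x'' ∈ centralizer (E : Set G) := by
    have h1 : x⁻¹ * x'' = (x⁻¹ * c₁ * x⁻¹⁻¹) * (x⁻¹ * x') * c₁⁻¹ := by rw [hx'']; group
    rw [h1]
    exact mul_mem (mul_mem ((mem_normalizer_iff.mp (hB (inv_mem hxP)) c₁).mp hc₁) hA)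
      (inv_mem hc₁)
  have hDP : x⁻¹ * x'' ∈ (P : Subgroup G) := mul_mem (inv_mem hxP) hx''P
  have hu : (x⁻¹ * x'') ^ p = 1 := by
    by_contra hne
    apply hbZ
    apply h.central_of_commute hDP hne hbE
    exact (mem_centralizer_iff.mp hD b hbE).symm
  have hpow1 : x'' ^ p = x ^ p := by
    have h1 : x'' = x * (x⁻¹ * x'') := by group
    rw [h1, h.mulpow x hxP _ hDP, hu, mul_one]
  have hxpZ : x ^ p ∈ Z := h.powZ x hxP
  have hxpE : x ^ p ∈ E := h.Z_le_E hxpZ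
  have hpow2 : x'' ^ p = (x ^ p)⁻¹ := by
    rw [hx'', conj_pow, hx', conj_pow, hinv _ hxpE]
    have h1 := mem_centralizer_iff.mp hc₁ _ (E.inv_mem hxpE)
    rw [← h1, mul_inv_cancel_right]
  have hsq : (x ^ p) ^ 2 = 1 := by
    have h1 : x ^ p = (x ^ p)⁻¹ := hpow1.symm.trans hpow2
    rw [sq]
    nth_rewrite 1 [h1]
    exact inv_mul_cancel _
  have hpp : (x ^ p) ^ p = 1 := h.pow_eq_one hxpZ
  have h3 : orderOf (x ^ p) ∣ Nat.gcd 2 p :=
    Nat.dvd_gcd (orderOf_dvd_of_pow_eq_one hsq) (orderOf_dvd_of_pow_eq_one hpp)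
  have hg : Nat.gcd 2 p = 1 := (Nat.coprime_primes Nat.prime_two hp.out).mpr (Ne.symm hp2)
  rw [hg, Nat.dvd_one, orderOf_eq_one_iff] at h3
  exact hxp h3

end Fusion

end Cfsg.Agent.Lib.Helper19
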