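import Mathlib
import Cfsg.Agent.Lib.Helper19.CD

/-!
Conjugation of subgroups (as `Subgroup.map (MulAut.conj a).toMonoidHom`) and the subgroup lattice.
-/

set_option autoImplicit false

namespace Cfsg.Agent.Lib.Helper19

variable {G : Type*} [Group G]

/-- The conjugate `a A a⁻¹` of a subgroup. -/
abbrev cj (a : G) (A : Subgroup G) : Subgroup G := A.map (MulAut.conj a).toMonoidHom

theorem cj_mul (a b : G) (A : Subgroup G) : cj a (cj b A) = cj (a * b) A := by
  unfold cj
  rw [Subgroup.map_map]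
  congr 1
  ext x
  simp [mul_assoc]

theorem cj_one (A : Subgroup G) : cj 1 A = A := by
  unfold cj
  rw [map_one]
  exact Subgroup.map_id A

theorem cj_inv_cj (a : G) (A : Subgroup G) : cj a⁻¹ (cj a A) = A := by
  rw [cj_mul, inv_mul_cancel, cj_one]

theorem cj_cj_inv (a : G) (A : Subgroup G) : cj a (cj a⁻¹ A) = A := by
  rw [cj_mul, mul_inv_cancel, cj_one]

theorem cj_injective (a : G) : Function.Injective (MulAut.conj a).toMonoidHom :=
  (MulAut.conj a).injective

theorem cj_inf (a : G) (A B : Subgroup G) : cj a (A ⊓ B) = cj a A ⊓ cj a B :=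
  Subgroup.map_inf A B _ (cj_injective a)

theorem cj_sup (a : G) (A B : Subgroup G) : cj a (A ⊔ B) = cj a A ⊔ cj a B :=
  Subgroup.map_sup A B _

theorem cj_normalizer (a : G) (A : Subgroup G) :
    Subgroup.normalizer ((cj a A : Subgroup G) : Set G) = cj a (Subgroup.normalizer (A : Set G)) :=
  (Subgroup.map_equiv_normalizer_eq A (MulAut.conj a)).symm

theorem cj_eq_self_iff (a : G) (A : Subgroup G) :
    cj a A = A ↔ a ∈ Subgroup.normalizer (A : Set G) :=
  Subgroup.mem_normalizer_iff_map_conj_eq.symm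

theorem card_cj (a : G) (A : Subgroup G) : Nat.card (cj a A) = Nat.card A :=
  Subgroup.card_map_of_injective (cj_injective a)

theorem cj_top (a : G) : cj a (⊤ : Subgroup G) = ⊤ :=
  Subgroup.map_top_of_surjective _ (MulAut.conj a).surjective

theorem cj_mono (a : G) {A B : Subgroup G} (h : A ≤ B) : cj a A ≤ cj a B :=
  Subgroup.map_mono h

theorem cj_le_iff (a : G) {A B : Subgroup G} : cj a A ≤ cj a B ↔ A ≤ B := by
  constructor
  · intro h
    have := cj_mono a⁻¹ h
    rwa [cj_inv_cj, cj_inv_cj] at this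
  · exact cj_mono a

theorem cj_inj (a : G) {A B : Subgroup G} : cj a A = cj a B ↔ A = B := by
  constructor
  · intro h
    have := congrArg (cj a⁻¹) h
    rwa [cj_inv_cj, cj_inv_cj] at this
  · intro h; rw [h]

theorem cj_eq_top_iff (a : G) {A : Subgroup G} : cj a A = ⊤ ↔ A = ⊤ := by
  constructor
  · intro h
    rw [← cj_top a] at h
    exact (cj_inj a).mp h
  · intro h
    rw [h, cj_top]

theorem cj_relIndex (a : G) (A B : Subgroup G) : (cj a A).relIndex (cj a B) = A.relIndex B :=
  Subgroup.relIndex_map_map_of_injective A B (cj_injective a)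

theorem cj_isCoatom (a : G) {A : Subgroup G} (h : IsCoatom A) : IsCoatom (cj a A) := by
  refine ⟨fun ht => h.1 ((cj_eq_top_iff a).mp ht), ?_⟩
  intro B hB
  have h1 : A < cj a⁻¹ B := by
    refine lt_of_le_of_ne ?_ ?_
    · have := cj_mono a⁻¹ hB.le
      rwa [cj_inv_cj] at this
    · intro he
      apply hB.ne
      rw [he, cj_cj_inv]
  exact (cj_eq_top_iff a⁻¹).mp (h.2 _ h1)

theorem mem_cj_iff (a : G) (A : Subgroup G) (x : G) : x ∈ cj a A ↔ a⁻¹ * x * a ∈ A := by
  unfold cj
  rw [Subgroup.mem_map]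
  constructor
  · rintro ⟨y, hy, rfl⟩
    simp only [MulEquiv.coe_toMonoidHom, MulAut.conj_apply]
    have : a⁻¹ * (a * y * a⁻¹) * a = y := by group
    rw [this]; exact hy
  · intro h
    exact ⟨a⁻¹ * x * a, h, by simp only [MulEquiv.coe_toMonoidHom, MulAut.conj_apply]; group⟩

/-- A subgroup of prime relative index is maximal. -/
theorem isCoatom_subgroupOf_of_prime_relIndex [Finite G] {H M : Subgroup G}
    (h : (H.relIndex M).Prime) : IsCoatom (H.subgroupOf M) := by
  have hidx : (H.subgroupOf M).index = H.relIndex M := rfl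
  refine ⟨?_, ?_⟩
  · intro ht
    rw [ht, Subgroup.index_top] at hidx
    rw [← hidx] at h
    exact Nat.not_prime_one h
  · intro B hB
    have h1 := Subgroup.index_dvd_of_le hB.le
    rw [hidx] at h1
    rcases (Nat.dvd_prime h).mp h1 with h2 | h2
    · exact Subgroup.index_eq_one.mp h2
    · exfalso
      have h3 := Subgroup.relIndex_mul_index hB.le
      rw [hidx, h2] at h3
      have h4 : (H.subgroupOf M).relIndex B = 1 := by
        have hpos : 0 < H.relIndex M := h.pos
        nlinarith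
      exact hB.not_ge (Subgroup.relIndex_eq_one.mp h4)

/-- Second isomorphism theorem for indices when `V` normalizes `U`. -/
theorem relIndex_sup_of_le_normalizer {U V : Subgroup G}
    (h : V ≤ Subgroup.normalizer (U : Set G)) : U.relIndex (V ⊔ U) = U.relIndex V := by
  have i1 := Subgroup.normal_subgroupOf_of_le_normalizer h
  have i2 := Subgroup.normal_subgroupOf_sup_of_le_normalizer h
  exact Nat.card_congr (QuotientGroup.quotientInfEquivProdNormalizerQuotient V U h).toEquiv.symm

/-- If `A ∩ B` and `B ∩ C` both have prime index `p` in `B`, `⟨A, B, C⟩ = G` and `⟨A, C⟩ ≠ G`,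
then `A ∩ B = B ∩ C`. -/
theorem inf_eq_of_relIndex_prime {p : ℕ} (hp : p.Prime) {A B C : Subgroup G}
    (h1 : (A ⊓ B).relIndex B = p) (h2 : (B ⊓ C).relIndex B = p) (h3 : A ⊔ B ⊔ C = ⊤)
    (h4 : A ⊔ C ≠ ⊤) : A ⊓ B = B ⊓ C := by
  obtain ⟨X, hX⟩ : ∃ X : Subgroup G, X = (A ⊓ B) ⊔ (B ⊓ C) := ⟨_, rfl⟩
  have hXB : X ≤ B := by rw [hX]; exact sup_le inf_le_right inf_le_left
  have hD1 : A ⊓ B ≤ X := by rw [hX]; exact le_sup_left
  have hD2 : B ⊓ C ≤ X := by rw [hX]; exact le_sup_right
  have hdvd : X.relIndex B ∣ p := by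
    rw [← h1]; exact Subgroup.relIndex_dvd_of_le_left B hD1
  rcases (Nat.dvd_prime hp).mp hdvd with h | h
  · exfalso
    apply h4
    have hBX : B ≤ X := Subgroup.relIndex_eq_one.mp h
    have hBAC : B ≤ A ⊔ C := hBX.trans (by
      rw [hX]; exact sup_le (inf_le_left.trans le_sup_left) (inf_le_right.trans le_sup_right))
    rw [eq_top_iff, ← h3]
    exact sup_le (sup_le le_sup_left hBAC) le_sup_right
  · have e1 := Subgroup.relIndex_mul_relIndex (A ⊓ B) X B hD1 hXB
    have e2 := Subgroup.relIndex_mul_relIndex (B ⊓ C) X B hD2 hXB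
    rw [h, h1] at e1
    rw [h, h2] at e2
    have f1 : (A ⊓ B).relIndex X = 1 := Nat.eq_of_mul_eq_mul_right hp.pos (by rw [e1, one_mul])
    have f2 : (B ⊓ C).relIndex X = 1 := Nat.eq_of_mul_eq_mul_right hp.pos (by rw [e2, one_mul])
    rw [Subgroup.relIndex_eq_one] at f1 f2
    exact le_antisymm (hD1.trans f2) (hD2.trans f1)

end Cfsg.Agent.Lib.Helper19
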