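import Cfsg.Agent.Lib.Helper17.QdZJ
import Cfsg.Agent.Lib.Helper17.S4Rec
import Cfsg.Agent.Lib.Helper14.QdRed

set_option autoImplicit false
set_option linter.unusedVariables false
set_option linter.style.haveILetI false

/-!
Explicit control of strong fusion by the normalizer of the centre of the Thompson subgroup
(abelian version) of a given Sylow subgroup, for groups not involving `Qd(p)`.
-/

namespace Cfsg.Agent.Lib.Helper19.SCQdZ

open Cfsg
open Cfsg.Agent.Lib.Helper14 Cfsg.Agent.Lib.Helper6 Cfsg.Agent.S3071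

universe u

theorem zjA_ctl {G : Type u} [Group G] [Finite G] {p : ℕ} [Fact p.Prime]
    (hp : p ≠ 2) (hqd : ¬ Cfsg.Involves ↥(Cfsg.qd p) G) (S : Sylow p G)
    (A : Set G) (hA : A ⊆ ((S : Subgroup G) : Set G)) (g : G)
    (hg : ∀ a ∈ A, g * a * g⁻¹ ∈ (S : Subgroup G)) :
    ∃ x ∈ Subgroup.normalizer ((Cfsg.centerThompsonAOf (S : Subgroup G) : Subgroup G) : Set G),
      ∀ a ∈ A, g * a * g⁻¹ = x * a * x⁻¹ := by
  have hst : ∀ (K R : Subgroup G) [hR : (R.subgroupOf K).Normal],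
      Cfsg.IsNormalizerPStable p (↥K ⧸ R.subgroupOf K) := by
    intro K R hR
    apply Cfsg.Agent.Lib.Helper14.QdRed.qd_stable hp
    intro h
    exact hqd (Cfsg.Agent.Lib.Helper17.involves_of_subgroup K
      (Cfsg.Agent.Lib.Helper17.involves_of_quotient _ h))
  have h𝓦 : ∀ W' ∈ ({zjAFun} : Set (∀ (Q : Type u) [Group Q], Subgroup Q)),
      Cfsg.IsCharPFunctor.{u} p W' := by
    intro W' hW'
    rw [Set.mem_singleton_iff] at hW'
    exact hW' ▸ isCharPFunctor_zjAFun p
  have hQG : ∀ (Y : Type u) [Group Y] [Finite Y], IsSection G Y → QStable p Y := by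
    intro Y _ _ hY
    obtain ⟨K, R, hR, ⟨e⟩⟩ := hY
    exact qStable_of_equiv e (qStable_of_nps (hst K R))
  have hsf := sf_sections (G := G) h𝓦 (fun X _ _ hX hC _ => by
    intro T B y hB hBy
    have hn := Cfsg.Agent.Lib.Helper17.zjA_normal_of_qstable hp (hQG X hX) hC T
    exact Reach.step hB ⟨zjAFun, rfl, rfl⟩
      (by
        show y ∈ Subgroup.normalizer
          ((Cfsg.inducedFunctor zjAFun (T : Subgroup X) : Subgroup X) : Set X)
        rw [inducedFunctor_zjAFun, Subgroup.normalizer_eq_top_iff.mpr hn]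
        exact Subgroup.mem_top y) hBy)
  rw [← inducedFunctor_zjAFun]
  obtain ⟨c, hc, hceq⟩ := hsf G (isSection_self G) S A g hA
    (by rintro _ ⟨a, ha, rfl⟩; exact hg a ha)
  refine ⟨c, ?_, fun a ha => (hceq a ha).symm⟩
  refine Cfsg.Agent.S3071.chain_mem_normalizer ?_ hc
  rintro _ ⟨W', hW', rfl⟩
  rw [Set.mem_singleton_iff] at hW'
  rw [hW']

end Cfsg.Agent.Lib.Helper19.SCQdZ
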