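import Mathlib
import Cfsg.Agent.Lib.Helper19.SCQdZ
import Cfsg.Agent.S3080
import Cfsg.Agent.Lib.Helper27.FactorSys

set_option autoImplicit false
set_option linter.unusedVariables false

/-!
The fusion system of a finite group not involving `Qd(p)` (`p` odd) on a Sylow `p`-subgroup is
solvable: modulo a strongly closed subgroup `R`, the image of the preimage of `Z(J)` of the Sylow
subgroup of `N_G(R)/R` is normal in the factor system.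
-/

namespace Cfsg.Agent.Lib.Helper19.FSolv

open Cfsg Cfsg.FusionSystem
open Cfsg.Agent.Lib.Helper27

universe u

variable {G : Type u} [Group G]

/-- The homomorphism induced on a subgroup of the image of `θ` by conjugation by `x`. -/
theorem exists_induced_conj {S R : Subgroup G} {Ω' : Type u} [Group Ω'] (θ : ↥S →* Ω')
    (hθs : Function.Surjective θ) (hθker : ∀ s : ↥S, θ s = 1 ↔ (s : G) ∈ R)
    (P'' : Subgroup Ω') (x : G) (hxR : ∀ r ∈ R, x * r * x⁻¹ ∈ R)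
    (hxS : ∀ y ∈ preimageAlong θ P'', x * y * x⁻¹ ∈ S) :
    ∃ ψ' : ↥P'' →* Ω',
      ∀ (s : ↥S) (hs : θ s ∈ P''),
        ψ' ⟨θ s, hs⟩ = θ ⟨x * (s : G) * x⁻¹, hxS _ (mem_preimageAlong.mpr ⟨s.2, hs⟩)⟩ := by
  classical
  obtain ⟨f₀, hf₀⟩ : ∃ f₀ : ↥(P''.comap θ) →* ↥P'', f₀ = θ.subgroupComap P'' := ⟨_, rfl⟩
  have hsurj : Function.Surjective f₀ := by
    rw [hf₀]
    exact MonoidHom.subgroupComap_surjective_of_surjective θ P'' hθs
  have hf₀val : ∀ s : ↥(P''.comap θ), ((f₀ s : ↥P'') : Ω') = θ (s : ↥S) := by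
    intro s; rw [hf₀]; rfl
  let gfun : ↥(P''.comap θ) →* Ω' :=
    { toFun := fun s => θ ⟨x * ((s : ↥S) : G) * x⁻¹,
        hxS _ (mem_preimageAlong.mpr ⟨(s : ↥S).2, s.2⟩)⟩
      map_one' := by
        have e : (⟨x * (((1 : ↥(P''.comap θ)) : ↥S) : G) * x⁻¹,
            hxS _ (mem_preimageAlong.mpr ⟨((1 : ↥(P''.comap θ)) : ↥S).2,
              (1 : ↥(P''.comap θ)).2⟩)⟩ : ↥S) = 1 := by
          apply Subtype.ext
          simp
        rw [e, map_one]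
      map_mul' := by
        intro a b
        rw [← map_mul]
        congr 1
        apply Subtype.ext
        simp only [Subgroup.coe_mul]
        group }
  have hgfun : ∀ s : ↥(P''.comap θ), gfun s = θ ⟨x * ((s : ↥S) : G) * x⁻¹,
      hxS _ (mem_preimageAlong.mpr ⟨(s : ↥S).2, s.2⟩)⟩ := fun s => rfl
  have hker : f₀.ker ≤ gfun.ker := by
    intro s hs
    rw [MonoidHom.mem_ker] at hs ⊢
    have h1 : θ (s : ↥S) = 1 := by
      rw [← hf₀val s, hs]; rfl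
    have h2 : ((s : ↥S) : G) ∈ R := (hθker _).mp h1
    rw [hgfun s]
    exact (hθker _).mpr (hxR _ h2)
  refine ⟨f₀.liftOfSurjective hsurj ⟨gfun, hker⟩, fun s hs => ?_⟩
  have h1 := MonoidHom.liftOfRightInverse_comp_apply f₀ (Function.surjInv hsurj)
    (Function.rightInverse_surjInv hsurj) ⟨gfun, hker⟩ ⟨s, hs⟩
  have h2 : f₀ ⟨s, hs⟩ = ⟨θ s, hs⟩ := Subtype.ext (hf₀val ⟨s, hs⟩)
  rw [h2] at h1
  exact h1

/-- The fusion system of a group not involving `Qd(p)` (`p` odd) on a Sylow `p`-subgroup is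
solvable. -/
theorem solvable_of_qd_free [Finite G] {p : ℕ} [Fact p.Prime] (hp : p ≠ 2)
    (hqd : ¬ Cfsg.Involves ↥(Cfsg.qd p) G) (P : Sylow p G) :
    (Cfsg.groupFusionSystem (P : Subgroup G)).IsSolvableSystem := by
  intro R hsc hRS hRn E hE
  obtain ⟨hRle, hker, hrange, hHom⟩ := hE
  have hSp : IsPGroup p (P : Subgroup G) := P.isPGroup'
  obtain ⟨θ, hθ⟩ : ∃ θ : ↥(P : Subgroup G) →* (↥(P : Subgroup G) ⧸ R.subgroupOf (P : Subgroup G)),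
      θ = QuotientGroup.mk' (R.subgroupOf (P : Subgroup G)) := ⟨_, rfl⟩
  rw [← hθ] at hker hrange hHom
  have hθs : Function.Surjective θ := hθ ▸ QuotientGroup.mk'_surjective _
  have hRnorm : ∀ s ∈ (P : Subgroup G), ∀ r ∈ R, s * r * s⁻¹ ∈ R := by
    intro s hs r hr
    have h1 := hRn.conj_mem ⟨r, hRle hr⟩ (Subgroup.mem_subgroupOf.mpr hr) ⟨s, hs⟩
    exact Subgroup.mem_subgroupOf.mp h1
  obtain ⟨N, hN⟩ : ∃ N : Subgroup G, N = Subgroup.normalizer (R : Set G) := ⟨_, rfl⟩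
  have hSN : (P : Subgroup G) ≤ N := by
    intro s hs
    rw [hN, Subgroup.mem_normalizer_iff]
    intro r
    refine ⟨hRnorm s hs r, fun h => ?_⟩
    have h1 := hRnorm s⁻¹ (inv_mem hs) _ h
    have e : s⁻¹ * (s * r * s⁻¹) * s⁻¹⁻¹ = r := by group
    rwa [e] at h1
  have hRN : R ≤ N := hN ▸ Subgroup.le_normalizer
  have hRNn : (R.subgroupOf N).Normal := by rw [hN]; infer_instance
  obtain ⟨π, hπ⟩ : ∃ π : ↥N →* (↥N ⧸ R.subgroupOf N), π = QuotientGroup.mk' (R.subgroupOf N) :=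
    ⟨_, rfl⟩
  have hπs : Function.Surjective π := hπ ▸ QuotientGroup.mk'_surjective _
  have hπker : ∀ n : ↥N, π n = 1 ↔ (n : G) ∈ R := by
    intro n
    rw [hπ]
    exact (QuotientGroup.eq_one_iff n).trans Subgroup.mem_subgroupOf
  have hqdQ : ¬ Cfsg.Involves ↥(Cfsg.qd p) (↥N ⧸ R.subgroupOf N) := fun h =>
    hqd (Cfsg.Agent.Lib.Helper17.involves_of_subgroup N
      (Cfsg.Agent.Lib.Helper17.involves_of_quotient _ h))
  have hfn : ¬ p ∣ (P : Subgroup G).relIndex N := fun hdvd =>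
    P.not_dvd_index (hdvd.trans (Subgroup.relIndex_dvd_index_of_le hSN))
  have hPsub : IsPGroup p ((P : Subgroup G).subgroupOf N) := hSp.comap_subtype
  obtain ⟨PN, hPN⟩ : ∃ PN : Sylow p ↥N, (PN : Subgroup ↥N) = (P : Subgroup G).subgroupOf N :=
    ⟨hPsub.toSylow hfn, rfl⟩
  obtain ⟨Pb, hPb⟩ : ∃ Pb : Sylow p (↥N ⧸ R.subgroupOf N),
      (Pb : Subgroup (↥N ⧸ R.subgroupOf N)) = ((P : Subgroup G).subgroupOf N).map π := by
    refine ⟨PN.mapSurjective hπs, ?_⟩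
    rw [Sylow.coe_mapSurjective, hPN]
  have hmemPb : ∀ n : ↥N, π n ∈ (Pb : Subgroup (↥N ⧸ R.subgroupOf N)) ↔
      (n : G) ∈ (P : Subgroup G) := by
    intro n
    rw [hPb]
    constructor
    · rintro ⟨s, hs, hsn⟩
      have h1 : π (s⁻¹ * n) = 1 := by rw [map_mul, map_inv, hsn, inv_mul_cancel]
      have h2 : (s : G)⁻¹ * (n : G) ∈ R := (hπker _).mp h1
      have e : (n : G) = (s : G) * ((s : G)⁻¹ * (n : G)) := by group
      rw [e]
      exact mul_mem (Subgroup.mem_subgroupOf.mp hs) (hRle h2)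
    · intro h
      exact Subgroup.mem_map_of_mem _ (Subgroup.mem_subgroupOf.mpr h)
  obtain ⟨Zb, hZb⟩ : ∃ Zb : Subgroup (↥N ⧸ R.subgroupOf N),
      Zb = Cfsg.centerThompsonAOf (Pb : Subgroup (↥N ⧸ R.subgroupOf N)) := ⟨_, rfl⟩
  have hZble : Zb ≤ (Pb : Subgroup (↥N ⧸ R.subgroupOf N)) := by
    rw [hZb, ← Cfsg.Agent.Lib.Helper6.sInf_famX_zero]
    exact Cfsg.Agent.S3080.sInf_famX_le 0 _
  have hPbne : (Pb : Subgroup (↥N ⧸ R.subgroupOf N)) ≠ ⊥ := by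
    intro hbot
    apply hRS
    apply le_antisymm hRle
    intro s hs
    have h1 : π ⟨s, hSN hs⟩ ∈ (Pb : Subgroup (↥N ⧸ R.subgroupOf N)) := (hmemPb _).mpr hs
    rw [hbot, Subgroup.mem_bot] at h1
    exact (hπker _).mp h1
  have hZbne : Zb ≠ ⊥ := by
    have h2 : sInf (Cfsg.Agent.Lib.Helper6.famX 0 (Pb : Subgroup (↥N ⧸ R.subgroupOf N))) ≠ ⊥ :=
      Cfsg.Agent.S3080.sInf_famX_ne_bot 0 (Or.inl rfl) _ Pb.isPGroup' hPbne
    rw [Cfsg.Agent.Lib.Helper6.sInf_famX_zero] at h2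
    rw [hZb]
    exact h2
  obtain ⟨W, hW⟩ : ∃ W : Subgroup G, W = (Zb.comap π).map N.subtype := ⟨_, rfl⟩
  have hmemW : ∀ w : G, w ∈ W ↔ ∃ h : w ∈ N, π ⟨w, h⟩ ∈ Zb := by
    intro w
    rw [hW]
    constructor
    · rintro ⟨n, hn, rfl⟩
      exact ⟨n.2, hn⟩
    · rintro ⟨h, hw⟩
      exact ⟨⟨w, h⟩, hw, rfl⟩
  have hWS : W ≤ (P : Subgroup G) := by
    intro w hw
    obtain ⟨h, hwZ⟩ := (hmemW w).mp hw
    exact (hmemPb ⟨w, h⟩).mp (hZble hwZ)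
  have hRW : R ≤ W := by
    intro r hr
    refine (hmemW r).mpr ⟨hRN hr, ?_⟩
    rw [(hπker ⟨r, hRN hr⟩).mpr hr]
    exact one_mem _
  obtain ⟨W', hW'⟩ : ∃ W' : Subgroup (↥(P : Subgroup G) ⧸ R.subgroupOf (P : Subgroup G)),
      W' = (W.subgroupOf (P : Subgroup G)).map θ := ⟨_, rfl⟩
  have hmemW' : ∀ s : ↥(P : Subgroup G), (s : G) ∈ W → θ s ∈ W' := by
    intro s hs
    rw [hW']
    exact Subgroup.mem_map_of_mem _ (Subgroup.mem_subgroupOf.mpr hs)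
  have hW'elim : ∀ v ∈ W', ∃ s : ↥(P : Subgroup G), (s : G) ∈ W ∧ θ s = v := by
    intro v hv
    rw [hW'] at hv
    obtain ⟨s, hs, rfl⟩ := hv
    exact ⟨s, Subgroup.mem_subgroupOf.mp hs, rfl⟩
  have hW'ne : W' ≠ ⊥ := by
    obtain ⟨zb, hzb, hzb1⟩ : ∃ zb ∈ Zb, zb ≠ 1 := by
      by_contra hcon
      push Not at hcon
      exact hZbne ((Subgroup.eq_bot_iff_forall _).mpr hcon)
    obtain ⟨n, rfl⟩ := hπs zb
    have hnW : (n : G) ∈ W := (hmemW _).mpr ⟨n.2, hzb⟩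
    have hnS := hWS hnW
    intro hbot
    have h1 : θ ⟨(n : G), hnS⟩ ∈ W' := hmemW' _ hnW
    rw [hbot, Subgroup.mem_bot] at h1
    exact hzb1 ((hπker n).mpr ((hker _).mp h1))
  suffices hnorm : E.IsNormal W' by
    intro hcore
    apply hW'ne
    have h1 : W' ≤ E.core := by
      unfold Cfsg.FusionSystem.core
      exact le_sSup hnorm
    rw [hcore] at h1
    exact le_bot_iff.mp h1
  refine ⟨le_top, fun P' φ' hφ' => ?_⟩
  obtain ⟨-, φ, hφ, hind⟩ := (hHom P' φ').mp hφ'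
  obtain ⟨hφS', hind'⟩ := inducedAlong_preimage_iff.mp hind
  obtain ⟨hP₁S, hφS, g, hg⟩ := hφ
  have hRP₁ : R ≤ preimageAlong θ P' := S₀_le_preimageAlong hker hRle P'
  have hgS : ∀ y ∈ preimageAlong θ P', g * y * g⁻¹ ∈ (P : Subgroup G) := by
    intro y hy
    have h1 := hφS ⟨y, hy⟩
    rwa [hg ⟨y, hy⟩] at h1
  have hgR : ∀ r ∈ R, g * r * g⁻¹ ∈ R := by
    intro r hr
    have hmem : conjHom R g ∈ (Cfsg.groupFusionSystem (P : Subgroup G)).Hom R :=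
      ⟨hRle, fun x => hgS _ (hRP₁ x.2), g, fun x => rfl⟩
    exact hsc.2 R le_rfl _ hmem ⟨r, hr⟩
  have hgN : g ∈ N := by
    rw [hN]
    apply Cfsg.Agent.Lib.Helper14.mem_normalizer_of_map_conj_eq
    apply Subgroup.eq_of_le_of_card_ge
    · rintro _ ⟨r, hr, rfl⟩
      show (MulAut.conj g).toMonoidHom r ∈ R
      simp only [MulEquiv.toMonoidHom_eq_coe, MonoidHom.coe_coe, MulAut.conj_apply]
      exact hgR r hr
    · rw [Cfsg.Agent.Lib.Helper14.card_map_conj]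
  obtain ⟨xb, hxbN, hxbeq⟩ := Cfsg.Agent.Lib.Helper19.SCQdZ.zjA_ctl hp hqdQ Pb
    {ab | ∃ (y : G) (hy : y ∈ preimageAlong θ P'), ab = π ⟨y, hSN (hP₁S hy)⟩}
    (by
      rintro _ ⟨y, hy, rfl⟩
      exact (hmemPb _).mpr (hP₁S hy))
    (π ⟨g, hgN⟩)
    (by
      rintro _ ⟨y, hy, rfl⟩
      have e : π ⟨g, hgN⟩ * π ⟨y, hSN (hP₁S hy)⟩ * (π ⟨g, hgN⟩)⁻¹ =
          π ⟨g * y * g⁻¹, hSN (hgS y hy)⟩ := by
        rw [← map_inv, ← map_mul, ← map_mul]; rfl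
      rw [e]
      exact (hmemPb _).mpr (hgS y hy))
  rw [← hZb] at hxbN
  obtain ⟨⟨x, hxN⟩, rfl⟩ := hπs xb
  have hxmod : ∀ y ∈ preimageAlong θ P', (g * y * g⁻¹)⁻¹ * (x * y * x⁻¹) ∈ R := by
    intro y hy
    have h1 := hxbeq (π ⟨y, hSN (hP₁S hy)⟩) ⟨y, hy, rfl⟩
    have h2 : π (((⟨g, hgN⟩ : ↥N) * ⟨y, hSN (hP₁S hy)⟩ * (⟨g, hgN⟩ : ↥N)⁻¹)⁻¹ *
        ((⟨x, hxN⟩ : ↥N) * ⟨y, hSN (hP₁S hy)⟩ * (⟨x, hxN⟩ : ↥N)⁻¹)) = 1 := by
      simp only [map_mul, map_inv]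
      rw [h1]
      group
    exact (hπker _).mp h2
  have hxbN' := Subgroup.mem_normalizer_iff.mp hxbN
  have hxW : ∀ w ∈ W, x * w * x⁻¹ ∈ W := by
    intro w hw
    obtain ⟨hwN, hwZ⟩ := (hmemW w).mp hw
    refine (hmemW _).mpr ⟨N.mul_mem (N.mul_mem hxN hwN) (N.inv_mem hxN), ?_⟩
    have h1 := (hxbN' (π ⟨w, hwN⟩)).mp hwZ
    have e : π ⟨x, hxN⟩ * π ⟨w, hwN⟩ * (π ⟨x, hxN⟩)⁻¹ =
        π ⟨x * w * x⁻¹, N.mul_mem (N.mul_mem hxN hwN) (N.inv_mem hxN)⟩ := by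
      rw [← map_inv, ← map_mul, ← map_mul]; rfl
    rwa [e] at h1
  have hxW' : ∀ w ∈ W, x⁻¹ * w * x ∈ W := by
    intro w hw
    obtain ⟨hwN, hwZ⟩ := (hmemW w).mp hw
    have hN' : x⁻¹ * w * x ∈ N := N.mul_mem (N.mul_mem (N.inv_mem hxN) hwN) hxN
    refine (hmemW _).mpr ⟨hN', ?_⟩
    apply (hxbN' (π ⟨x⁻¹ * w * x, hN'⟩)).mpr
    have e : π ⟨x, hxN⟩ * π ⟨x⁻¹ * w * x, hN'⟩ * (π ⟨x, hxN⟩)⁻¹ = π ⟨w, hwN⟩ := by
      rw [← map_inv, ← map_mul, ← map_mul]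
      congr 1
      apply Subtype.ext
      show x * (x⁻¹ * w * x) * x⁻¹ = w
      group
    rw [e]
    exact hwZ
  have hxR : ∀ r ∈ R, x * r * x⁻¹ ∈ R := fun r hr =>
    (Subgroup.mem_normalizer_iff.mp (hN ▸ hxN) r).mp hr
  obtain ⟨T, hT⟩ : ∃ T : Subgroup G, T = (P : Subgroup G) ⊓
      (P : Subgroup G).map (MulAut.conj x⁻¹).toMonoidHom := ⟨_, rfl⟩
  have hmemT : ∀ y : G, y ∈ T ↔ y ∈ (P : Subgroup G) ∧ x * y * x⁻¹ ∈ (P : Subgroup G) := by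
    intro y
    rw [hT, Subgroup.mem_inf, Cfsg.Agent.Lib.Helper14.mem_map_conj_iff, inv_inv]
  have hP₁T : preimageAlong θ P' ≤ T := by
    intro y hy
    refine (hmemT y).mpr ⟨hP₁S hy, ?_⟩
    have e : x * y * x⁻¹ = (g * y * g⁻¹) * ((g * y * g⁻¹)⁻¹ * (x * y * x⁻¹)) := by group
    rw [e]
    exact mul_mem (hgS y hy) (hRle (hxmod y hy))
  have hWT : W ≤ T := fun w hw => (hmemT w).mpr ⟨hWS hw, hWS (hxW w hw)⟩
  have hxS : ∀ y ∈ preimageAlong θ (P' ⊔ W'), x * y * x⁻¹ ∈ (P : Subgroup G) := by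
    intro y hy
    obtain ⟨hyS, hyθ⟩ := mem_preimageAlong.mp hy
    have hle : P' ⊔ W' ≤ (T.subgroupOf (P : Subgroup G)).map θ := by
      refine sup_le ?_ ?_
      · intro y' hy'
        obtain ⟨s, rfl⟩ := hθs y'
        exact Subgroup.mem_map_of_mem _
          (Subgroup.mem_subgroupOf.mpr (hP₁T (mem_preimageAlong.mpr ⟨s.2, hy'⟩)))
      · rw [hW']
        exact Subgroup.map_mono
          (fun s hs => Subgroup.mem_subgroupOf.mpr (hWT (Subgroup.mem_subgroupOf.mp hs)))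
    obtain ⟨t, ht, hty⟩ := hle hyθ
    have h1 : θ (t⁻¹ * ⟨y, hyS⟩) = 1 := by rw [map_mul, map_inv, hty, inv_mul_cancel]
    have h2 : (t : G)⁻¹ * y ∈ R := (hker _).mp h1
    have h3 : (t : G)⁻¹ * y ∈ T := hP₁T (hRP₁ h2)
    have h4 : y ∈ T := by
      have e : y = (t : G) * ((t : G)⁻¹ * y) := by group
      rw [e]
      exact T.mul_mem (Subgroup.mem_subgroupOf.mp ht) h3
    exact ((hmemT y).mp h4).2
  obtain ⟨ψ', hψ'⟩ := exists_induced_conj θ hθs hker (P' ⊔ W') x hxR hxS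
  have hψ'mem : ψ' ∈ E.Hom (P' ⊔ W') := by
    refine (hHom _ _).mpr ⟨le_top, conjHom (preimageAlong θ (P' ⊔ W')) x, ?_, ?_⟩
    · exact ⟨preimageAlong_le θ _, fun y => hxS _ y.2, x, fun y => rfl⟩
    · refine inducedAlong_preimage_iff.mpr ⟨fun y => hxS _ y.2, fun y => ?_⟩
      exact hψ' ⟨(y : G), preimageAlong_le θ _ y.2⟩ (theta_mem_of_mem_preimageAlong y)
  refine ⟨ψ', hψ'mem, ?_, ?_⟩
  · intro y'
    obtain ⟨y, rfl⟩ := exists_lift hrange le_top y'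
    have h1 := hind' y
    have h2 := hψ' ⟨(y : G), preimageAlong_le θ P' y.2⟩
      (Subgroup.mem_sup_left (theta_mem_of_mem_preimageAlong y))
    rw [h1]
    refine h2.trans ?_
    have h3 : θ ((⟨φ y, hφS' y⟩ : ↥(P : Subgroup G))⁻¹ *
        ⟨x * (y : G) * x⁻¹, hxS _ (mem_preimageAlong.mpr
          ⟨preimageAlong_le θ P' y.2, Subgroup.mem_sup_left (theta_mem_of_mem_preimageAlong y)⟩)⟩) = 1 :=
      (hker _).mpr (by
        show (φ y)⁻¹ * (x * (y : G) * x⁻¹) ∈ R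
        rw [hg y]
        exact hxmod y y.2)
    rw [map_mul, map_inv] at h3
    exact (inv_mul_eq_one.mp h3).symm
  · ext v
    constructor
    · rintro ⟨u, hu, rfl⟩
      obtain ⟨s, hsW, hsu⟩ := hW'elim _ (Subgroup.mem_subgroupOf.mp hu)
      have hsP'' : θ s ∈ P' ⊔ W' := by rw [hsu]; exact u.2
      have hu' : u = ⟨θ s, hsP''⟩ := Subtype.ext hsu.symm
      show ψ' u ∈ W'
      rw [hu', hψ' s hsP'']
      exact hmemW' _ (hxW _ hsW)
    · intro hv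
      obtain ⟨s, hsW, rfl⟩ := hW'elim v hv
      have ht : x⁻¹ * (s : G) * x ∈ W := hxW' _ hsW
      have htP'' : θ ⟨x⁻¹ * (s : G) * x, hWS ht⟩ ∈ P' ⊔ W' := Subgroup.mem_sup_right (hmemW' _ ht)
      refine ⟨⟨θ ⟨x⁻¹ * (s : G) * x, hWS ht⟩, htP''⟩,
        Subgroup.mem_subgroupOf.mpr (hmemW' _ ht), ?_⟩
      rw [hψ' _ htP'']
      congr 1
      apply Subtype.ext
      show x * (x⁻¹ * (s : G) * x) * x⁻¹ = (s : G)
      group

end Cfsg.Agent.Lib.Helper19.FSolv
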