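import Mathlib
import Cfsg.Agent.Lib.Helper10.Invol
import Cfsg.Agent.Lib.Helper19.SylowRel

set_option autoImplicit false

namespace Cfsg.Agent.Lib.Helper19.FixCrit

open Cfsg.Agent.Lib.Helper10 (invol_pow_semiconj invol_pow_semiconj' invol_mul_pow_even
  invol_mul_pow_odd conj_mul_self orderOf_two_mul_self)

variable {G : Type*} [Group G]

theorem mem_map_conj_iff (H : Subgroup G) (g x : G) :
    x ∈ H.map (MulAut.conj g).toMonoidHom ↔ g⁻¹ * x * g ∈ H := by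
  constructor
  · rintro ⟨y, hy, rfl⟩
    have : g⁻¹ * ((MulAut.conj g).toMonoidHom y) * g = y := by
      show g⁻¹ * (g * y * g⁻¹) * g = y
      group
    rw [this]; exact hy
  · intro h
    refine ⟨g⁻¹ * x * g, h, ?_⟩
    show g * (g⁻¹ * x * g) * g⁻¹ = x
    group

/-- `z` fixes exactly one coset of `H` -/
def Fix1 (z : G) (H : Subgroup G) : Prop := ∀ g : G, g⁻¹ * z * g ∈ H ↔ g ∈ H

/-- products of `z` with commuting conjugates fix exactly one coset of `H` -/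
def Fix2 (z : G) (H : Subgroup G) : Prop :=
  ∀ t : G, IsConj z t → t ≠ z → t * z = z * t → ∀ g : G, g⁻¹ * (z * t) * g ∈ H ↔ g ∈ H

variable {z : G} {H : Subgroup G}

theorem z_mem (h0 : Fix1 z H) : z ∈ H := by
  have := (h0 1).mpr (one_mem H)
  simpa using this

theorem conj_fix (h0 : Fix1 z H) (a g : G) : g⁻¹ * (a * z * a⁻¹) * g ∈ H ↔ a⁻¹ * g ∈ H := by
  rw [← h0 (a⁻¹ * g)]
  have : (a⁻¹ * g)⁻¹ * z * (a⁻¹ * g) = g⁻¹ * (a * z * a⁻¹) * g := by group
  rw [this]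

theorem cent_le (h0 : Fix1 z H) {c : G} (hc : c * z = z * c) : c ∈ H := by
  rw [← h0 c]
  have : c⁻¹ * z * c = z := by rw [mul_assoc, ← hc, inv_mul_cancel_left]
  rw [this]
  exact z_mem h0

theorem conj_fix2 (h1 : Fix2 z H) (a : G) (t₂ : G) (hc : IsConj z t₂) (hne : t₂ ≠ a * z * a⁻¹)
    (hcomm : t₂ * (a * z * a⁻¹) = (a * z * a⁻¹) * t₂) (g : G) :
    g⁻¹ * ((a * z * a⁻¹) * t₂) * g ∈ H ↔ a⁻¹ * g ∈ H := by
  have hc' : IsConj z (a⁻¹ * t₂ * a) := by
    obtain ⟨c, hc⟩ := isConj_iff.mp hc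
    rw [isConj_iff]
    exact ⟨a⁻¹ * c, by rw [← hc]; group⟩
  have hne' : a⁻¹ * t₂ * a ≠ z := by
    intro h
    apply hne
    rw [← h]; group
  have hcomm' : (a⁻¹ * t₂ * a) * z = z * (a⁻¹ * t₂ * a) := by
    have e1 : (a⁻¹ * t₂ * a) * z = a⁻¹ * (t₂ * (a * z * a⁻¹)) * a := by group
    have e2 : z * (a⁻¹ * t₂ * a) = a⁻¹ * ((a * z * a⁻¹) * t₂) * a := by group
    rw [e1, e2, hcomm]
  have h2 := h1 _ hc' hne' hcomm' (a⁻¹ * g)
  rw [← h2]
  have e : (a⁻¹ * g)⁻¹ * (z * (a⁻¹ * t₂ * a)) * (a⁻¹ * g) = g⁻¹ * ((a * z * a⁻¹) * t₂) * g := by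
    group
  rw [e]

theorem isConj_mul_pow {x y : G} (hx : x * x = 1) (hy : y * y = 1) (hzx : IsConj z x)
    (hzy : IsConj z y) (k : ℕ) : IsConj z (x * (x * y) ^ k) := by
  rcases Nat.even_or_odd' k with ⟨l, hl | hl⟩
  · rw [hl, invol_mul_pow_even hx hy l]
    exact hzx.trans (isConj_iff.mpr ⟨_, rfl⟩)
  · rw [hl, invol_mul_pow_odd hx hy l]
    exact hzy.trans (isConj_iff.mpr ⟨_, rfl⟩)

theorem isConj_conj (a : G) : IsConj z (a * z * a⁻¹) := isConj_iff.mpr ⟨a, rfl⟩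

/-- conjugates of `z` with different fixed points have a product of odd order -/
theorem odd_of_ne [Finite G] (hzz : z * z = 1) (h1 : Fix2 z H) (a b : G)
    (hab : a⁻¹ * b ∉ H) : ∃ k : ℕ, ((a * z * a⁻¹) * (b * z * b⁻¹)) ^ (2 * k + 1) = 1 := by
  obtain ⟨t, htdef⟩ : ∃ t : G, t = a * z * a⁻¹ := ⟨_, rfl⟩
  obtain ⟨i, hidef⟩ : ∃ i : G, i = b * z * b⁻¹ := ⟨_, rfl⟩
  rw [← htdef, ← hidef]
  have htt : t * t = 1 := by rw [htdef]; exact conj_mul_self hzz a
  have hii : i * i = 1 := by rw [hidef]; exact conj_mul_self hzz b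
  have hti : t⁻¹ = t := inv_eq_of_mul_eq_one_left htt
  have hiinv : i⁻¹ = i := inv_eq_of_mul_eq_one_left hii
  have hzt : IsConj z t := by rw [htdef]; exact isConj_conj a
  have hzi : IsConj z i := by rw [hidef]; exact isConj_conj b
  obtain ⟨n, hndef⟩ : ∃ n : ℕ, n = orderOf (t * i) := ⟨_, rfl⟩
  have hnpos : 0 < n := by rw [hndef]; exact orderOf_pos _
  rcases Nat.even_or_odd' n with ⟨k, hk | hk⟩
  · exfalso
    have hkpos : 0 < k := by omega
    obtain ⟨c, hcdef⟩ : ∃ c : G, c = (t * i) ^ k := ⟨_, rfl⟩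
    have hcc : c * c = 1 := by
      rw [hcdef, ← pow_add, ← two_mul, ← hk, hndef]; exact pow_orderOf_eq_one _
    have hc1 : c ≠ 1 := by
      rw [hcdef]
      apply pow_ne_one_of_lt_orderOf (by omega)
      rw [← hndef]; omega
    have hci : c⁻¹ = c := inv_eq_of_mul_eq_one_left hcc
    have htc : t * c = c * t := by
      have := invol_pow_semiconj htt hii k
      rw [← hcdef, hci] at this
      exact this
    have hic : i * c = c * i := by
      have := invol_pow_semiconj' htt hii k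
      rw [← hcdef, hci] at this
      exact this
    have hc2 : c = (i * t) ^ k := by
      rw [← hci, hcdef, ← inv_pow, mul_inv_rev, hti, hiinv]
    have hconj1 : IsConj z (t * c) := by
      rw [hcdef]; exact isConj_mul_pow htt hii hzt hzi k
    have hconj2 : IsConj z (i * c) := by
      rw [hc2]; exact isConj_mul_pow hii htt hzi hzt k
    have hne1 : t * c ≠ a * z * a⁻¹ := by
      rw [← htdef]
      intro h
      exact hc1 (mul_left_cancel (h.trans (mul_one t).symm))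
    have hne2 : i * c ≠ b * z * b⁻¹ := by
      rw [← hidef]
      intro h
      exact hc1 (mul_left_cancel (h.trans (mul_one i).symm))
    have hcm1 : (t * c) * (a * z * a⁻¹) = (a * z * a⁻¹) * (t * c) := by
      rw [← htdef, mul_assoc, ← htc]
    have hcm2 : (i * c) * (b * z * b⁻¹) = (b * z * b⁻¹) * (i * c) := by
      rw [← hidef, mul_assoc, ← hic]
    have f1 := conj_fix2 h1 a (t * c) hconj1 hne1 hcm1
    have f2 := conj_fix2 h1 b (i * c) hconj2 hne2 hcm2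
    rw [← htdef] at f1
    rw [← hidef] at f2
    have e1 : t * (t * c) = c := by rw [← mul_assoc, htt, one_mul]
    have e2 : i * (i * c) = c := by rw [← mul_assoc, hii, one_mul]
    rw [e1] at f1
    rw [e2] at f2
    have g1 : a⁻¹ * c * a ∈ H := (f1 a).mpr (by rw [inv_mul_cancel]; exact one_mem H)
    have g2 : b⁻¹ * a ∈ H := (f2 a).mp g1
    apply hab
    have : a⁻¹ * b = (b⁻¹ * a)⁻¹ := by group
    rw [this]
    exact H.inv_mem g2
  · exact ⟨k, by rw [← hk, hndef]; exact pow_orderOf_eq_one _⟩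

theorem invol_unique {s i i' : G} (h : i * s * i = i' * s * i') {k k' : ℕ}
    (hk : (s * i) ^ (2 * k + 1) = 1) (hk' : (s * i') ^ (2 * k' + 1) = 1) : i = i' := by
  have hsq : (s * i) ^ 2 = (s * i') ^ 2 := by
    rw [pow_two, pow_two]
    calc s * i * (s * i) = s * (i * s * i) := by group
      _ = s * (i' * s * i') := by rw [h]
      _ = s * i' * (s * i') := by group
  obtain ⟨K, hK⟩ : ∃ K, (2 * k + 1) * (2 * k' + 1) = 2 * K + 1 := ⟨2 * k * k' + k + k', by ring⟩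
  have e1 : (s * i) ^ (2 * K + 1) = 1 := by rw [← hK, pow_mul, hk, one_pow]
  have e2 : (s * i') ^ (2 * K + 1) = 1 := by rw [← hK, mul_comm, pow_mul, hk', one_pow]
  have f1 : s * i = ((s * i) ^ 2) ^ (K + 1) := by
    rw [← pow_mul]
    have : 2 * (K + 1) = 2 * K + 1 + 1 := by ring
    rw [this, pow_succ, e1, one_mul]
  have f2 : s * i' = ((s * i') ^ 2) ^ (K + 1) := by
    rw [← pow_mul]
    have : 2 * (K + 1) = 2 * K + 1 + 1 := by ring
    rw [this, pow_succ, e2, one_mul]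
  have : s * i = s * i' := by rw [f1, f2, hsq]
  exact mul_left_cancel this

theorem exists_invol {s t : G} (hs : s * s = 1) (ht : t * t = 1) {j : ℕ}
    (h : (s * t) ^ (2 * j + 1) = 1) :
    (s * (s * t) ^ (j + 1)) * (s * (s * t) ^ (j + 1)) = 1 ∧
      (s * (s * t) ^ (j + 1)) * s * (s * (s * t) ^ (j + 1)) = t := by
  obtain ⟨q, hq⟩ : ∃ q : G, q = (s * t) ^ (j + 1) := ⟨_, rfl⟩
  rw [← hq]
  have h1 : s * q = q⁻¹ * s := by rw [hq]; exact invol_pow_semiconj hs ht (j + 1)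
  have h2 : q * q = s * t := by
    rw [hq, ← pow_add]
    have : j + 1 + (j + 1) = 2 * j + 1 + 1 := by ring
    rw [this, pow_succ, h, one_mul]
  constructor
  · calc s * q * (s * q) = q⁻¹ * s * (s * q) := by rw [h1]
      _ = q⁻¹ * (s * s) * q := by group
      _ = 1 := by rw [hs]; group
  · calc s * q * s * (s * q) = s * q * (s * s) * q := by group
      _ = s * (q * q) := by rw [hs]; group
      _ = t := by rw [h2, ← mul_assoc, hs, one_mul]

theorem isPGroup_zpowers_of_sq {x : G} (hx : x * x = 1) : IsPGroup 2 (Subgroup.zpowers x) := by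
  rintro ⟨y, hy⟩
  obtain ⟨m, rfl⟩ := Subgroup.mem_zpowers_iff.mp hy
  refine ⟨1, Subtype.ext ?_⟩
  show (x ^ m) ^ (2 ^ 1) = 1
  rw [pow_one, ← zpow_natCast, ← zpow_mul, mul_comm, zpow_mul, zpow_natCast, pow_two, hx, one_zpow]

/-- the number of conjugates of `z` in `H` is odd -/
theorem card_odd [Finite G] (hzz : z * z = 1) (h0 : Fix1 z H) (h1 : Fix2 z H) (hH : H ≠ ⊤) :
    Odd (Nat.card {t : G // IsConj z t ∧ t ∈ H}) := by
  classical
  obtain ⟨g₀, hg₀⟩ : ∃ g₀ : G, g₀ ∉ H := by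
    by_contra h
    push Not at h
    exact hH ((Subgroup.eq_top_iff' H).mpr h)
  obtain ⟨s₀, hs₀def⟩ : ∃ s₀ : G, s₀ = g₀ * z * g₀⁻¹ := ⟨_, rfl⟩
  have hs₀ : s₀ * s₀ = 1 := by rw [hs₀def]; exact conj_mul_self hzz g₀
  have hzs₀ : IsConj z s₀ := by rw [hs₀def]; exact isConj_conj g₀
  -- facts about elements of X
  have hsq : ∀ i : G, IsConj z i → i * i = 1 := by
    intro i hi
    obtain ⟨b, rfl⟩ := isConj_iff.mp hi
    exact conj_mul_self hzz b
  have hinv : ∀ i : G, IsConj z i → i⁻¹ = i := fun i hi => inv_eq_of_mul_eq_one_left (hsq i hi)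
  have X1 : ∀ i : G, IsConj z i → (i * s₀ * i ∈ H ↔ g₀⁻¹ * i ∈ H) := by
    intro i hi
    rw [← h0 (g₀⁻¹ * i)]
    have e : i * s₀ * i = i⁻¹ * s₀ * i := by rw [hinv i hi]
    have : (g₀⁻¹ * i)⁻¹ * z * (g₀⁻¹ * i) = i * s₀ * i := by
      rw [e, hs₀def]
      group
    rw [this]
  have X2 : ∀ i : G, IsConj z i → IsConj z (i * s₀ * i) := by
    intro i hi
    have : i * s₀ * i = i * s₀ * i⁻¹ := by rw [hinv i hi]
    rw [this]
    exact hzs₀.trans (isConj_iff.mpr ⟨i, rfl⟩)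
  have X3 : ∀ i : G, IsConj z i → g₀⁻¹ * i ∈ H → ∃ k : ℕ, (s₀ * i) ^ (2 * k + 1) = 1 := by
    intro i hi hiH
    obtain ⟨b, rfl⟩ := isConj_iff.mp hi
    rw [hs₀def]
    apply odd_of_ne hzz h1 g₀ b
    intro hb
    apply hg₀
    have h2 : g₀⁻¹ * (b * z * b⁻¹) * g₀ ∈ H := by
      rw [conj_fix h0 b g₀]
      have : b⁻¹ * g₀ = (g₀⁻¹ * b)⁻¹ := by group
      rw [this]; exact H.inv_mem hb
    have h3 : g₀ = (g₀⁻¹ * (b * z * b⁻¹))⁻¹ * (g₀⁻¹ * (b * z * b⁻¹) * g₀) := by group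
    rw [h3]
    exact H.mul_mem (H.inv_mem hiH) h2
  -- the bijection
  let f : {i : G // IsConj z i ∧ g₀⁻¹ * i ∈ H} → {t : G // IsConj z t ∧ t ∈ H} :=
    fun i => ⟨i.1 * s₀ * i.1, X2 i.1 i.2.1, (X1 i.1 i.2.1).mpr i.2.2⟩
  have hfinj : Function.Injective f := by
    intro i i' hii'
    have h2 : i.1 * s₀ * i.1 = i'.1 * s₀ * i'.1 := congrArg Subtype.val hii'
    obtain ⟨k, hk⟩ := X3 i.1 i.2.1 i.2.2
    obtain ⟨k', hk'⟩ := X3 i'.1 i'.2.1 i'.2.2
    exact Subtype.ext (invol_unique h2 hk hk')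
  have hfsurj : Function.Surjective f := by
    rintro ⟨t, ht, htH⟩
    obtain ⟨a, rfl⟩ := isConj_iff.mp ht
    have haH : a⁻¹ ∈ H := by
      have := (conj_fix h0 a 1).mp (by simpa using htH)
      simpa using this
    have hne : g₀⁻¹ * a ∉ H := by
      intro h
      apply hg₀
      have : g₀ = ((g₀⁻¹ * a) * a⁻¹)⁻¹ := by group
      rw [this]
      exact H.inv_mem (H.mul_mem h haH)
    obtain ⟨j, hj⟩ := odd_of_ne hzz h1 g₀ a hne
    rw [← hs₀def] at hj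
    have htt : (a * z * a⁻¹) * (a * z * a⁻¹) = 1 := conj_mul_self hzz a
    obtain ⟨e1, e2⟩ := exists_invol hs₀ htt hj
    have hci : IsConj z (s₀ * (s₀ * (a * z * a⁻¹)) ^ (j + 1)) :=
      isConj_mul_pow hs₀ htt hzs₀ (isConj_conj a) (j + 1)
    refine ⟨⟨s₀ * (s₀ * (a * z * a⁻¹)) ^ (j + 1), hci, ?_⟩, ?_⟩
    · rw [← X1 _ hci, e2]; exact htH
    · exact Subtype.ext e2
  have hcard : Nat.card {i : G // IsConj z i ∧ g₀⁻¹ * i ∈ H} =
      Nat.card {t : G // IsConj z t ∧ t ∈ H} :=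
    Nat.card_congr (Equiv.ofBijective f ⟨hfinj, hfsurj⟩)
  rw [← hcard]
  -- parity
  obtain ⟨s₁, -⟩ := hfsurj ⟨z, IsConj.refl z, z_mem h0⟩
  have hs₁ : s₁.1 * s₁.1 = 1 := hsq s₁.1 s₁.2.1
  have hs₁i : s₁.1⁻¹ = s₁.1 := hinv s₁.1 s₁.2.1
  let κ : Function.End {i : G // IsConj z i ∧ g₀⁻¹ * i ∈ H} :=
    fun i => ⟨s₁.1 * i.1 * s₁.1, by
      have : s₁.1 * i.1 * s₁.1 = s₁.1 * i.1 * s₁.1⁻¹ := by rw [hs₁i]
      rw [this]
      exact i.2.1.trans (isConj_iff.mpr ⟨s₁.1, rfl⟩), by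
      have : g₀⁻¹ * (s₁.1 * i.1 * s₁.1) = (g₀⁻¹ * s₁.1) * ((g₀⁻¹ * i.1)⁻¹ * (g₀⁻¹ * s₁.1)) := by
        rw [mul_inv_rev, hinv i.1 i.2.1]
        group
      rw [this]
      exact H.mul_mem s₁.2.2 (H.mul_mem (H.inv_mem i.2.2) s₁.2.2)⟩
  have hκ : κ ^ 2 ^ 1 = 1 := by
    rw [pow_one, pow_two]
    funext i
    apply Subtype.ext
    show s₁.1 * (s₁.1 * i.1 * s₁.1) * s₁.1 = i.1
    calc s₁.1 * (s₁.1 * i.1 * s₁.1) * s₁.1 = (s₁.1 * s₁.1) * i.1 * (s₁.1 * s₁.1) := by group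
      _ = i.1 := by rw [hs₁, one_mul, mul_one]
  have hfix : ∀ i : {i : G // IsConj z i ∧ g₀⁻¹ * i ∈ H}, κ i = i → i = s₁ := by
    intro i hi
    by_contra hne
    have h2 : s₁.1 * i.1 * s₁.1 = i.1 := congrArg Subtype.val hi
    have hcomm : i.1 * s₁.1 = s₁.1 * i.1 := by
      calc i.1 * s₁.1 = (s₁.1 * i.1 * s₁.1) * s₁.1 := by rw [h2]
        _ = s₁.1 * i.1 * (s₁.1 * s₁.1) := by group
        _ = s₁.1 * i.1 := by rw [hs₁, mul_one]
    obtain ⟨b, hb⟩ := isConj_iff.mp s₁.2.1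
    have hne' : i.1 ≠ b * z * b⁻¹ := by
      rw [hb]
      intro h
      exact hne (Subtype.ext h)
    have hcm : i.1 * (b * z * b⁻¹) = (b * z * b⁻¹) * i.1 := by rw [hb]; exact hcomm
    have f1 := conj_fix2 h1 b i.1 i.2.1 hne' hcm 1
    rw [hb] at f1
    have h3 : s₁.1 * i.1 ∈ H := by
      have : s₁.1 * i.1 = (g₀⁻¹ * s₁.1)⁻¹ * (g₀⁻¹ * i.1) := by
        rw [mul_inv_rev, hs₁i]
        group
      rw [this]
      exact H.mul_mem (H.inv_mem s₁.2.2) i.2.2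
    have h4 : b⁻¹ ∈ H := by
      have := f1.mp (by simpa using h3)
      simpa using this
    have h5 : s₁.1 ∈ H := by
      rw [← hb]
      exact H.mul_mem (H.mul_mem (H.inv_mem h4 |> fun h => by simpa using h) (z_mem h0)) h4
    apply hg₀
    have : g₀ = s₁.1 * (g₀⁻¹ * s₁.1)⁻¹ := by group
    rw [this]
    exact H.mul_mem h5 (H.inv_mem s₁.2.2)
  have hfin : Fintype {i : G // IsConj z i ∧ g₀⁻¹ * i ∈ H} := Fintype.ofFinite _
  have hmod := Equiv.Perm.card_fixedPoints_modEq (p := 2) (n := 1) (f := κ) hκ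
  have hfp : Fintype.card ↥(Function.fixedPoints κ) = 1 := by
    rw [Fintype.card_eq_one_iff]
    refine ⟨⟨s₁, ?_⟩, ?_⟩
    · show κ s₁ = s₁
      apply Subtype.ext
      show s₁.1 * s₁.1 * s₁.1 = s₁.1
      rw [hs₁, one_mul]
    · rintro ⟨i, hi⟩
      exact Subtype.ext (hfix i hi)
  rw [hfp] at hmod
  rw [Nat.card_eq_fintype_card]
  exact Nat.odd_iff.mpr hmod

/-- a `2`-subgroup containing `z` lies in `H` -/
theorem pgroup_le [Finite G] (h0 : Fix1 z H) {Q : Subgroup G} (hQ : IsPGroup 2 Q) (hzQ : z ∈ Q) :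
    Q ≤ H := by
  have : Fact (Nat.Prime 2) := ⟨Nat.prime_two⟩
  have h1 : Q ≤ Q ⊓ H := by
    apply Cfsg.Agent.Lib.Helper19.pgroup_le_of_normalizer_inf_le inf_le_left hQ
    rintro n ⟨hn, hnQ⟩
    refine ⟨hnQ, ?_⟩
    have h2 : n * z * n⁻¹ ∈ Q ⊓ H :=
      (Subgroup.mem_normalizer_iff.mp hn z).mp ⟨hzQ, z_mem h0⟩
    have h3 : (n⁻¹)⁻¹ * z * n⁻¹ ∈ H := by rw [inv_inv]; exact h2.2
    have h4 := (h0 n⁻¹).mp h3
    simpa using H.inv_mem h4
  exact fun x hx => (h1 hx).2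

theorem two_central [Finite G] (hzz : z * z = 1) (h0 : Fix1 z H) (h1 : Fix2 z H) (hH : H ≠ ⊤) :
    ∃ P : Sylow 2 G, z ∈ (Subgroup.center ↥(P : Subgroup G)).map (P : Subgroup G).subtype := by
  have : Fact (Nat.Prime 2) := ⟨Nat.prime_two⟩
  obtain ⟨P, hP⟩ := (isPGroup_zpowers_of_sq hzz).exists_le_sylow
  have hzP : z ∈ (P : Subgroup G) := hP (Subgroup.mem_zpowers z)
  have hPH : (P : Subgroup G) ≤ H := pgroup_le h0 P.isPGroup' hzP
  have hodd := card_odd hzz h0 h1 hH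
  have hnd : ¬ 2 ∣ Nat.card {t : G // IsConj z t ∧ t ∈ H} := by
    intro h
    exact (Nat.not_even_iff_odd.mpr hodd) (even_iff_two_dvd.mpr h)
  let act : MulAction ↥(P : Subgroup G) {t : G // IsConj z t ∧ t ∈ H} :=
    { smul := fun p t => ⟨(p : G) * t.1 * (p : G)⁻¹, by
          obtain ⟨c, hc⟩ := isConj_iff.mp t.2.1
          exact isConj_iff.mpr ⟨(p : G) * c, by rw [← hc]; group⟩,
        H.mul_mem (H.mul_mem (hPH p.2) t.2.2) (H.inv_mem (hPH p.2))⟩
      one_smul := fun t => Subtype.ext (by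
        show ((1 : ↥(P : Subgroup G)) : G) * t.1 * ((1 : ↥(P : Subgroup G)) : G)⁻¹ = t.1
        simp)
      mul_smul := fun p q t => Subtype.ext (by
        show ((p * q : ↥(P : Subgroup G)) : G) * t.1 * ((p * q : ↥(P : Subgroup G)) : G)⁻¹ =
          (p : G) * ((q : G) * t.1 * (q : G)⁻¹) * (p : G)⁻¹
        simp [mul_assoc]) }
  obtain ⟨t, ht⟩ := @IsPGroup.nonempty_fixed_point_of_prime_not_dvd_card 2 ↥(P : Subgroup G) _
    P.isPGroup' _ {t : G // IsConj z t ∧ t ∈ H} act hnd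
  have hfix : ∀ p ∈ (P : Subgroup G), p * t.1 * p⁻¹ = t.1 := by
    intro p hp
    have h2 := (@MulAction.mem_fixedPoints _ _ _ act t).mp ht ⟨p, hp⟩
    exact congrArg Subtype.val h2
  obtain ⟨a, ha⟩ := isConj_iff.mp t.2.1
  have htt : t.1 * t.1 = 1 := by rw [← ha]; exact conj_mul_self hzz a
  have hcomm : ∀ p ∈ (P : Subgroup G), p * t.1 = t.1 * p := by
    intro p hp
    have h2 := hfix p hp
    calc p * t.1 = (p * t.1 * p⁻¹) * p := by group
      _ = t.1 * p := by rw [h2]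
  have htP : t.1 ∈ (P : Subgroup G) := by
    have h2 := (isPGroup_zpowers_of_sq htt).inf_normalizer_sylow P
    have h3 : t.1 ∈ Subgroup.zpowers t.1 ⊓ Subgroup.normalizer ((P : Subgroup G) : Set G) := by
      refine Subgroup.mem_inf.mpr ⟨Subgroup.mem_zpowers _, ?_⟩
      rw [Subgroup.mem_normalizer_iff]
      intro x
      constructor
      · intro hx
        have : t.1 * x * t.1⁻¹ = x := by rw [← hcomm x hx, mul_inv_cancel_right]
        rw [this]; exact hx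
      · intro hx
        have h4 := hcomm _ hx
        have : x = t.1 * x * t.1⁻¹ := by
          calc x = t.1⁻¹ * ((t.1 * x * t.1⁻¹) * t.1) := by group
            _ = t.1⁻¹ * (t.1 * (t.1 * x * t.1⁻¹)) := by rw [h4]
            _ = t.1 * x * t.1⁻¹ := by group
        rw [this]; exact hx
    exact (Subgroup.mem_inf.mp (h2.le h3)).2
  have hzQ : z ∈ ((a⁻¹ • P : Sylow 2 G) : Subgroup G) := by
    rw [Cfsg.Agent.Lib.Helper19.mem_smul_sylow_iff, inv_inv, ha]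
    exact htP
  refine ⟨a⁻¹ • P, ⟨⟨z, hzQ⟩, ?_, rfl⟩⟩
  rw [SetLike.mem_coe, Subgroup.mem_center_iff]
  rintro ⟨q, hq⟩
  apply Subtype.ext
  show q * z = z * q
  rw [Cfsg.Agent.Lib.Helper19.mem_smul_sylow_iff, inv_inv] at hq
  have h2 := hcomm _ hq
  rw [← ha] at h2
  calc q * z = a⁻¹ * ((a * q * a⁻¹) * (a * z * a⁻¹)) * a := by group
    _ = a⁻¹ * ((a * z * a⁻¹) * (a * q * a⁻¹)) * a := by rw [h2]
    _ = z * q := by group

theorem fix2_of_central [Finite G] (hzz : z * z = 1) (h0 : Fix1 z H) (P : Sylow 2 G)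
    (hzP : z ∈ (Subgroup.center ↥(P : Subgroup G)).map (P : Subgroup G).subtype)
    (hC : ∀ t : G, IsConj z t → t ≠ z → t * z = z * t →
      Subgroup.centralizer ({z * t} : Set G) ≤ H) : Fix2 z H := by
  have : Fact (Nat.Prime 2) := ⟨Nat.prime_two⟩
  obtain ⟨x, hx, hxz⟩ := hzP
  have hzP' : z ∈ (P : Subgroup G) := by rw [← hxz]; exact x.2
  have hzc : ∀ p ∈ (P : Subgroup G), p * z = z * p := by
    intro p hp
    have h2 := Subgroup.mem_center_iff.mp hx ⟨p, hp⟩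
    have h3 := congrArg Subtype.val h2
    rw [← hxz]
    exact h3
  have hPH : (P : Subgroup G) ≤ H := pgroup_le h0 P.isPGroup' hzP'
  intro t hct hne hcomm g
  have htt : t * t = 1 := by
    obtain ⟨b, rfl⟩ := isConj_iff.mp hct
    exact conj_mul_self hzz b
  constructor
  · intro hu
    obtain ⟨u, hudef⟩ : ∃ u : G, u = g⁻¹ * (z * t) * g := ⟨_, rfl⟩
    rw [← hudef] at hu
    have huu : u * u = 1 := by
      rw [hudef]
      calc g⁻¹ * (z * t) * g * (g⁻¹ * (z * t) * g) = g⁻¹ * (z * (t * z) * t) * g := by group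
        _ = g⁻¹ * (z * (z * t) * t) * g := by rw [hcomm]
        _ = g⁻¹ * ((z * z) * (t * t)) * g := by group
        _ = 1 := by rw [hzz, htt]; group
    have hidx : ¬ 2 ∣ (P : Subgroup G).relIndex H := by
      intro h
      apply P.not_dvd_index
      rw [← Subgroup.relIndex_mul_index hPH]
      exact Dvd.dvd.mul_right h _
    obtain ⟨k, hkH, hk⟩ := Cfsg.Agent.Lib.Helper19.exists_conj_le_of_not_dvd_relIndex hPH
      P.isPGroup' hidx ((Subgroup.zpowers_le).mpr hu) (isPGroup_zpowers_of_sq huu)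
    have h2 : k * u * k⁻¹ ∈ (P : Subgroup G) := hk u (Subgroup.mem_zpowers u)
    have h3 := hzc _ h2
    obtain ⟨y, hydef⟩ : ∃ y : G, y = g * k⁻¹ := ⟨_, rfl⟩
    have h4 : y * z * y⁻¹ ∈ Subgroup.centralizer ({z * t} : Set G) := by
      rw [Subgroup.mem_centralizer_iff]
      intro w hw
      rw [Set.mem_singleton_iff.mp hw]
      have e1 : z * t * (y * z * y⁻¹) = y * ((k * u * k⁻¹) * z) * y⁻¹ := by
        rw [hydef, hudef]; group
      have e2 : y * z * y⁻¹ * (z * t) = y * (z * (k * u * k⁻¹)) * y⁻¹ := by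
        rw [hydef, hudef]; group
      rw [e1, e2, h3]
    have h5 : y * z * y⁻¹ ∈ H := hC t hct hne hcomm h4
    have h6 : y⁻¹ ∈ H := by
      apply (h0 y⁻¹).mp
      rw [inv_inv]; exact h5
    have h7 : g = (k⁻¹ * y⁻¹)⁻¹ := by rw [hydef]; group
    rw [h7]
    exact H.inv_mem (H.mul_mem (H.inv_mem hkH) h6)
  · intro hg
    have hz := z_mem h0
    have ht : t ∈ H := cent_le h0 hcomm
    exact H.mul_mem (H.mul_mem (H.inv_mem hg) (H.mul_mem hz ht)) hg

end Cfsg.Agent.Lib.Helper19.FixCrit
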