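import Mathlib

set_option autoImplicit false

namespace Cfsg.Agent.Lib.Helper19.GLTwoPart

open Finset

theorem val_odd_exp {q : ℕ} (hq : Odd q) (h1 : 1 < q) (k : ℕ) :
    padicValNat 2 (q ^ (2 * k + 1) - 1) = padicValNat 2 (q - 1) := by
  have hgeo : (∑ i ∈ range (2 * k + 1), q ^ i) * (q - 1) = q ^ (2 * k + 1) - 1 :=
    geom_sum_mul_of_one_le h1.le _
  have hodd : Odd (∑ i ∈ range (2 * k + 1), q ^ i) := by
    rw [Finset.odd_sum_iff_odd_card_odd]
    have hfil : (range (2 * k + 1)).filter (fun i => Odd (q ^ i)) = range (2 * k + 1) :=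
      Finset.filter_true_of_mem (fun i _ => hq.pow)
    rw [hfil, card_range]
    exact odd_two_mul_add_one k
  have hS0 : (∑ i ∈ range (2 * k + 1), q ^ i) ≠ 0 := by
    intro h
    rw [h] at hodd
    exact Nat.not_odd_zero hodd
  have hq1 : q - 1 ≠ 0 := by omega
  have hnd : ¬ 2 ∣ ∑ i ∈ range (2 * k + 1), q ^ i :=
    fun h => (Nat.not_even_iff_odd.mpr hodd) (even_iff_two_dvd.mpr h)
  rw [← hgeo, padicValNat.mul hS0 hq1, padicValNat.eq_zero_of_not_dvd hnd, zero_add]

theorem val_even_exp {q : ℕ} (hq : Odd q) (h1 : 1 < q) (k : ℕ) :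
    padicValNat 2 (q ^ (2 * (k + 1)) - 1) =
      padicValNat 2 (q ^ 2 - 1) + padicValNat 2 (k + 1) := by
  have hq2 : ¬ 2 ∣ q := fun h => (Nat.not_even_iff_odd.mpr hq) (even_iff_two_dvd.mpr h)
  have e1 := padicValNat.pow_two_sub_one h1 hq2 (n := 2 * (k + 1)) (by omega) (even_two_mul _)
  have e2 := padicValNat.pow_two_sub_one h1 hq2 (n := 2) (by omega) even_two
  have e4 : padicValNat 2 2 = 1 := padicValNat.self (by norm_num)
  have e3 : padicValNat 2 (2 * (k + 1)) = 1 + padicValNat 2 (k + 1) := by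
    rw [padicValNat.mul (by omega) (by omega), e4]
  omega

theorem sum_val {q : ℕ} (hq : Odd q) (h1 : 1 < q) (m : ℕ) :
    ∑ j ∈ range (2 * m), padicValNat 2 (q ^ (j + 1) - 1) =
      m * (padicValNat 2 (q - 1) + padicValNat 2 (q ^ 2 - 1)) + padicValNat 2 (m.factorial) := by
  induction m with
  | zero => simp
  | succ m ih =>
    have h2 : 2 * (m + 1) = 2 * m + 1 + 1 := by ring
    rw [h2, Finset.sum_range_succ, Finset.sum_range_succ, ih]
    have o := val_odd_exp hq h1 m
    have e : padicValNat 2 (q ^ (2 * m + 1 + 1) - 1) =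
        padicValNat 2 (q ^ 2 - 1) + padicValNat 2 (m + 1) := by
      rw [← h2]
      exact val_even_exp hq h1 m
    have f : padicValNat 2 ((m + 1).factorial) =
        padicValNat 2 (m + 1) + padicValNat 2 (m.factorial) := by
      rw [Nat.factorial_succ, padicValNat.mul (by omega) (Nat.factorial_ne_zero m)]
    rw [o, e, f]
    ring

theorem gl_val {F : Type*} [Field F] [Fintype F] (hF : Odd (Fintype.card F)) (n : ℕ) :
    (Nat.card (Matrix.GeneralLinearGroup (Fin n) F)).factorization 2 =
      ∑ j ∈ range n, padicValNat 2 ((Fintype.card F) ^ (j + 1) - 1) := by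
  classical
  have h1 : 1 < Fintype.card F := Fintype.one_lt_card
  have hq2 : ¬ 2 ∣ Fintype.card F :=
    fun h => (Nat.not_even_iff_odd.mpr hF) (even_iff_two_dvd.mpr h)
  have hne : ∀ i ∈ (Finset.univ : Finset (Fin n)),
      Fintype.card F ^ n - Fintype.card F ^ (i : ℕ) ≠ 0 := fun i _ => by
    have : Fintype.card F ^ (i : ℕ) < Fintype.card F ^ n := Nat.pow_lt_pow_right h1 i.2
    omega
  rw [Matrix.card_GL_field, Nat.factorization_prod hne, Finsupp.finsetSum_apply,
    Fin.sum_univ_eq_sum_range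
      (fun i => (Fintype.card F ^ n - Fintype.card F ^ i).factorization 2) n]
  refine (Finset.sum_range_reflect
    (fun i => (Fintype.card F ^ n - Fintype.card F ^ i).factorization 2) n).symm.trans ?_
  apply Finset.sum_congr rfl
  intro j hj
  have hj' : j < n := Finset.mem_range.mp hj
  show (Fintype.card F ^ n - Fintype.card F ^ (n - 1 - j)).factorization 2 = _
  have hsplit : Fintype.card F ^ n - Fintype.card F ^ (n - 1 - j) =
      Fintype.card F ^ (n - 1 - j) * (Fintype.card F ^ (j + 1) - 1) := by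
    have hn : n = (n - 1 - j) + (j + 1) := by omega
    rw [Nat.mul_sub, mul_one, ← pow_add, ← hn]
  have hpos : 1 < Fintype.card F ^ (j + 1) := Nat.one_lt_pow (by omega) h1
  have hne1 : Fintype.card F ^ (j + 1) - 1 ≠ 0 := by omega
  have hne2 : Fintype.card F ^ (n - 1 - j) ≠ 0 := pow_ne_zero _ (by omega)
  rw [hsplit, Nat.factorization_mul hne2 hne1, Finsupp.add_apply, Nat.factorization_pow,
    Finsupp.smul_apply, Nat.factorization_eq_zero_of_not_dvd hq2, smul_zero, zero_add,
    Nat.factorization_def _ Nat.prime_two]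

/-- The 2-part of `|GL_{2m}(F)|` for a finite field `F` of odd order. -/
theorem gl_even_two_part {F : Type*} [Field F] [Fintype F] (hF : Odd (Fintype.card F)) (m : ℕ) :
    (Nat.card (Matrix.GeneralLinearGroup (Fin (2 * m)) F)).factorization 2 =
      m * (Nat.card (Matrix.GeneralLinearGroup (Fin 2) F)).factorization 2 +
        (m.factorial).factorization 2 := by
  have h1 : 1 < Fintype.card F := Fintype.one_lt_card
  have h2 : ∑ j ∈ range 2, padicValNat 2 ((Fintype.card F) ^ (j + 1) - 1) =
      padicValNat 2 (Fintype.card F - 1) + padicValNat 2 (Fintype.card F ^ 2 - 1) := by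
    rw [Finset.sum_range_succ, Finset.sum_range_one]
    simp
  rw [gl_val hF (2 * m), gl_val hF 2, sum_val hF h1 m, h2,
    Nat.factorization_def _ Nat.prime_two]

end Cfsg.Agent.Lib.Helper19.GLTwoPart
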