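import Cfsg.Agent.Lib.Helper13.HCTData

set_option autoImplicit false

namespace Cfsg.Agent.Lib.Helper19.HCTGen

open Cfsg.Agent.Lib.Helper13

theorem st_0 : HCT.mraw 0 * HCT.mraw 0 = (1 : Matrix (Fin 5) (Fin 5) (ZMod 2)) := by decide

theorem st_1 : HCT.mraw 1 * HCT.mraw 1 = (1 : Matrix (Fin 5) (Fin 5) (ZMod 2)) := by decide

theorem st_2 : HCT.mraw 2 * HCT.mraw 2 = (1 : Matrix (Fin 5) (Fin 5) (ZMod 2)) := by decide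

theorem st_3 : HCT.mraw 3 * HCT.mraw 3 = (1 : Matrix (Fin 5) (Fin 5) (ZMod 2)) := by decide

theorem st_4 : HCT.mraw 4 * HCT.mraw 4 = (1 : Matrix (Fin 5) (Fin 5) (ZMod 2)) := by decide

theorem st_5 : HCT.mraw 5 * HCT.mraw 5 = (1 : Matrix (Fin 5) (Fin 5) (ZMod 2)) := by decide

theorem st_6 : HCT.mraw 6 * HCT.mraw 6 = (1 : Matrix (Fin 5) (Fin 5) (ZMod 2)) := by decide

theorem st_7 : HCT.mraw 0 * HCT.mraw 1 = (!![1, 0, 1, 0, 0; 0, 1, 0, 0, 0; 0, 0, 0, 0, 1; 0, 1, 1, 1, 1; 0, 1, 1, 0, 0] : Matrix (Fin 5) (Fin 5) (ZMod 2)) := by decide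

theorem st_8 : HCT.mraw 1 * (!![1, 0, 1, 0, 0; 0, 1, 0, 0, 0; 0, 0, 0, 0, 1; 0, 1, 1, 1, 1; 0, 1, 1, 0, 0] : Matrix (Fin 5) (Fin 5) (ZMod 2)) = (!![1, 1, 1, 0, 0; 0, 1, 0, 0, 0; 0, 0, 1, 0, 0; 0, 1, 0, 1, 0; 0, 1, 0, 0, 1] : Matrix (Fin 5) (Fin 5) (ZMod 2)) := by decide

theorem st_9 : HCT.mraw 0 * (!![1, 1, 1, 0, 0; 0, 1, 0, 0, 0; 0, 0, 1, 0, 0; 0, 1, 0, 1, 0; 0, 1, 0, 0, 1] : Matrix (Fin 5) (Fin 5) (ZMod 2)) = (!![1, 0, 1, 0, 1; 0, 1, 0, 0, 0; 0, 1, 1, 0, 0; 0, 1, 0, 1, 0; 0, 1, 0, 0, 1] : Matrix (Fin 5) (Fin 5) (ZMod 2)) := by decide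

theorem st_10 : HCT.mraw 1 * (!![1, 0, 1, 0, 1; 0, 1, 0, 0, 0; 0, 1, 1, 0, 0; 0, 1, 0, 1, 0; 0, 1, 0, 0, 1] : Matrix (Fin 5) (Fin 5) (ZMod 2)) = (!![1, 1, 1, 0, 1; 0, 1, 0, 0, 0; 0, 0, 0, 0, 1; 0, 0, 1, 1, 1; 0, 0, 1, 0, 0] : Matrix (Fin 5) (Fin 5) (ZMod 2)) := by decide

theorem st_11 : HCT.mraw 0 * (!![1, 1, 1, 0, 1; 0, 1, 0, 0, 0; 0, 0, 0, 0, 1; 0, 0, 1, 1, 1; 0, 0, 1, 0, 0] : Matrix (Fin 5) (Fin 5) (ZMod 2)) = (!![1, 1, 0, 0, 1; 0, 1, 0, 0, 0; 0, 1, 0, 0, 1; 0, 0, 1, 1, 1; 0, 0, 1, 0, 0] : Matrix (Fin 5) (Fin 5) (ZMod 2)) := by decide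

theorem st_12 : HCT.mraw 1 * (!![1, 1, 0, 0, 1; 0, 1, 0, 0, 0; 0, 1, 0, 0, 1; 0, 0, 1, 1, 1; 0, 0, 1, 0, 0] : Matrix (Fin 5) (Fin 5) (ZMod 2)) = (!![1, 0, 0, 0, 1; 0, 1, 0, 0, 0; 0, 1, 1, 0, 0; 0, 0, 0, 1, 0; 0, 0, 0, 0, 1] : Matrix (Fin 5) (Fin 5) (ZMod 2)) := by decide

theorem st_13 : HCT.mraw 0 * (!![1, 0, 0, 0, 1; 0, 1, 0, 0, 0; 0, 1, 1, 0, 0; 0, 0, 0, 1, 0; 0, 0, 0, 0, 1] : Matrix (Fin 5) (Fin 5) (ZMod 2)) = (1 : Matrix (Fin 5) (Fin 5) (ZMod 2)) := by decide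

theorem st_14 : HCT.mraw 0 * HCT.mraw 2 = (!![1, 1, 0, 0, 1; 0, 1, 0, 0, 0; 0, 1, 1, 0, 1; 0, 0, 0, 1, 0; 0, 0, 0, 0, 1] : Matrix (Fin 5) (Fin 5) (ZMod 2)) := by decide

theorem st_15 : HCT.mraw 2 * (!![1, 1, 0, 0, 1; 0, 1, 0, 0, 0; 0, 1, 1, 0, 1; 0, 0, 0, 1, 0; 0, 0, 0, 0, 1] : Matrix (Fin 5) (Fin 5) (ZMod 2)) = (!![1, 0, 0, 0, 1; 0, 1, 0, 0, 0; 0, 1, 1, 0, 0; 0, 0, 0, 1, 0; 0, 0, 0, 0, 1] : Matrix (Fin 5) (Fin 5) (ZMod 2)) := by decide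

theorem st_16 : HCT.mraw 0 * HCT.mraw 3 = (!![1, 0, 0, 0, 1; 0, 1, 0, 0, 0; 0, 1, 1, 0, 0; 0, 1, 0, 1, 0; 0, 0, 0, 0, 1] : Matrix (Fin 5) (Fin 5) (ZMod 2)) := by decide

theorem st_17 : HCT.mraw 3 * (!![1, 0, 0, 0, 1; 0, 1, 0, 0, 0; 0, 1, 1, 0, 0; 0, 1, 0, 1, 0; 0, 0, 0, 0, 1] : Matrix (Fin 5) (Fin 5) (ZMod 2)) = (!![1, 0, 0, 0, 1; 0, 1, 0, 0, 0; 0, 1, 1, 0, 0; 0, 0, 0, 1, 0; 0, 0, 0, 0, 1] : Matrix (Fin 5) (Fin 5) (ZMod 2)) := by decide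

theorem st_18 : HCT.mraw 0 * HCT.mraw 4 = (!![1, 0, 0, 1, 0; 0, 1, 0, 0, 0; 0, 1, 1, 0, 0; 0, 0, 0, 1, 0; 0, 0, 0, 0, 1] : Matrix (Fin 5) (Fin 5) (ZMod 2)) := by decide

theorem st_19 : HCT.mraw 4 * (!![1, 0, 0, 1, 0; 0, 1, 0, 0, 0; 0, 1, 1, 0, 0; 0, 0, 0, 1, 0; 0, 0, 0, 0, 1] : Matrix (Fin 5) (Fin 5) (ZMod 2)) = (!![1, 0, 0, 0, 1; 0, 1, 0, 0, 0; 0, 1, 1, 0, 0; 0, 0, 0, 1, 0; 0, 0, 0, 0, 1] : Matrix (Fin 5) (Fin 5) (ZMod 2)) := by decide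

theorem st_20 : HCT.mraw 0 * HCT.mraw 5 = (!![1, 1, 0, 0, 0; 0, 1, 0, 0, 0; 0, 1, 1, 0, 1; 0, 0, 0, 1, 1; 0, 0, 0, 0, 1] : Matrix (Fin 5) (Fin 5) (ZMod 2)) := by decide

theorem st_21 : HCT.mraw 5 * (!![1, 1, 0, 0, 0; 0, 1, 0, 0, 0; 0, 1, 1, 0, 1; 0, 0, 0, 1, 1; 0, 0, 0, 0, 1] : Matrix (Fin 5) (Fin 5) (ZMod 2)) = (!![1, 0, 0, 0, 1; 0, 1, 0, 0, 0; 0, 1, 1, 0, 0; 0, 0, 0, 1, 0; 0, 0, 0, 0, 1] : Matrix (Fin 5) (Fin 5) (ZMod 2)) := by decide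

theorem st_22 : HCT.mraw 0 * HCT.mraw 6 = (!![1, 1, 0, 0, 1; 0, 1, 0, 0, 0; 0, 0, 1, 1, 0; 0, 0, 0, 1, 0; 0, 0, 0, 0, 1] : Matrix (Fin 5) (Fin 5) (ZMod 2)) := by decide

theorem st_23 : HCT.mraw 6 * (!![1, 1, 0, 0, 1; 0, 1, 0, 0, 0; 0, 0, 1, 1, 0; 0, 0, 0, 1, 0; 0, 0, 0, 0, 1] : Matrix (Fin 5) (Fin 5) (ZMod 2)) = (!![1, 0, 0, 0, 1; 0, 1, 0, 0, 0; 0, 1, 1, 0, 0; 0, 0, 0, 1, 0; 0, 0, 0, 0, 1] : Matrix (Fin 5) (Fin 5) (ZMod 2)) := by decide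

theorem st_24 : HCT.mraw 1 * HCT.mraw 2 = (!![1, 0, 0, 0, 0; 0, 1, 0, 0, 0; 0, 1, 0, 0, 1; 0, 1, 1, 1, 0; 0, 1, 1, 0, 1] : Matrix (Fin 5) (Fin 5) (ZMod 2)) := by decide

theorem st_25 : HCT.mraw 2 * (!![1, 0, 0, 0, 0; 0, 1, 0, 0, 0; 0, 1, 0, 0, 1; 0, 1, 1, 1, 0; 0, 1, 1, 0, 1] : Matrix (Fin 5) (Fin 5) (ZMod 2)) = (!![1, 1, 0, 0, 0; 0, 1, 0, 0, 0; 0, 0, 1, 0, 0; 0, 1, 1, 1, 0; 0, 1, 1, 0, 1] : Matrix (Fin 5) (Fin 5) (ZMod 2)) := by decide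

theorem st_26 : HCT.mraw 1 * (!![1, 1, 0, 0, 0; 0, 1, 0, 0, 0; 0, 0, 1, 0, 0; 0, 1, 1, 1, 0; 0, 1, 1, 0, 1] : Matrix (Fin 5) (Fin 5) (ZMod 2)) = (!![1, 0, 0, 0, 0; 0, 1, 0, 0, 0; 0, 0, 1, 0, 1; 0, 1, 1, 1, 1; 0, 1, 1, 0, 0] : Matrix (Fin 5) (Fin 5) (ZMod 2)) := by decide

theorem st_27 : HCT.mraw 2 * (!![1, 0, 0, 0, 0; 0, 1, 0, 0, 0; 0, 0, 1, 0, 1; 0, 1, 1, 1, 1; 0, 1, 1, 0, 0] : Matrix (Fin 5) (Fin 5) (ZMod 2)) = (!![1, 1, 0, 0, 0; 0, 1, 0, 0, 0; 0, 1, 0, 0, 1; 0, 1, 1, 1, 1; 0, 1, 1, 0, 0] : Matrix (Fin 5) (Fin 5) (ZMod 2)) := by decide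

theorem st_28 : HCT.mraw 1 * (!![1, 1, 0, 0, 0; 0, 1, 0, 0, 0; 0, 1, 0, 0, 1; 0, 1, 1, 1, 1; 0, 1, 1, 0, 0] : Matrix (Fin 5) (Fin 5) (ZMod 2)) = (1 : Matrix (Fin 5) (Fin 5) (ZMod 2)) := by decide

theorem st_29 : HCT.mraw 1 * HCT.mraw 3 = (!![1, 1, 0, 0, 0; 0, 1, 0, 0, 0; 0, 1, 0, 0, 1; 0, 0, 1, 1, 1; 0, 1, 1, 0, 0] : Matrix (Fin 5) (Fin 5) (ZMod 2)) := by decide

theorem st_30 : HCT.mraw 3 * (!![1, 1, 0, 0, 0; 0, 1, 0, 0, 0; 0, 1, 0, 0, 1; 0, 0, 1, 1, 1; 0, 1, 1, 0, 0] : Matrix (Fin 5) (Fin 5) (ZMod 2)) = (!![1, 1, 0, 0, 0; 0, 1, 0, 0, 0; 0, 1, 0, 0, 1; 0, 1, 1, 1, 1; 0, 1, 1, 0, 0] : Matrix (Fin 5) (Fin 5) (ZMod 2)) := by decide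

theorem st_31 : HCT.mraw 1 * HCT.mraw 4 = (!![1, 1, 0, 1, 1; 0, 1, 0, 0, 0; 0, 1, 0, 0, 1; 0, 1, 1, 1, 1; 0, 1, 1, 0, 0] : Matrix (Fin 5) (Fin 5) (ZMod 2)) := by decide

theorem st_32 : HCT.mraw 4 * (!![1, 1, 0, 1, 1; 0, 1, 0, 0, 0; 0, 1, 0, 0, 1; 0, 1, 1, 1, 1; 0, 1, 1, 0, 0] : Matrix (Fin 5) (Fin 5) (ZMod 2)) = (!![1, 1, 0, 0, 0; 0, 1, 0, 0, 0; 0, 1, 0, 0, 1; 0, 1, 1, 1, 1; 0, 1, 1, 0, 0] : Matrix (Fin 5) (Fin 5) (ZMod 2)) := by decide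

theorem st_33 : HCT.mraw 1 * HCT.mraw 5 = (!![1, 0, 0, 0, 1; 0, 1, 0, 0, 0; 0, 1, 0, 0, 1; 0, 1, 1, 1, 1; 0, 1, 1, 0, 1] : Matrix (Fin 5) (Fin 5) (ZMod 2)) := by decide

theorem st_34 : HCT.mraw 5 * (!![1, 0, 0, 0, 1; 0, 1, 0, 0, 0; 0, 1, 0, 0, 1; 0, 1, 1, 1, 1; 0, 1, 1, 0, 1] : Matrix (Fin 5) (Fin 5) (ZMod 2)) = (!![1, 0, 1, 0, 0; 0, 1, 0, 0, 0; 0, 0, 1, 0, 0; 0, 0, 0, 1, 0; 0, 1, 1, 0, 1] : Matrix (Fin 5) (Fin 5) (ZMod 2)) := by decide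

theorem st_35 : HCT.mraw 1 * (!![1, 0, 1, 0, 0; 0, 1, 0, 0, 0; 0, 0, 1, 0, 0; 0, 0, 0, 1, 0; 0, 1, 1, 0, 1] : Matrix (Fin 5) (Fin 5) (ZMod 2)) = (!![1, 1, 1, 0, 0; 0, 1, 0, 0, 0; 0, 0, 1, 0, 1; 0, 0, 0, 1, 1; 0, 1, 1, 0, 0] : Matrix (Fin 5) (Fin 5) (ZMod 2)) := by decide

theorem st_36 : HCT.mraw 5 * (!![1, 1, 1, 0, 0; 0, 1, 0, 0, 0; 0, 0, 1, 0, 1; 0, 0, 0, 1, 1; 0, 1, 1, 0, 0] : Matrix (Fin 5) (Fin 5) (ZMod 2)) = (!![1, 1, 0, 0, 0; 0, 1, 0, 0, 0; 0, 1, 0, 0, 1; 0, 1, 1, 1, 1; 0, 1, 1, 0, 0] : Matrix (Fin 5) (Fin 5) (ZMod 2)) := by decide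

theorem st_37 : HCT.mraw 1 * HCT.mraw 6 = (!![1, 0, 0, 0, 0; 0, 1, 0, 0, 0; 0, 1, 0, 0, 1; 0, 0, 1, 0, 1; 0, 0, 1, 1, 0] : Matrix (Fin 5) (Fin 5) (ZMod 2)) := by decide

theorem st_38 : HCT.mraw 6 * (!![1, 0, 0, 0, 0; 0, 1, 0, 0, 0; 0, 1, 0, 0, 1; 0, 0, 1, 0, 1; 0, 0, 1, 1, 0] : Matrix (Fin 5) (Fin 5) (ZMod 2)) = (!![1, 1, 0, 0, 0; 0, 1, 0, 0, 0; 0, 0, 1, 0, 0; 0, 0, 1, 0, 1; 0, 0, 1, 1, 0] : Matrix (Fin 5) (Fin 5) (ZMod 2)) := by decide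

theorem st_39 : HCT.mraw 1 * (!![1, 1, 0, 0, 0; 0, 1, 0, 0, 0; 0, 0, 1, 0, 0; 0, 0, 1, 0, 1; 0, 0, 1, 1, 0] : Matrix (Fin 5) (Fin 5) (ZMod 2)) = (!![1, 0, 0, 0, 0; 0, 1, 0, 0, 0; 0, 1, 1, 1, 0; 0, 1, 1, 1, 1; 0, 1, 1, 0, 0] : Matrix (Fin 5) (Fin 5) (ZMod 2)) := by decide

theorem st_40 : HCT.mraw 6 * (!![1, 0, 0, 0, 0; 0, 1, 0, 0, 0; 0, 1, 1, 1, 0; 0, 1, 1, 1, 1; 0, 1, 1, 0, 0] : Matrix (Fin 5) (Fin 5) (ZMod 2)) = (!![1, 1, 0, 0, 0; 0, 1, 0, 0, 0; 0, 1, 0, 0, 1; 0, 1, 1, 1, 1; 0, 1, 1, 0, 0] : Matrix (Fin 5) (Fin 5) (ZMod 2)) := by decide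

theorem st_41 : HCT.mraw 2 * HCT.mraw 3 = (!![1, 1, 0, 0, 0; 0, 1, 0, 0, 0; 0, 0, 1, 0, 1; 0, 1, 0, 1, 0; 0, 0, 0, 0, 1] : Matrix (Fin 5) (Fin 5) (ZMod 2)) := by decide

theorem st_42 : HCT.mraw 3 * (!![1, 1, 0, 0, 0; 0, 1, 0, 0, 0; 0, 0, 1, 0, 1; 0, 1, 0, 1, 0; 0, 0, 0, 0, 1] : Matrix (Fin 5) (Fin 5) (ZMod 2)) = (!![1, 1, 0, 0, 0; 0, 1, 0, 0, 0; 0, 0, 1, 0, 1; 0, 0, 0, 1, 0; 0, 0, 0, 0, 1] : Matrix (Fin 5) (Fin 5) (ZMod 2)) := by decide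

theorem st_43 : HCT.mraw 2 * (!![1, 1, 0, 0, 0; 0, 1, 0, 0, 0; 0, 0, 1, 0, 1; 0, 0, 0, 1, 0; 0, 0, 0, 0, 1] : Matrix (Fin 5) (Fin 5) (ZMod 2)) = (1 : Matrix (Fin 5) (Fin 5) (ZMod 2)) := by decide

theorem st_44 : HCT.mraw 2 * HCT.mraw 4 = (!![1, 1, 0, 1, 1; 0, 1, 0, 0, 0; 0, 0, 1, 0, 1; 0, 0, 0, 1, 0; 0, 0, 0, 0, 1] : Matrix (Fin 5) (Fin 5) (ZMod 2)) := by decide

theorem st_45 : HCT.mraw 4 * (!![1, 1, 0, 1, 1; 0, 1, 0, 0, 0; 0, 0, 1, 0, 1; 0, 0, 0, 1, 0; 0, 0, 0, 0, 1] : Matrix (Fin 5) (Fin 5) (ZMod 2)) = (!![1, 1, 0, 0, 0; 0, 1, 0, 0, 0; 0, 0, 1, 0, 1; 0, 0, 0, 1, 0; 0, 0, 0, 0, 1] : Matrix (Fin 5) (Fin 5) (ZMod 2)) := by decide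

theorem st_46 : HCT.mraw 2 * HCT.mraw 5 = (!![1, 0, 0, 0, 1; 0, 1, 0, 0, 0; 0, 0, 1, 0, 0; 0, 0, 0, 1, 1; 0, 0, 0, 0, 1] : Matrix (Fin 5) (Fin 5) (ZMod 2)) := by decide

theorem st_47 : HCT.mraw 5 * (!![1, 0, 0, 0, 1; 0, 1, 0, 0, 0; 0, 0, 1, 0, 0; 0, 0, 0, 1, 1; 0, 0, 0, 0, 1] : Matrix (Fin 5) (Fin 5) (ZMod 2)) = (!![1, 1, 0, 0, 0; 0, 1, 0, 0, 0; 0, 0, 1, 0, 1; 0, 0, 0, 1, 0; 0, 0, 0, 0, 1] : Matrix (Fin 5) (Fin 5) (ZMod 2)) := by decide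

theorem st_48 : HCT.mraw 2 * HCT.mraw 6 = (!![1, 0, 0, 0, 0; 0, 1, 0, 0, 0; 0, 1, 1, 1, 1; 0, 0, 0, 1, 0; 0, 0, 0, 0, 1] : Matrix (Fin 5) (Fin 5) (ZMod 2)) := by decide

theorem st_49 : HCT.mraw 6 * (!![1, 0, 0, 0, 0; 0, 1, 0, 0, 0; 0, 1, 1, 1, 1; 0, 0, 0, 1, 0; 0, 0, 0, 0, 1] : Matrix (Fin 5) (Fin 5) (ZMod 2)) = (!![1, 1, 0, 0, 0; 0, 1, 0, 0, 0; 0, 0, 1, 0, 1; 0, 0, 0, 1, 0; 0, 0, 0, 0, 1] : Matrix (Fin 5) (Fin 5) (ZMod 2)) := by decide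

theorem st_50 : HCT.mraw 3 * HCT.mraw 4 = (!![1, 0, 0, 1, 1; 0, 1, 0, 0, 0; 0, 0, 1, 0, 0; 0, 1, 0, 1, 0; 0, 0, 0, 0, 1] : Matrix (Fin 5) (Fin 5) (ZMod 2)) := by decide

theorem st_51 : HCT.mraw 4 * (!![1, 0, 0, 1, 1; 0, 1, 0, 0, 0; 0, 0, 1, 0, 0; 0, 1, 0, 1, 0; 0, 0, 0, 0, 1] : Matrix (Fin 5) (Fin 5) (ZMod 2)) = (!![1, 1, 0, 0, 0; 0, 1, 0, 0, 0; 0, 0, 1, 0, 0; 0, 1, 0, 1, 0; 0, 0, 0, 0, 1] : Matrix (Fin 5) (Fin 5) (ZMod 2)) := by decide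

theorem st_52 : HCT.mraw 3 * (!![1, 1, 0, 0, 0; 0, 1, 0, 0, 0; 0, 0, 1, 0, 0; 0, 1, 0, 1, 0; 0, 0, 0, 0, 1] : Matrix (Fin 5) (Fin 5) (ZMod 2)) = (!![1, 1, 0, 0, 0; 0, 1, 0, 0, 0; 0, 0, 1, 0, 0; 0, 0, 0, 1, 0; 0, 0, 0, 0, 1] : Matrix (Fin 5) (Fin 5) (ZMod 2)) := by decide

theorem st_53 : HCT.mraw 4 * (!![1, 1, 0, 0, 0; 0, 1, 0, 0, 0; 0, 0, 1, 0, 0; 0, 0, 0, 1, 0; 0, 0, 0, 0, 1] : Matrix (Fin 5) (Fin 5) (ZMod 2)) = (!![1, 1, 0, 1, 1; 0, 1, 0, 0, 0; 0, 0, 1, 0, 0; 0, 0, 0, 1, 0; 0, 0, 0, 0, 1] : Matrix (Fin 5) (Fin 5) (ZMod 2)) := by decide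

theorem st_54 : HCT.mraw 3 * (!![1, 1, 0, 1, 1; 0, 1, 0, 0, 0; 0, 0, 1, 0, 0; 0, 0, 0, 1, 0; 0, 0, 0, 0, 1] : Matrix (Fin 5) (Fin 5) (ZMod 2)) = (!![1, 1, 0, 1, 1; 0, 1, 0, 0, 0; 0, 0, 1, 0, 0; 0, 1, 0, 1, 0; 0, 0, 0, 0, 1] : Matrix (Fin 5) (Fin 5) (ZMod 2)) := by decide

theorem st_55 : HCT.mraw 4 * (!![1, 1, 0, 1, 1; 0, 1, 0, 0, 0; 0, 0, 1, 0, 0; 0, 1, 0, 1, 0; 0, 0, 0, 0, 1] : Matrix (Fin 5) (Fin 5) (ZMod 2)) = (!![1, 0, 0, 0, 0; 0, 1, 0, 0, 0; 0, 0, 1, 0, 0; 0, 1, 0, 1, 0; 0, 0, 0, 0, 1] : Matrix (Fin 5) (Fin 5) (ZMod 2)) := by decide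

theorem st_56 : HCT.mraw 3 * (!![1, 0, 0, 0, 0; 0, 1, 0, 0, 0; 0, 0, 1, 0, 0; 0, 1, 0, 1, 0; 0, 0, 0, 0, 1] : Matrix (Fin 5) (Fin 5) (ZMod 2)) = (1 : Matrix (Fin 5) (Fin 5) (ZMod 2)) := by decide

theorem st_57 : HCT.mraw 3 * HCT.mraw 5 = (!![1, 1, 0, 0, 1; 0, 1, 0, 0, 0; 0, 0, 1, 0, 1; 0, 1, 0, 1, 1; 0, 0, 0, 0, 1] : Matrix (Fin 5) (Fin 5) (ZMod 2)) := by decide

theorem st_58 : HCT.mraw 5 * (!![1, 1, 0, 0, 1; 0, 1, 0, 0, 0; 0, 0, 1, 0, 1; 0, 1, 0, 1, 1; 0, 0, 0, 0, 1] : Matrix (Fin 5) (Fin 5) (ZMod 2)) = (!![1, 0, 0, 0, 0; 0, 1, 0, 0, 0; 0, 0, 1, 0, 0; 0, 1, 0, 1, 0; 0, 0, 0, 0, 1] : Matrix (Fin 5) (Fin 5) (ZMod 2)) := by decide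

theorem st_59 : HCT.mraw 3 * HCT.mraw 6 = (!![1, 1, 0, 0, 0; 0, 1, 0, 0, 0; 0, 1, 1, 1, 0; 0, 1, 0, 1, 0; 0, 0, 0, 0, 1] : Matrix (Fin 5) (Fin 5) (ZMod 2)) := by decide

theorem st_60 : HCT.mraw 6 * (!![1, 1, 0, 0, 0; 0, 1, 0, 0, 0; 0, 1, 1, 1, 0; 0, 1, 0, 1, 0; 0, 0, 0, 0, 1] : Matrix (Fin 5) (Fin 5) (ZMod 2)) = (!![1, 0, 0, 0, 0; 0, 1, 0, 0, 0; 0, 1, 1, 0, 0; 0, 1, 0, 1, 0; 0, 0, 0, 0, 1] : Matrix (Fin 5) (Fin 5) (ZMod 2)) := by decide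

theorem st_61 : HCT.mraw 3 * (!![1, 0, 0, 0, 0; 0, 1, 0, 0, 0; 0, 1, 1, 0, 0; 0, 1, 0, 1, 0; 0, 0, 0, 0, 1] : Matrix (Fin 5) (Fin 5) (ZMod 2)) = (!![1, 0, 0, 0, 0; 0, 1, 0, 0, 0; 0, 1, 1, 0, 0; 0, 0, 0, 1, 0; 0, 0, 0, 0, 1] : Matrix (Fin 5) (Fin 5) (ZMod 2)) := by decide

theorem st_62 : HCT.mraw 6 * (!![1, 0, 0, 0, 0; 0, 1, 0, 0, 0; 0, 1, 1, 0, 0; 0, 0, 0, 1, 0; 0, 0, 0, 0, 1] : Matrix (Fin 5) (Fin 5) (ZMod 2)) = (!![1, 1, 0, 0, 0; 0, 1, 0, 0, 0; 0, 0, 1, 1, 0; 0, 0, 0, 1, 0; 0, 0, 0, 0, 1] : Matrix (Fin 5) (Fin 5) (ZMod 2)) := by decide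

theorem st_63 : HCT.mraw 3 * (!![1, 1, 0, 0, 0; 0, 1, 0, 0, 0; 0, 0, 1, 1, 0; 0, 0, 0, 1, 0; 0, 0, 0, 0, 1] : Matrix (Fin 5) (Fin 5) (ZMod 2)) = (!![1, 1, 0, 0, 0; 0, 1, 0, 0, 0; 0, 0, 1, 1, 0; 0, 1, 0, 1, 0; 0, 0, 0, 0, 1] : Matrix (Fin 5) (Fin 5) (ZMod 2)) := by decide

theorem st_64 : HCT.mraw 6 * (!![1, 1, 0, 0, 0; 0, 1, 0, 0, 0; 0, 0, 1, 1, 0; 0, 1, 0, 1, 0; 0, 0, 0, 0, 1] : Matrix (Fin 5) (Fin 5) (ZMod 2)) = (!![1, 0, 0, 0, 0; 0, 1, 0, 0, 0; 0, 0, 1, 0, 0; 0, 1, 0, 1, 0; 0, 0, 0, 0, 1] : Matrix (Fin 5) (Fin 5) (ZMod 2)) := by decide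

theorem st_65 : HCT.mraw 4 * HCT.mraw 5 = (!![1, 1, 0, 1, 1; 0, 1, 0, 0, 0; 0, 0, 1, 0, 1; 0, 0, 0, 1, 1; 0, 0, 0, 0, 1] : Matrix (Fin 5) (Fin 5) (ZMod 2)) := by decide

theorem st_66 : HCT.mraw 5 * (!![1, 1, 0, 1, 1; 0, 1, 0, 0, 0; 0, 0, 1, 0, 1; 0, 0, 0, 1, 1; 0, 0, 0, 0, 1] : Matrix (Fin 5) (Fin 5) (ZMod 2)) = (!![1, 0, 0, 1, 0; 0, 1, 0, 0, 0; 0, 0, 1, 0, 0; 0, 0, 0, 1, 0; 0, 0, 0, 0, 1] : Matrix (Fin 5) (Fin 5) (ZMod 2)) := by decide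

theorem st_67 : HCT.mraw 4 * (!![1, 0, 0, 1, 0; 0, 1, 0, 0, 0; 0, 0, 1, 0, 0; 0, 0, 0, 1, 0; 0, 0, 0, 0, 1] : Matrix (Fin 5) (Fin 5) (ZMod 2)) = (!![1, 0, 0, 0, 1; 0, 1, 0, 0, 0; 0, 0, 1, 0, 0; 0, 0, 0, 1, 0; 0, 0, 0, 0, 1] : Matrix (Fin 5) (Fin 5) (ZMod 2)) := by decide

theorem st_68 : HCT.mraw 5 * (!![1, 0, 0, 0, 1; 0, 1, 0, 0, 0; 0, 0, 1, 0, 0; 0, 0, 0, 1, 0; 0, 0, 0, 0, 1] : Matrix (Fin 5) (Fin 5) (ZMod 2)) = (!![1, 1, 0, 0, 0; 0, 1, 0, 0, 0; 0, 0, 1, 0, 1; 0, 0, 0, 1, 1; 0, 0, 0, 0, 1] : Matrix (Fin 5) (Fin 5) (ZMod 2)) := by decide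

theorem st_69 : HCT.mraw 4 * (!![1, 1, 0, 0, 0; 0, 1, 0, 0, 0; 0, 0, 1, 0, 1; 0, 0, 0, 1, 1; 0, 0, 0, 0, 1] : Matrix (Fin 5) (Fin 5) (ZMod 2)) = (!![1, 1, 0, 1, 0; 0, 1, 0, 0, 0; 0, 0, 1, 0, 1; 0, 0, 0, 1, 1; 0, 0, 0, 0, 1] : Matrix (Fin 5) (Fin 5) (ZMod 2)) := by decide

theorem st_70 : HCT.mraw 5 * (!![1, 1, 0, 1, 0; 0, 1, 0, 0, 0; 0, 0, 1, 0, 1; 0, 0, 0, 1, 1; 0, 0, 0, 0, 1] : Matrix (Fin 5) (Fin 5) (ZMod 2)) = (!![1, 0, 0, 1, 1; 0, 1, 0, 0, 0; 0, 0, 1, 0, 0; 0, 0, 0, 1, 0; 0, 0, 0, 0, 1] : Matrix (Fin 5) (Fin 5) (ZMod 2)) := by decide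

theorem st_71 : HCT.mraw 4 * (!![1, 0, 0, 1, 1; 0, 1, 0, 0, 0; 0, 0, 1, 0, 0; 0, 0, 0, 1, 0; 0, 0, 0, 0, 1] : Matrix (Fin 5) (Fin 5) (ZMod 2)) = (1 : Matrix (Fin 5) (Fin 5) (ZMod 2)) := by decide

theorem st_72 : HCT.mraw 4 * HCT.mraw 6 = (!![1, 1, 0, 1, 1; 0, 1, 0, 0, 0; 0, 1, 1, 1, 0; 0, 0, 0, 1, 0; 0, 0, 0, 0, 1] : Matrix (Fin 5) (Fin 5) (ZMod 2)) := by decide

theorem st_73 : HCT.mraw 6 * (!![1, 1, 0, 1, 1; 0, 1, 0, 0, 0; 0, 1, 1, 1, 0; 0, 0, 0, 1, 0; 0, 0, 0, 0, 1] : Matrix (Fin 5) (Fin 5) (ZMod 2)) = (!![1, 0, 0, 1, 1; 0, 1, 0, 0, 0; 0, 0, 1, 0, 0; 0, 0, 0, 1, 0; 0, 0, 0, 0, 1] : Matrix (Fin 5) (Fin 5) (ZMod 2)) := by decide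

theorem st_74 : HCT.mraw 5 * HCT.mraw 6 = (!![1, 0, 0, 0, 1; 0, 1, 0, 0, 0; 0, 1, 1, 1, 1; 0, 0, 0, 1, 1; 0, 0, 0, 0, 1] : Matrix (Fin 5) (Fin 5) (ZMod 2)) := by decide

theorem st_75 : HCT.mraw 6 * (!![1, 0, 0, 0, 1; 0, 1, 0, 0, 0; 0, 1, 1, 1, 1; 0, 0, 0, 1, 1; 0, 0, 0, 0, 1] : Matrix (Fin 5) (Fin 5) (ZMod 2)) = (!![1, 1, 0, 0, 1; 0, 1, 0, 0, 0; 0, 0, 1, 0, 0; 0, 0, 0, 1, 1; 0, 0, 0, 0, 1] : Matrix (Fin 5) (Fin 5) (ZMod 2)) := by decide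

theorem st_76 : HCT.mraw 5 * (!![1, 1, 0, 0, 1; 0, 1, 0, 0, 0; 0, 0, 1, 0, 0; 0, 0, 0, 1, 1; 0, 0, 0, 0, 1] : Matrix (Fin 5) (Fin 5) (ZMod 2)) = (!![1, 0, 0, 0, 0; 0, 1, 0, 0, 0; 0, 0, 1, 0, 1; 0, 0, 0, 1, 0; 0, 0, 0, 0, 1] : Matrix (Fin 5) (Fin 5) (ZMod 2)) := by decide

theorem st_77 : HCT.mraw 6 * (!![1, 0, 0, 0, 0; 0, 1, 0, 0, 0; 0, 0, 1, 0, 1; 0, 0, 0, 1, 0; 0, 0, 0, 0, 1] : Matrix (Fin 5) (Fin 5) (ZMod 2)) = (!![1, 1, 0, 0, 0; 0, 1, 0, 0, 0; 0, 1, 1, 1, 1; 0, 0, 0, 1, 0; 0, 0, 0, 0, 1] : Matrix (Fin 5) (Fin 5) (ZMod 2)) := by decide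

theorem st_78 : HCT.mraw 5 * (!![1, 1, 0, 0, 0; 0, 1, 0, 0, 0; 0, 1, 1, 1, 1; 0, 0, 0, 1, 0; 0, 0, 0, 0, 1] : Matrix (Fin 5) (Fin 5) (ZMod 2)) = (!![1, 0, 0, 0, 1; 0, 1, 0, 0, 0; 0, 1, 1, 1, 0; 0, 0, 0, 1, 1; 0, 0, 0, 0, 1] : Matrix (Fin 5) (Fin 5) (ZMod 2)) := by decide

theorem st_79 : HCT.mraw 6 * (!![1, 0, 0, 0, 1; 0, 1, 0, 0, 0; 0, 1, 1, 1, 0; 0, 0, 0, 1, 1; 0, 0, 0, 0, 1] : Matrix (Fin 5) (Fin 5) (ZMod 2)) = (!![1, 1, 0, 0, 1; 0, 1, 0, 0, 0; 0, 0, 1, 0, 1; 0, 0, 0, 1, 1; 0, 0, 0, 0, 1] : Matrix (Fin 5) (Fin 5) (ZMod 2)) := by decide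

theorem st_80 : HCT.mraw 5 * (!![1, 1, 0, 0, 1; 0, 1, 0, 0, 0; 0, 0, 1, 0, 1; 0, 0, 0, 1, 1; 0, 0, 0, 0, 1] : Matrix (Fin 5) (Fin 5) (ZMod 2)) = (1 : Matrix (Fin 5) (Fin 5) (ZMod 2)) := by decide

theorem st_81 : HCT.mraw 4 * HCT.mraw 3 = (!![1, 1, 0, 1, 1; 0, 1, 0, 0, 0; 0, 0, 1, 0, 0; 0, 1, 0, 1, 0; 0, 0, 0, 0, 1] : Matrix (Fin 5) (Fin 5) (ZMod 2)) := by decide

theorem st_82 : HCT.mraw 5 * (!![1, 1, 0, 1, 1; 0, 1, 0, 0, 0; 0, 0, 1, 0, 0; 0, 1, 0, 1, 0; 0, 0, 0, 0, 1] : Matrix (Fin 5) (Fin 5) (ZMod 2)) = (!![1, 0, 0, 1, 0; 0, 1, 0, 0, 0; 0, 0, 1, 0, 1; 0, 1, 0, 1, 1; 0, 0, 0, 0, 1] : Matrix (Fin 5) (Fin 5) (ZMod 2)) := by decide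

theorem st_83 : HCT.mraw 4 * (!![1, 0, 0, 1, 0; 0, 1, 0, 0, 0; 0, 0, 1, 0, 1; 0, 1, 0, 1, 1; 0, 0, 0, 0, 1] : Matrix (Fin 5) (Fin 5) (ZMod 2)) = (!![1, 1, 0, 0, 0; 0, 1, 0, 0, 0; 0, 0, 1, 0, 1; 0, 1, 0, 1, 1; 0, 0, 0, 0, 1] : Matrix (Fin 5) (Fin 5) (ZMod 2)) := by decide

theorem st_84 : HCT.mraw 3 * (!![1, 1, 0, 0, 0; 0, 1, 0, 0, 0; 0, 0, 1, 0, 1; 0, 1, 0, 1, 1; 0, 0, 0, 0, 1] : Matrix (Fin 5) (Fin 5) (ZMod 2)) = (!![1, 1, 0, 0, 0; 0, 1, 0, 0, 0; 0, 0, 1, 0, 1; 0, 0, 0, 1, 1; 0, 0, 0, 0, 1] : Matrix (Fin 5) (Fin 5) (ZMod 2)) := by decide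

theorem st_85 : HCT.mraw 3 * HCT.mraw 0 = (!![1, 0, 0, 0, 1; 0, 1, 0, 0, 0; 0, 1, 1, 0, 0; 0, 1, 0, 1, 0; 0, 0, 0, 0, 1] : Matrix (Fin 5) (Fin 5) (ZMod 2)) := by decide

theorem st_86 : HCT.mraw 6 * (!![1, 0, 0, 0, 1; 0, 1, 0, 0, 0; 0, 1, 1, 0, 0; 0, 1, 0, 1, 0; 0, 0, 0, 0, 1] : Matrix (Fin 5) (Fin 5) (ZMod 2)) = (!![1, 1, 0, 0, 1; 0, 1, 0, 0, 0; 0, 1, 1, 1, 0; 0, 1, 0, 1, 0; 0, 0, 0, 0, 1] : Matrix (Fin 5) (Fin 5) (ZMod 2)) := by decide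

theorem st_87 : HCT.mraw 3 * (!![1, 1, 0, 0, 1; 0, 1, 0, 0, 0; 0, 1, 1, 1, 0; 0, 1, 0, 1, 0; 0, 0, 0, 0, 1] : Matrix (Fin 5) (Fin 5) (ZMod 2)) = (!![1, 1, 0, 0, 1; 0, 1, 0, 0, 0; 0, 1, 1, 1, 0; 0, 0, 0, 1, 0; 0, 0, 0, 0, 1] : Matrix (Fin 5) (Fin 5) (ZMod 2)) := by decide

theorem st_88 : HCT.mraw 6 * (!![1, 1, 0, 0, 1; 0, 1, 0, 0, 0; 0, 1, 1, 1, 0; 0, 0, 0, 1, 0; 0, 0, 0, 0, 1] : Matrix (Fin 5) (Fin 5) (ZMod 2)) = (!![1, 0, 0, 0, 1; 0, 1, 0, 0, 0; 0, 0, 1, 0, 0; 0, 0, 0, 1, 0; 0, 0, 0, 0, 1] : Matrix (Fin 5) (Fin 5) (ZMod 2)) := by decide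

theorem st_89 : HCT.mraw 1 * HCT.mraw 0 = (!![1, 1, 0, 0, 1; 0, 1, 0, 0, 0; 0, 1, 0, 0, 1; 0, 0, 1, 1, 1; 0, 0, 1, 0, 0] : Matrix (Fin 5) (Fin 5) (ZMod 2)) := by decide

theorem st_90 : HCT.mraw 0 * (!![1, 1, 0, 0, 1; 0, 1, 0, 0, 0; 0, 1, 0, 0, 1; 0, 0, 1, 1, 1; 0, 0, 1, 0, 0] : Matrix (Fin 5) (Fin 5) (ZMod 2)) = (!![1, 1, 1, 0, 1; 0, 1, 0, 0, 0; 0, 0, 0, 0, 1; 0, 0, 1, 1, 1; 0, 0, 1, 0, 0] : Matrix (Fin 5) (Fin 5) (ZMod 2)) := by decide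

theorem st_91 : HCT.mraw 1 * (!![1, 1, 1, 0, 1; 0, 1, 0, 0, 0; 0, 0, 0, 0, 1; 0, 0, 1, 1, 1; 0, 0, 1, 0, 0] : Matrix (Fin 5) (Fin 5) (ZMod 2)) = (!![1, 0, 1, 0, 1; 0, 1, 0, 0, 0; 0, 1, 1, 0, 0; 0, 1, 0, 1, 0; 0, 1, 0, 0, 1] : Matrix (Fin 5) (Fin 5) (ZMod 2)) := by decide

theorem st_92 : HCT.mraw 3 * (!![1, 0, 1, 0, 1; 0, 1, 0, 0, 0; 0, 1, 1, 0, 0; 0, 1, 0, 1, 0; 0, 1, 0, 0, 1] : Matrix (Fin 5) (Fin 5) (ZMod 2)) = (!![1, 0, 1, 0, 1; 0, 1, 0, 0, 0; 0, 1, 1, 0, 0; 0, 0, 0, 1, 0; 0, 1, 0, 0, 1] : Matrix (Fin 5) (Fin 5) (ZMod 2)) := by decide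

theorem st_93 : HCT.mraw 5 * (!![1, 0, 1, 0, 1; 0, 1, 0, 0, 0; 0, 1, 1, 0, 0; 0, 0, 0, 1, 0; 0, 1, 0, 0, 1] : Matrix (Fin 5) (Fin 5) (ZMod 2)) = (!![1, 0, 1, 0, 0; 0, 1, 0, 0, 0; 0, 0, 1, 0, 1; 0, 1, 0, 1, 1; 0, 1, 0, 0, 1] : Matrix (Fin 5) (Fin 5) (ZMod 2)) := by decide

theorem st_94 : HCT.mraw 1 * (!![1, 0, 1, 0, 0; 0, 1, 0, 0, 0; 0, 0, 1, 0, 1; 0, 1, 0, 1, 1; 0, 1, 0, 0, 1] : Matrix (Fin 5) (Fin 5) (ZMod 2)) = (!![1, 1, 1, 0, 0; 0, 1, 0, 0, 0; 0, 0, 0, 0, 1; 0, 1, 1, 1, 1; 0, 1, 1, 0, 1] : Matrix (Fin 5) (Fin 5) (ZMod 2)) := by decide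

theorem st_95 : HCT.mraw 0 * (!![1, 1, 1, 0, 0; 0, 1, 0, 0, 0; 0, 0, 0, 0, 1; 0, 1, 1, 1, 1; 0, 1, 1, 0, 1] : Matrix (Fin 5) (Fin 5) (ZMod 2)) = (!![1, 0, 0, 0, 1; 0, 1, 0, 0, 0; 0, 1, 0, 0, 1; 0, 1, 1, 1, 1; 0, 1, 1, 0, 1] : Matrix (Fin 5) (Fin 5) (ZMod 2)) := by decide

theorem st_96 : HCT.mraw 1 * (!![1, 0, 0, 0, 1; 0, 1, 0, 0, 0; 0, 1, 0, 0, 1; 0, 1, 1, 1, 1; 0, 1, 1, 0, 1] : Matrix (Fin 5) (Fin 5) (ZMod 2)) = (!![1, 1, 0, 0, 1; 0, 1, 0, 0, 0; 0, 0, 1, 0, 1; 0, 0, 0, 1, 1; 0, 0, 0, 0, 1] : Matrix (Fin 5) (Fin 5) (ZMod 2)) := by decide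

theorem st_97 : HCT.mraw 4 * (!![1, 0, 1, 0, 1; 0, 1, 0, 0, 0; 0, 1, 1, 0, 0; 0, 1, 0, 1, 0; 0, 1, 0, 0, 1] : Matrix (Fin 5) (Fin 5) (ZMod 2)) = (!![1, 0, 1, 1, 0; 0, 1, 0, 0, 0; 0, 1, 1, 0, 0; 0, 1, 0, 1, 0; 0, 1, 0, 0, 1] : Matrix (Fin 5) (Fin 5) (ZMod 2)) := by decide

theorem st_98 : HCT.mraw 6 * (!![1, 0, 1, 1, 0; 0, 1, 0, 0, 0; 0, 1, 1, 0, 0; 0, 1, 0, 1, 0; 0, 1, 0, 0, 1] : Matrix (Fin 5) (Fin 5) (ZMod 2)) = (!![1, 1, 1, 1, 0; 0, 1, 0, 0, 0; 0, 1, 1, 1, 0; 0, 1, 0, 1, 0; 0, 1, 0, 0, 1] : Matrix (Fin 5) (Fin 5) (ZMod 2)) := by decide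

theorem st_99 : HCT.mraw 1 * (!![1, 1, 1, 1, 0; 0, 1, 0, 0, 0; 0, 1, 1, 1, 0; 0, 1, 0, 1, 0; 0, 1, 0, 0, 1] : Matrix (Fin 5) (Fin 5) (ZMod 2)) = (!![1, 0, 1, 1, 0; 0, 1, 0, 0, 0; 0, 0, 0, 0, 1; 0, 0, 1, 0, 1; 0, 0, 1, 1, 0] : Matrix (Fin 5) (Fin 5) (ZMod 2)) := by decide

theorem st_100 : HCT.mraw 0 * (!![1, 0, 1, 1, 0; 0, 1, 0, 0, 0; 0, 0, 0, 0, 1; 0, 0, 1, 0, 1; 0, 0, 1, 1, 0] : Matrix (Fin 5) (Fin 5) (ZMod 2)) = (!![1, 0, 0, 0, 0; 0, 1, 0, 0, 0; 0, 1, 0, 0, 1; 0, 0, 1, 0, 1; 0, 0, 1, 1, 0] : Matrix (Fin 5) (Fin 5) (ZMod 2)) := by decide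

theorem st_101 : HCT.mraw 1 * (!![1, 0, 0, 0, 0; 0, 1, 0, 0, 0; 0, 1, 0, 0, 1; 0, 0, 1, 0, 1; 0, 0, 1, 1, 0] : Matrix (Fin 5) (Fin 5) (ZMod 2)) = (!![1, 1, 0, 0, 0; 0, 1, 0, 0, 0; 0, 1, 1, 1, 0; 0, 0, 0, 1, 0; 0, 0, 0, 0, 1] : Matrix (Fin 5) (Fin 5) (ZMod 2)) := by decide

theorem st_102 : HCT.mraw 6 * (!![1, 1, 0, 0, 0; 0, 1, 0, 0, 0; 0, 1, 1, 1, 0; 0, 0, 0, 1, 0; 0, 0, 0, 0, 1] : Matrix (Fin 5) (Fin 5) (ZMod 2)) = (1 : Matrix (Fin 5) (Fin 5) (ZMod 2)) := by decide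

theorem st_103 : HCT.mraw 2 * HCT.mraw 0 = (!![1, 1, 0, 0, 1; 0, 1, 0, 0, 0; 0, 1, 1, 0, 1; 0, 0, 0, 1, 0; 0, 0, 0, 0, 1] : Matrix (Fin 5) (Fin 5) (ZMod 2)) := by decide

theorem st_104 : HCT.mraw 3 * (!![1, 1, 0, 0, 1; 0, 1, 0, 0, 0; 0, 1, 1, 0, 1; 0, 0, 0, 1, 0; 0, 0, 0, 0, 1] : Matrix (Fin 5) (Fin 5) (ZMod 2)) = (!![1, 1, 0, 0, 1; 0, 1, 0, 0, 0; 0, 1, 1, 0, 1; 0, 1, 0, 1, 0; 0, 0, 0, 0, 1] : Matrix (Fin 5) (Fin 5) (ZMod 2)) := by decide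

theorem st_105 : HCT.mraw 5 * (!![1, 1, 0, 0, 1; 0, 1, 0, 0, 0; 0, 1, 1, 0, 1; 0, 1, 0, 1, 0; 0, 0, 0, 0, 1] : Matrix (Fin 5) (Fin 5) (ZMod 2)) = (!![1, 0, 0, 0, 0; 0, 1, 0, 0, 0; 0, 1, 1, 0, 0; 0, 1, 0, 1, 1; 0, 0, 0, 0, 1] : Matrix (Fin 5) (Fin 5) (ZMod 2)) := by decide

theorem st_106 : HCT.mraw 4 * (!![1, 0, 0, 0, 0; 0, 1, 0, 0, 0; 0, 1, 1, 0, 0; 0, 1, 0, 1, 1; 0, 0, 0, 0, 1] : Matrix (Fin 5) (Fin 5) (ZMod 2)) = (!![1, 1, 0, 1, 0; 0, 1, 0, 0, 0; 0, 1, 1, 0, 0; 0, 1, 0, 1, 1; 0, 0, 0, 0, 1] : Matrix (Fin 5) (Fin 5) (ZMod 2)) := by decide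

theorem st_107 : HCT.mraw 6 * (!![1, 1, 0, 1, 0; 0, 1, 0, 0, 0; 0, 1, 1, 0, 0; 0, 1, 0, 1, 1; 0, 0, 0, 0, 1] : Matrix (Fin 5) (Fin 5) (ZMod 2)) = (!![1, 0, 0, 1, 0; 0, 1, 0, 0, 0; 0, 1, 1, 1, 1; 0, 1, 0, 1, 1; 0, 0, 0, 0, 1] : Matrix (Fin 5) (Fin 5) (ZMod 2)) := by decide

theorem st_108 : HCT.mraw 5 * (!![1, 0, 0, 1, 0; 0, 1, 0, 0, 0; 0, 1, 1, 1, 1; 0, 1, 0, 1, 1; 0, 0, 0, 0, 1] : Matrix (Fin 5) (Fin 5) (ZMod 2)) = (!![1, 1, 0, 1, 1; 0, 1, 0, 0, 0; 0, 1, 1, 1, 0; 0, 1, 0, 1, 0; 0, 0, 0, 0, 1] : Matrix (Fin 5) (Fin 5) (ZMod 2)) := by decide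

theorem st_109 : HCT.mraw 3 * (!![1, 1, 0, 1, 1; 0, 1, 0, 0, 0; 0, 1, 1, 1, 0; 0, 1, 0, 1, 0; 0, 0, 0, 0, 1] : Matrix (Fin 5) (Fin 5) (ZMod 2)) = (!![1, 1, 0, 1, 1; 0, 1, 0, 0, 0; 0, 1, 1, 1, 0; 0, 0, 0, 1, 0; 0, 0, 0, 0, 1] : Matrix (Fin 5) (Fin 5) (ZMod 2)) := by decide

theorem st_sq0 : HCT.mraw 0 * HCT.mraw 0 = (1 : Matrix (Fin 5) (Fin 5) (ZMod 2)) := by decide

theorem st_sq1 : HCT.mraw 1 * HCT.mraw 1 = (1 : Matrix (Fin 5) (Fin 5) (ZMod 2)) := by decide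

theorem st_sq2 : HCT.mraw 2 * HCT.mraw 2 = (1 : Matrix (Fin 5) (Fin 5) (ZMod 2)) := by decide

theorem st_sq3 : HCT.mraw 3 * HCT.mraw 3 = (1 : Matrix (Fin 5) (Fin 5) (ZMod 2)) := by decide

theorem st_sq4 : HCT.mraw 4 * HCT.mraw 4 = (1 : Matrix (Fin 5) (Fin 5) (ZMod 2)) := by decide

theorem st_sq5 : HCT.mraw 5 * HCT.mraw 5 = (1 : Matrix (Fin 5) (Fin 5) (ZMod 2)) := by decide

theorem st_sq6 : HCT.mraw 6 * HCT.mraw 6 = (1 : Matrix (Fin 5) (Fin 5) (ZMod 2)) := by decide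

theorem rel_0 : ((([0, 0] : List (Fin 7)).map HCT.mraw).prod : Matrix (Fin 5) (Fin 5) (ZMod 2)) = 1 := by
  simp only [List.map_cons, List.map_nil, List.prod_cons, List.prod_nil, mul_one]
  rw [st_0]

theorem rel_1 : ((([1, 1] : List (Fin 7)).map HCT.mraw).prod : Matrix (Fin 5) (Fin 5) (ZMod 2)) = 1 := by
  simp only [List.map_cons, List.map_nil, List.prod_cons, List.prod_nil, mul_one]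
  rw [st_1]

theorem rel_2 : ((([2, 2] : List (Fin 7)).map HCT.mraw).prod : Matrix (Fin 5) (Fin 5) (ZMod 2)) = 1 := by
  simp only [List.map_cons, List.map_nil, List.prod_cons, List.prod_nil, mul_one]
  rw [st_2]

theorem rel_3 : ((([3, 3] : List (Fin 7)).map HCT.mraw).prod : Matrix (Fin 5) (Fin 5) (ZMod 2)) = 1 := by
  simp only [List.map_cons, List.map_nil, List.prod_cons, List.prod_nil, mul_one]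
  rw [st_3]

theorem rel_4 : ((([4, 4] : List (Fin 7)).map HCT.mraw).prod : Matrix (Fin 5) (Fin 5) (ZMod 2)) = 1 := by
  simp only [List.map_cons, List.map_nil, List.prod_cons, List.prod_nil, mul_one]
  rw [st_4]

theorem rel_5 : ((([5, 5] : List (Fin 7)).map HCT.mraw).prod : Matrix (Fin 5) (Fin 5) (ZMod 2)) = 1 := by
  simp only [List.map_cons, List.map_nil, List.prod_cons, List.prod_nil, mul_one]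
  rw [st_5]

theorem rel_6 : ((([6, 6] : List (Fin 7)).map HCT.mraw).prod : Matrix (Fin 5) (Fin 5) (ZMod 2)) = 1 := by
  simp only [List.map_cons, List.map_nil, List.prod_cons, List.prod_nil, mul_one]
  rw [st_6]

theorem rel_7 : ((([0, 1, 0, 1, 0, 1, 0, 1] : List (Fin 7)).map HCT.mraw).prod : Matrix (Fin 5) (Fin 5) (ZMod 2)) = 1 := by
  simp only [List.map_cons, List.map_nil, List.prod_cons, List.prod_nil, mul_one]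
  rw [st_7, st_8, st_9, st_10, st_11, st_12, st_13]

theorem rel_8 : ((([0, 2, 0, 2] : List (Fin 7)).map HCT.mraw).prod : Matrix (Fin 5) (Fin 5) (ZMod 2)) = 1 := by
  simp only [List.map_cons, List.map_nil, List.prod_cons, List.prod_nil, mul_one]
  rw [st_14, st_15, st_13]

theorem rel_9 : ((([0, 3, 0, 3] : List (Fin 7)).map HCT.mraw).prod : Matrix (Fin 5) (Fin 5) (ZMod 2)) = 1 := by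
  simp only [List.map_cons, List.map_nil, List.prod_cons, List.prod_nil, mul_one]
  rw [st_16, st_17, st_13]

theorem rel_10 : ((([0, 4, 0, 4] : List (Fin 7)).map HCT.mraw).prod : Matrix (Fin 5) (Fin 5) (ZMod 2)) = 1 := by
  simp only [List.map_cons, List.map_nil, List.prod_cons, List.prod_nil, mul_one]
  rw [st_18, st_19, st_13]

theorem rel_11 : ((([0, 5, 0, 5] : List (Fin 7)).map HCT.mraw).prod : Matrix (Fin 5) (Fin 5) (ZMod 2)) = 1 := by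
  simp only [List.map_cons, List.map_nil, List.prod_cons, List.prod_nil, mul_one]
  rw [st_20, st_21, st_13]

theorem rel_12 : ((([0, 6, 0, 6] : List (Fin 7)).map HCT.mraw).prod : Matrix (Fin 5) (Fin 5) (ZMod 2)) = 1 := by
  simp only [List.map_cons, List.map_nil, List.prod_cons, List.prod_nil, mul_one]
  rw [st_22, st_23, st_13]

theorem rel_13 : ((([1, 2, 1, 2, 1, 2] : List (Fin 7)).map HCT.mraw).prod : Matrix (Fin 5) (Fin 5) (ZMod 2)) = 1 := by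
  simp only [List.map_cons, List.map_nil, List.prod_cons, List.prod_nil, mul_one]
  rw [st_24, st_25, st_26, st_27, st_28]

theorem rel_14 : ((([1, 3, 1, 3] : List (Fin 7)).map HCT.mraw).prod : Matrix (Fin 5) (Fin 5) (ZMod 2)) = 1 := by
  simp only [List.map_cons, List.map_nil, List.prod_cons, List.prod_nil, mul_one]
  rw [st_29, st_30, st_28]

theorem rel_15 : ((([1, 4, 1, 4] : List (Fin 7)).map HCT.mraw).prod : Matrix (Fin 5) (Fin 5) (ZMod 2)) = 1 := by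
  simp only [List.map_cons, List.map_nil, List.prod_cons, List.prod_nil, mul_one]
  rw [st_31, st_32, st_28]

theorem rel_16 : ((([1, 5, 1, 5, 1, 5] : List (Fin 7)).map HCT.mraw).prod : Matrix (Fin 5) (Fin 5) (ZMod 2)) = 1 := by
  simp only [List.map_cons, List.map_nil, List.prod_cons, List.prod_nil, mul_one]
  rw [st_33, st_34, st_35, st_36, st_28]

theorem rel_17 : ((([1, 6, 1, 6, 1, 6] : List (Fin 7)).map HCT.mraw).prod : Matrix (Fin 5) (Fin 5) (ZMod 2)) = 1 := by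
  simp only [List.map_cons, List.map_nil, List.prod_cons, List.prod_nil, mul_one]
  rw [st_37, st_38, st_39, st_40, st_28]

theorem rel_18 : ((([2, 3, 2, 3] : List (Fin 7)).map HCT.mraw).prod : Matrix (Fin 5) (Fin 5) (ZMod 2)) = 1 := by
  simp only [List.map_cons, List.map_nil, List.prod_cons, List.prod_nil, mul_one]
  rw [st_41, st_42, st_43]

theorem rel_19 : ((([2, 4, 2, 4] : List (Fin 7)).map HCT.mraw).prod : Matrix (Fin 5) (Fin 5) (ZMod 2)) = 1 := by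
  simp only [List.map_cons, List.map_nil, List.prod_cons, List.prod_nil, mul_one]
  rw [st_44, st_45, st_43]

theorem rel_20 : ((([2, 5, 2, 5] : List (Fin 7)).map HCT.mraw).prod : Matrix (Fin 5) (Fin 5) (ZMod 2)) = 1 := by
  simp only [List.map_cons, List.map_nil, List.prod_cons, List.prod_nil, mul_one]
  rw [st_46, st_47, st_43]

theorem rel_21 : ((([2, 6, 2, 6] : List (Fin 7)).map HCT.mraw).prod : Matrix (Fin 5) (Fin 5) (ZMod 2)) = 1 := by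
  simp only [List.map_cons, List.map_nil, List.prod_cons, List.prod_nil, mul_one]
  rw [st_48, st_49, st_43]

theorem rel_22 : ((([3, 4, 3, 4, 3, 4, 3, 4] : List (Fin 7)).map HCT.mraw).prod : Matrix (Fin 5) (Fin 5) (ZMod 2)) = 1 := by
  simp only [List.map_cons, List.map_nil, List.prod_cons, List.prod_nil, mul_one]
  rw [st_50, st_51, st_52, st_53, st_54, st_55, st_56]

theorem rel_23 : ((([3, 5, 3, 5] : List (Fin 7)).map HCT.mraw).prod : Matrix (Fin 5) (Fin 5) (ZMod 2)) = 1 := by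
  simp only [List.map_cons, List.map_nil, List.prod_cons, List.prod_nil, mul_one]
  rw [st_57, st_58, st_56]

theorem rel_24 : ((([3, 6, 3, 6, 3, 6, 3, 6] : List (Fin 7)).map HCT.mraw).prod : Matrix (Fin 5) (Fin 5) (ZMod 2)) = 1 := by
  simp only [List.map_cons, List.map_nil, List.prod_cons, List.prod_nil, mul_one]
  rw [st_59, st_60, st_61, st_62, st_63, st_64, st_56]

theorem rel_25 : ((([4, 5, 4, 5, 4, 5, 4, 5] : List (Fin 7)).map HCT.mraw).prod : Matrix (Fin 5) (Fin 5) (ZMod 2)) = 1 := by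
  simp only [List.map_cons, List.map_nil, List.prod_cons, List.prod_nil, mul_one]
  rw [st_65, st_66, st_67, st_68, st_69, st_70, st_71]

theorem rel_26 : ((([4, 6, 4, 6] : List (Fin 7)).map HCT.mraw).prod : Matrix (Fin 5) (Fin 5) (ZMod 2)) = 1 := by
  simp only [List.map_cons, List.map_nil, List.prod_cons, List.prod_nil, mul_one]
  rw [st_72, st_73, st_71]

theorem rel_27 : ((([5, 6, 5, 6, 5, 6, 5, 6] : List (Fin 7)).map HCT.mraw).prod : Matrix (Fin 5) (Fin 5) (ZMod 2)) = 1 := by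
  simp only [List.map_cons, List.map_nil, List.prod_cons, List.prod_nil, mul_one]
  rw [st_74, st_75, st_76, st_77, st_78, st_79, st_80]

theorem rel_28 : ((([4, 5, 4, 3, 4, 5, 4, 3] : List (Fin 7)).map HCT.mraw).prod : Matrix (Fin 5) (Fin 5) (ZMod 2)) = 1 := by
  simp only [List.map_cons, List.map_nil, List.prod_cons, List.prod_nil, mul_one]
  rw [st_81, st_82, st_83, st_84, st_69, st_70, st_71]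

theorem rel_29 : ((([4, 5, 4, 5, 6, 3, 6, 3, 0] : List (Fin 7)).map HCT.mraw).prod : Matrix (Fin 5) (Fin 5) (ZMod 2)) = 1 := by
  simp only [List.map_cons, List.map_nil, List.prod_cons, List.prod_nil, mul_one]
  rw [st_85, st_86, st_87, st_88, st_68, st_69, st_70, st_71]

theorem rel_30 : ((([5, 1, 0, 1, 5, 3, 1, 0, 1, 0] : List (Fin 7)).map HCT.mraw).prod : Matrix (Fin 5) (Fin 5) (ZMod 2)) = 1 := by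
  simp only [List.map_cons, List.map_nil, List.prod_cons, List.prod_nil, mul_one]
  rw [st_89, st_90, st_91, st_92, st_93, st_94, st_95, st_96, st_80]

theorem rel_31 : ((([6, 1, 0, 1, 6, 4, 1, 0, 1, 0] : List (Fin 7)).map HCT.mraw).prod : Matrix (Fin 5) (Fin 5) (ZMod 2)) = 1 := by
  simp only [List.map_cons, List.map_nil, List.prod_cons, List.prod_nil, mul_one]
  rw [st_89, st_90, st_91, st_97, st_98, st_99, st_100, st_101, st_102]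

theorem rel_32 : ((([4, 6, 3, 5, 6, 4, 5, 3, 2, 0] : List (Fin 7)).map HCT.mraw).prod : Matrix (Fin 5) (Fin 5) (ZMod 2)) = 1 := by
  simp only [List.map_cons, List.map_nil, List.prod_cons, List.prod_nil, mul_one]
  rw [st_103, st_104, st_105, st_106, st_107, st_108, st_109, st_73, st_71]

theorem zmod2_eq_one' (x : ZMod 2) (h : x ≠ 0) : x = 1 := by
  revert h; revert x; decide

theorem mraw_sq : ∀ i : Fin 7, HCT.mraw i * HCT.mraw i = 1 := by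
  intro i
  fin_cases i
  · exact st_sq0
  · exact st_sq1
  · exact st_sq2
  · exact st_sq3
  · exact st_sq4
  · exact st_sq5
  · exact st_sq6

theorem mraw_det (i : Fin 7) : (HCT.mraw i).det = 1 := by
  apply zmod2_eq_one'
  intro h0
  have h1 := congrArg Matrix.det (mraw_sq i)
  rw [Matrix.det_mul, h0, Matrix.det_one, mul_zero] at h1
  exact zero_ne_one h1

/-- the seven generators as elements of `SL(5, 2)` -/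
def mgen (i : Fin 7) : Matrix.SpecialLinearGroup (Fin 5) (ZMod 2) :=
  ⟨HCT.mraw i, mraw_det i⟩

theorem coe_mgen : ∀ i : Fin 7,
    ((mgen i : Matrix.SpecialLinearGroup (Fin 5) (ZMod 2)) : Matrix (Fin 5) (Fin 5) (ZMod 2))
      = HCT.mraw i := fun _ => rfl

theorem mraw_comm_transv : ∀ i : Fin 7,
    (Matrix.transvection 0 1 1 : Matrix (Fin 5) (Fin 5) (ZMod 2)) * HCT.mraw i
      = HCT.mraw i * Matrix.transvection 0 1 1 := by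
  decide

theorem mgen_mem : ∀ s : Matrix.SpecialLinearGroup (Fin 5) (ZMod 2),
    (s : Matrix (Fin 5) (Fin 5) (ZMod 2)) = Matrix.transvection 0 1 1 →
    ∀ i : Fin 7, mgen i ∈ Subgroup.centralizer ({s} : Set (Matrix.SpecialLinearGroup (Fin 5) (ZMod 2))) := by
  intro s hs i
  rw [Subgroup.mem_centralizer_iff]
  intro h hh
  rw [Set.mem_singleton_iff] at hh
  subst hh
  apply Subtype.ext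
  rw [Matrix.SpecialLinearGroup.coe_mul, Matrix.SpecialLinearGroup.coe_mul, hs, coe_mgen]
  exact mraw_comm_transv i

theorem coe_prod_map (W : List (Fin 7)) :
    (((W.map mgen).prod : Matrix.SpecialLinearGroup (Fin 5) (ZMod 2)) :
        Matrix (Fin 5) (Fin 5) (ZMod 2)) = (W.map HCT.mraw).prod := by
  induction W with
  | nil => simp
  | cons a W ih =>
    rw [List.map_cons, List.prod_cons, Matrix.SpecialLinearGroup.coe_mul, ih, List.map_cons,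
      List.prod_cons, coe_mgen]

theorem rel_one : ∀ W ∈ HCT.relW, (W.map mgen).prod = 1 := by
  intro W hW
  apply Subtype.ext
  rw [coe_prod_map, Matrix.SpecialLinearGroup.coe_one]
  simp only [HCT.relW, List.mem_cons, List.mem_nil_iff, or_false] at hW
  rcases hW with rfl | rfl | rfl | rfl | rfl | rfl | rfl | rfl | rfl | rfl | rfl | rfl | rfl | rfl | rfl | rfl | rfl | rfl | rfl | rfl | rfl | rfl | rfl | rfl | rfl | rfl | rfl | rfl | rfl | rfl | rfl | rfl | rfl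
  · exact rel_0
  · exact rel_1
  · exact rel_2
  · exact rel_3
  · exact rel_4
  · exact rel_5
  · exact rel_6
  · exact rel_7
  · exact rel_8
  · exact rel_9
  · exact rel_10
  · exact rel_11
  · exact rel_12
  · exact rel_13
  · exact rel_14
  · exact rel_15
  · exact rel_16
  · exact rel_17
  · exact rel_18
  · exact rel_19
  · exact rel_20
  · exact rel_21
  · exact rel_22
  · exact rel_23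
  · exact rel_24
  · exact rel_25
  · exact rel_26
  · exact rel_27
  · exact rel_28
  · exact rel_29
  · exact rel_30
  · exact rel_31
  · exact rel_32

end Cfsg.Agent.Lib.Helper19.HCTGen
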