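import Mathlib
import Cfsg.Prelude.Def_OddOrderLocal
import Cfsg.Prelude.Def_Solvable
import Cfsg.Prelude.Def_LocalEven
import Cfsg.Agent.Lib.Helper17.QuadNA
import Cfsg.Agent.Lib.Helper24.Fitting
import Cfsg.Agent.Lib.Helper10.Comp
import Cfsg.Agent.Lib.Helper12.Rk2Fit
import Cfsg.Agent.Lib.Helper1.Cores

set_option autoImplicit false
set_option maxHeartbeats 1000000

/-!
Self-centralizing normal subgroups of the Fitting subgroup of a Hall subgroup of a solvable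
group (primes at least five): the centralizer splits as `A × D` with `D` a Hall complement.
-/

namespace Cfsg.Agent.Lib.Helper19.HallSCN

open Cfsg

universe u

/-- a solvable group does not involve `SL(2, p)` for `p ≥ 5` -/
theorem not_involves_sl2 {Q : Type u} [Group Q] [hs : Group.IsSolvable Q] (p : ℕ)
    [hp : Fact p.Prime] (hp2 : p ≠ 2) (hp3 : p ≠ 3) :
    ¬ Cfsg.Involves (Matrix.SpecialLinearGroup (Fin 2) (ZMod p)) Q := by
  rintro ⟨K, R, hn, ⟨e⟩⟩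
  have h2 : Group.IsSolvable (Matrix.SpecialLinearGroup (Fin 2) (ZMod p)) :=
    Group.isSolvable_of_surjective (f := e.toMonoidHom) e.surjective
  have h2ne : (2 : ZMod p) ≠ 0 := by
    intro h
    have h' : ((2 : ℕ) : ZMod p) = 0 := by exact_mod_cast h
    have hd := (ZMod.natCast_eq_zero_iff 2 p).mp h'
    exact hp2 ((Nat.prime_dvd_prime_iff_eq hp.out Nat.prime_two).mp hd)
  have h4 : (2 : ZMod p) ^ 2 ≠ 1 := by
    intro h
    have h' : ((3 : ℕ) : ZMod p) = 0 := by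
      push_cast
      linear_combination h
    have hd := (ZMod.natCast_eq_zero_iff 3 p).mp h'
    exact hp3 ((Nat.prime_dvd_prime_iff_eq hp.out Nat.prime_three).mp hd)
  have hperf := Matrix.SL2.commutator_eq_top h2ne h4
  have hnt : Nontrivial (Matrix.SpecialLinearGroup (Fin 2) (ZMod p)) := by
    refine ⟨⟨⟨!![1, 1; 0, 1], by simp [Matrix.det_fin_two]⟩, 1, ?_⟩⟩
    intro h
    have h1 := congrArg (fun m : Matrix.SpecialLinearGroup (Fin 2) (ZMod p) =>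
      (m : Matrix (Fin 2) (Fin 2) (ZMod p)) 0 1) h
    simp at h1
  exact (Group.IsSolvable.commutator_lt_top_of_nontrivial _).ne hperf

/-- powers of an element commuting with its commutator -/
theorem pow_conj {G : Type*} [Group G] (a f : G)
    (h : a * (a * f * a⁻¹ * f⁻¹) = (a * f * a⁻¹ * f⁻¹) * a) (n : ℕ) :
    a ^ n * f * (a ^ n)⁻¹ = (a * f * a⁻¹ * f⁻¹) ^ n * f := by
  induction n with
  | zero => simp
  | succ n ih =>
    have hc : Commute a ((a * f * a⁻¹ * f⁻¹) ^ n) :=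
      (show Commute a (a * f * a⁻¹ * f⁻¹) from h).pow_right n
    have e0 : a ^ (n + 1) * f * (a ^ (n + 1))⁻¹ = a * (a ^ n * f * (a ^ n)⁻¹) * a⁻¹ := by
      rw [pow_succ']; group
    have e1 : a * ((a * f * a⁻¹ * f⁻¹) ^ n * f) * a⁻¹
        = (a * (a * f * a⁻¹ * f⁻¹) ^ n) * (f * a⁻¹) := by
      simp only [mul_assoc]
    have e2 : (a * f * a⁻¹ * f⁻¹) ^ (n + 1) * f
        = ((a * f * a⁻¹ * f⁻¹) ^ n * a) * (f * a⁻¹) := by
      rw [pow_succ, mul_assoc ((a * f * a⁻¹ * f⁻¹) ^ n), inv_mul_cancel_right]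
      simp only [mul_assoc]
    rw [e0, ih, e1, e2, hc.eq]

/-- a maximal normal `π'`-subgroup -/
theorem exists_core {S : Type u} [Group S] [Finite S] (π : Set ℕ) :
    ∃ K : Subgroup S, ∃ _ : K.Normal, (∀ q : ℕ, q.Prime → q ∣ Nat.card K → q ∉ π) ∧
      ∀ N : Subgroup (S ⧸ K), N.Normal → (∀ q : ℕ, q.Prime → q ∣ Nat.card N → q ∉ π) →
        N = ⊥ := by
  classical
  obtain ⟨K, hK, hmax⟩ := (wellFounded_gt (α := Subgroup S)).has_min
    {K : Subgroup S | K.Normal ∧ ∀ q : ℕ, q.Prime → q ∣ Nat.card K → q ∉ π}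
    ⟨⊥, Subgroup.normal_bot, by
      intro q hq hd
      rw [Subgroup.card_bot] at hd
      exact absurd (Nat.le_of_dvd one_pos hd) (by have := hq.two_le; omega)⟩
  obtain ⟨hKn, hKπ⟩ := hK
  refine ⟨K, hKn, hKπ, ?_⟩
  intro N hNn hNπ
  have hmk : Function.Surjective (QuotientGroup.mk' K) := QuotientGroup.mk'_surjective K
  have hN'n : (N.comap (QuotientGroup.mk' K)).Normal := hNn.comap _
  have hKle : K ≤ N.comap (QuotientGroup.mk' K) := by
    intro x hx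
    rw [Subgroup.mem_comap]
    have h1 : QuotientGroup.mk' K x = 1 := by
      rw [← MonoidHom.mem_ker, QuotientGroup.ker_mk']; exact hx
    rw [h1]; exact N.one_mem
  have hN'π : ∀ q : ℕ, q.Prime → q ∣ Nat.card (N.comap (QuotientGroup.mk' K)) → q ∉ π := by
    intro q hq hd
    have hqF : Fact q.Prime := ⟨hq⟩
    obtain ⟨y, hy⟩ := exists_prime_orderOf_dvd_card' q hd
    have hyo : orderOf (y : S) = q := by rw [Subgroup.orderOf_coe]; exact hy
    have hyN : QuotientGroup.mk' K (y : S) ∈ N := y.2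
    have hdvd : orderOf (QuotientGroup.mk' K (y : S)) ∣ q := by
      rw [← hyo]; exact orderOf_map_dvd _ _
    rcases (Nat.dvd_prime hq).mp hdvd with h1 | h1
    · have hyK : (y : S) ∈ K := by
        exact (QuotientGroup.eq_one_iff (y : S)).mp (orderOf_eq_one_iff.mp h1)
      apply hKπ q hq
      rw [← hyo]
      exact Subgroup.orderOf_dvd_natCard K hyK
    · apply hNπ q hq
      rw [← h1]
      exact Subgroup.orderOf_dvd_natCard N hyN
  have heq : N.comap (QuotientGroup.mk' K) = K := by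
    by_contra hne
    exact hmax _ ⟨hN'n, hN'π⟩ (lt_of_le_of_ne hKle (Ne.symm hne))
  rw [eq_bot_iff]
  intro n hn
  obtain ⟨s, rfl⟩ := hmk n
  have hs : s ∈ N.comap (QuotientGroup.mk' K) := hn
  rw [heq] at hs
  rw [Subgroup.mem_bot, ← MonoidHom.mem_ker, QuotientGroup.ker_mk']
  exact hs

/-- the key step: a `p`-element (`p ∈ π`) centralizing `A` lies in `A` -/
theorem main {S : Type u} [Group S] [Finite S] [hsol : Group.IsSolvable S]
    (π : Set ℕ) (h2 : 2 ∉ π) (h3 : 3 ∉ π) (H : Subgroup S) (hH : Cfsg.IsPiHall π H)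
    (A : Subgroup S) (hA : Cfsg.IsSCN ((Cfsg.fittingSubgroup H).map H.subtype) A)
    (p : ℕ) (hp : p.Prime) (hpπ : p ∈ π) (x : S) (hx : x ∈ Subgroup.centralizer (A : Set S))
    (k : ℕ) (hxk : x ^ p ^ k = 1) : x ∈ A := by
  classical
  have hpF : Fact p.Prime := ⟨hp⟩
  have hp2 : p ≠ 2 := fun h => h2 (h ▸ hpπ)
  have hp3 : p ≠ 3 := fun h => h3 (h ▸ hpπ)
  obtain ⟨F', hF'⟩ : ∃ F' : Subgroup S, F' = (Cfsg.fittingSubgroup H).map H.subtype := ⟨_, rfl⟩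
  rw [← hF'] at hA
  obtain ⟨hAF, hFA, hFCA⟩ := hA
  have hF'H : F' ≤ H := by rw [hF']; exact Subgroup.map_subtype_le _
  have hAH : A ≤ H := hAF.trans hF'H
  obtain ⟨K, hKn, hKπ, hKmax⟩ := exists_core (S := S) π
  have hKn' : K.Normal := hKn
  obtain ⟨mk, hmk⟩ : ∃ mk : S →* S ⧸ K, mk = QuotientGroup.mk' K := ⟨_, rfl⟩
  have hmks : Function.Surjective mk := by rw [hmk]; exact QuotientGroup.mk'_surjective K
  have hker : ∀ y : S, mk y = 1 ↔ y ∈ K := by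
    intro y; rw [hmk]; exact QuotientGroup.eq_one_iff y
  have hHK : ∀ y ∈ H, y ∈ K → y = 1 := by
    intro y hyH hyK
    by_contra hne
    have ho : orderOf y ≠ 1 := fun h => hne (orderOf_eq_one_iff.mp h)
    obtain ⟨q, hq, hqd⟩ := Nat.exists_prime_and_dvd ho
    exact hKπ q hq (hqd.trans (Subgroup.orderOf_dvd_natCard K hyK))
      (hH.1 q hq (hqd.trans (Subgroup.orderOf_dvd_natCard H hyH)))
  -- the Fitting subgroup of the quotient
  obtain ⟨FQ, hFQ⟩ : ∃ FQ : Subgroup (S ⧸ K), FQ = Cfsg.fittingSubgroup (S ⧸ K) := ⟨_, rfl⟩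
  have hFn : FQ.Normal := by rw [hFQ]; exact Cfsg.Agent.Lib.Helper24.fitting_mem.1
  have hFnil : Group.IsNilpotent FQ := by rw [hFQ]; exact Cfsg.Agent.Lib.Helper24.fitting_mem.2
  have hFmax : ∀ N : Subgroup (S ⧸ K), N.Normal → Group.IsNilpotent N → N ≤ FQ := by
    intro N hN hNn; rw [hFQ]; exact Cfsg.Agent.Lib.Helper24.le_fitting N hN hNn
  have hcore : ∀ (q : ℕ) [Fact q.Prime] (t : S ⧸ K), t ∈ FQ → ∀ j : ℕ, t ^ q ^ j = 1 →
      t ∈ Cfsg.pCore q (S ⧸ K) := by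
    intro q _ t ht j htj
    rw [hFQ] at ht
    exact Cfsg.Agent.Lib.Helper12.Rk2Fit.mem_pCore_of_mem_fitting q t ht j htj
  have hFπ : ∀ q : ℕ, q.Prime → q ∣ Nat.card FQ → q ∈ π := by
    intro q hq hd
    by_contra hqπ
    have hqF : Fact q.Prime := ⟨hq⟩
    obtain ⟨y, hy⟩ := exists_prime_orderOf_dvd_card' q hd
    have hy1 : (y : S ⧸ K) ^ q ^ 1 = 1 := by
      rw [pow_one, ← hy, ← Subgroup.orderOf_coe]; exact pow_orderOf_eq_one _
    have hyc := hcore q (y : S ⧸ K) y.2 1 hy1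
    have hcn : (Cfsg.pCore q (S ⧸ K)).Normal := Cfsg.Agent.Lib.Helper1.pCore_normal q
    have hcp : IsPGroup q (Cfsg.pCore q (S ⧸ K)) := Cfsg.Agent.Lib.Helper1.pCore_isPGroup q
    have hbot : Cfsg.pCore q (S ⧸ K) = ⊥ := by
      apply hKmax _ hcn
      intro q' hq' hd'
      obtain ⟨n, hn⟩ := IsPGroup.iff_card.mp hcp
      rw [hn] at hd'
      have h1 := (Nat.prime_dvd_prime_iff_eq hq' hq).mp (hq'.dvd_of_dvd_pow hd')
      rw [h1]; exact hqπ
    rw [hbot, Subgroup.mem_bot] at hyc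
    have hy0 : y = 1 := Subtype.ext hyc
    rw [hy0, orderOf_one] at hy
    exact hq.one_lt.ne hy
  have hFH : FQ ≤ H.map mk := by
    have h1 := Cfsg.Agent.Lib.Helper24.relIndex_inf_eq_sup FQ (H.map mk)
    have h2' : (H.map mk).relIndex (FQ ⊔ H.map mk) = 1 := by
      by_contra hne
      obtain ⟨q, hq, hqd⟩ := Nat.exists_prime_and_dvd hne
      have hqπ : q ∈ π := by
        apply hFπ q hq
        rw [← h1] at hqd
        exact hqd.trans (Subgroup.relIndex_dvd_card _ _)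
      have hqi : q ∣ H.index := by
        refine (hqd.trans ?_).trans (Subgroup.index_map_dvd H hmks)
        exact Subgroup.relIndex_dvd_index_of_le le_sup_right
      exact hH.2 q hq hqπ hqi
    have h3' := Subgroup.relIndex_eq_one.mp h2'
    exact le_sup_left.trans h3'
  have hlift : ∀ f ∈ FQ, ∃ r ∈ F', mk r = f := by
    obtain ⟨R', hR'⟩ : ∃ R' : Subgroup ↥H, R' = (FQ.comap mk).subgroupOf H := ⟨_, rfl⟩
    have hR'n : R'.Normal := by rw [hR']; infer_instance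
    have hR'mem : ∀ r : ↥R', mk ((r : ↥H) : S) ∈ FQ := by
      intro r
      have h : (r : ↥H) ∈ (FQ.comap mk).subgroupOf H := by rw [← hR']; exact r.2
      exact Subgroup.mem_subgroupOf.mp h
    have hR'nil : Group.IsNilpotent R' := by
      let ψ : ↥R' →* ↥FQ :=
        { toFun := fun r => ⟨mk ((r : ↥H) : S), hR'mem r⟩
          map_one' := by apply Subtype.ext; simp
          map_mul' := by intro a b; apply Subtype.ext; simp }
      have hψ : Function.Injective ψ := by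
        rw [injective_iff_map_eq_one]
        intro r hr
        have h1 : mk ((r : ↥H) : S) = 1 := congrArg Subtype.val hr
        have h2' : ((r : ↥H) : S) = 1 := hHK _ (r : ↥H).2 ((hker _).mp h1)
        exact Subtype.ext (Subtype.ext h2')
      exact Group.nilpotent_of_mulEquiv (MonoidHom.ofInjective hψ).symm
    have hle : R' ≤ Cfsg.fittingSubgroup ↥H := Cfsg.Agent.Lib.Helper24.le_fitting R' hR'n hR'nil
    intro f hf
    obtain ⟨h, hh, rfl⟩ := hFH hf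
    have hmem : (⟨h, hh⟩ : ↥H) ∈ R' := by rw [hR']; exact Subgroup.mem_subgroupOf.mpr hf
    exact ⟨h, by rw [hF']; exact ⟨⟨h, hh⟩, hle hmem, rfl⟩, rfl⟩
  have hAK : ∀ y ∈ A, y ∈ K → y = 1 := fun y hy hyK => hHK y (hAH hy) hyK
  have hcentA : ∀ r ∈ F', ∀ y ∈ Subgroup.centralizer (A : Set S), mk r = mk y → r ∈ A := by
    intro r hr y hy hry
    have hrC : r ∈ Subgroup.centralizer (A : Set S) := by
      rw [Subgroup.mem_centralizer_iff]
      intro a₀ ha₀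
      have hrn := hFA hr
      have he : r * a₀ * r⁻¹ * a₀⁻¹ ∈ A :=
        A.mul_mem ((Subgroup.mem_normalizer_iff.mp hrn a₀).mp ha₀) (A.inv_mem ha₀)
      have hya : a₀ * y = y * a₀ := Subgroup.mem_centralizer_iff.mp hy a₀ ha₀
      have hmk1 : mk (r * a₀ * r⁻¹ * a₀⁻¹) = 1 := by
        have e1 : mk (r * a₀ * r⁻¹ * a₀⁻¹) = mk (y * a₀ * y⁻¹ * a₀⁻¹) := by
          simp only [map_mul, map_inv, hry]
        have e2 : y * a₀ * y⁻¹ * a₀⁻¹ = 1 := by rw [← hya]; group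
        rw [e1, e2, map_one]
      have h1 := hAK _ he ((hker _).mp hmk1)
      have h2' : r * a₀ * r⁻¹ = a₀ := by rw [← mul_inv_eq_one]; exact h1
      calc a₀ * r = r * a₀ * r⁻¹ * r := by rw [h2']
        _ = r * a₀ := by group
    have hmem : r ∈ F' ⊓ Subgroup.centralizer (A : Set S) := Subgroup.mem_inf.mpr ⟨hr, hrC⟩
    rw [hFCA] at hmem; exact hmem
  -- the image of x
  obtain ⟨a, ha⟩ : ∃ a : S ⧸ K, a = mk x := ⟨_, rfl⟩
  have hstep1 : ∀ f ∈ FQ, ∃ r' ∈ A, a * f * a⁻¹ * f⁻¹ = mk r' := by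
    intro f hf
    obtain ⟨r, hr, rfl⟩ := hlift f hf
    have hrn := hFA hr
    have hd : x * r * x⁻¹ * r⁻¹ ∈ Subgroup.centralizer (A : Set S) := by
      rw [Subgroup.mem_centralizer_iff]
      intro a₀ ha₀
      have hb : r⁻¹ * a₀ * r ∈ A := by
        have h := (Subgroup.mem_normalizer_iff.mp (Subgroup.inv_mem _ hrn) a₀).mp ha₀
        simpa using h
      have hxb : (r⁻¹ * a₀ * r) * x = x * (r⁻¹ * a₀ * r) :=
        Subgroup.mem_centralizer_iff.mp hx _ hb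
      have hxa : a₀ * x = x * a₀ := Subgroup.mem_centralizer_iff.mp hx _ ha₀
      have hxb' : x⁻¹ * (r⁻¹ * a₀ * r) = (r⁻¹ * a₀ * r) * x⁻¹ :=
        (Commute.inv_left (show Commute x (r⁻¹ * a₀ * r) from hxb.symm)).eq
      calc a₀ * (x * r * x⁻¹ * r⁻¹) = (a₀ * x) * r * x⁻¹ * r⁻¹ := by group
        _ = (x * a₀) * r * x⁻¹ * r⁻¹ := by rw [hxa]
        _ = x * r * ((r⁻¹ * a₀ * r) * x⁻¹) * r⁻¹ := by group
        _ = x * r * (x⁻¹ * (r⁻¹ * a₀ * r)) * r⁻¹ := by rw [hxb']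
        _ = x * r * x⁻¹ * r⁻¹ * a₀ := by group
    have hmem : mk (x * r * x⁻¹ * r⁻¹) ∈ FQ := by
      have e1 : mk (x * r * x⁻¹ * r⁻¹) = (mk x * mk r * (mk x)⁻¹) * (mk r)⁻¹ := by
        simp only [map_mul, map_inv]
      rw [e1]
      exact FQ.mul_mem (hFn.conj_mem _ hf _) (FQ.inv_mem hf)
    obtain ⟨r', hr', hr'e⟩ := hlift _ hmem
    refine ⟨r', hcentA r' hr' _ hd hr'e, ?_⟩
    rw [hr'e, ha]; simp only [map_mul, map_inv]
  have hcomm : ∀ f ∈ FQ, a * (a * f * a⁻¹ * f⁻¹) = (a * f * a⁻¹ * f⁻¹) * a := by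
    intro f hf
    obtain ⟨r', hr', he⟩ := hstep1 f hf
    rw [he, ha, ← map_mul, ← map_mul]
    congr 1
    exact (Subgroup.mem_centralizer_iff.mp hx r' hr').symm
  have hak : a ^ p ^ k = 1 := by rw [ha, ← map_pow, hxk, map_one]
  obtain ⟨Pp, hPpdef⟩ : ∃ Pp : Subgroup (S ⧸ K), Pp = Cfsg.pCore p (S ⧸ K) := ⟨_, rfl⟩
  have hPn : Pp.Normal := by rw [hPpdef]; exact Cfsg.Agent.Lib.Helper1.pCore_normal p
  have hPg : IsPGroup p Pp := by rw [hPpdef]; exact Cfsg.Agent.Lib.Helper1.pCore_isPGroup p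
  have hPF : Pp ≤ FQ := hFmax Pp hPn (IsPGroup.isNilpotent hPg)
  have hPp : ∀ f ∈ FQ, a * f * a⁻¹ * f⁻¹ ∈ Pp := by
    intro f hf
    have h1 := pow_conj a f (hcomm f hf) (p ^ k)
    rw [hak] at h1
    have h2' : (a * f * a⁻¹ * f⁻¹) ^ p ^ k = 1 := by
      have h3' : (a * f * a⁻¹ * f⁻¹) ^ p ^ k * f = f := by rw [← h1]; simp
      have h4 := congrArg (· * f⁻¹) h3'
      simpa using h4
    have hcF : a * f * a⁻¹ * f⁻¹ ∈ FQ := FQ.mul_mem (hFn.conj_mem _ hf _) (FQ.inv_mem hf)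
    rw [hPpdef]
    exact hcore p _ hcF k h2'
  have hno : ¬ Cfsg.Involves (Matrix.SpecialLinearGroup (Fin 2) (ZMod p)) (S ⧸ K) :=
    not_involves_sl2 p hp2 hp3
  obtain ⟨φ, hφ⟩ : ∃ φ : (S ⧸ K) →* MulAut ↥Pp,
      ∀ (g : S ⧸ K) (v : ↥Pp), ((φ g v : ↥Pp) : S ⧸ K) = g * v * g⁻¹ :=
    ⟨MulAut.conjNormal, fun g v => rfl⟩
  have hquad : ∀ v : ↥Pp, φ a (φ a v * v⁻¹) = φ a v * v⁻¹ := by
    intro v
    apply Subtype.ext
    rw [hφ, Subgroup.coe_mul, hφ, Subgroup.coe_inv]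
    have h := hcomm (v : S ⧸ K) (hPF v.2)
    rw [h, mul_inv_cancel_right]
  obtain ⟨N, hNn, haN, hNp⟩ :=
    Cfsg.Agent.Lib.Helper17.quad_na p hp2 hno a (Nat.card ↥Pp) ↥Pp rfl hPg φ hquad
  obtain ⟨W, hW⟩ : ∃ W : Subgroup (S ⧸ K),
      ∀ y, y ∈ W ↔ (y ∈ N ∧ ∀ f ∈ FQ, y * f * y⁻¹ * f⁻¹ ∈ Pp) :=
    ⟨{ carrier := {y | y ∈ N ∧ ∀ f ∈ FQ, y * f * y⁻¹ * f⁻¹ ∈ Pp}
       one_mem' := ⟨N.one_mem, fun f hf => by
         rw [show (1 : S ⧸ K) * f * 1⁻¹ * f⁻¹ = 1 by group]; exact Pp.one_mem⟩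
       mul_mem' := by
         rintro y₁ y₂ ⟨h1, h1'⟩ ⟨h2', h2''⟩
         refine ⟨N.mul_mem h1 h2', fun f hf => ?_⟩
         have e : y₁ * y₂ * f * (y₁ * y₂)⁻¹ * f⁻¹
             = y₁ * (y₂ * f * y₂⁻¹ * f⁻¹) * y₁⁻¹ * (y₁ * f * y₁⁻¹ * f⁻¹) := by group
         rw [e]
         exact Pp.mul_mem (hPn.conj_mem _ (h2'' f hf) _) (h1' f hf)
       inv_mem' := by
         rintro y ⟨h1, h1'⟩
         refine ⟨N.inv_mem h1, fun f hf => ?_⟩
         have e : y⁻¹ * f * y⁻¹⁻¹ * f⁻¹ = y⁻¹ * (y * f * y⁻¹ * f⁻¹)⁻¹ * y⁻¹⁻¹ := by group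
         rw [e]
         exact hPn.conj_mem _ (Pp.inv_mem (h1' f hf)) _ }, fun y => Iff.rfl⟩
  have hWn : W.Normal := by
    refine ⟨fun y hy g => ?_⟩
    rw [hW] at hy ⊢
    refine ⟨hNn.conj_mem _ hy.1 _, fun f hf => ?_⟩
    have e : g * y * g⁻¹ * f * (g * y * g⁻¹)⁻¹ * f⁻¹
        = g * (y * (g⁻¹ * f * g) * y⁻¹ * (g⁻¹ * f * g)⁻¹) * g⁻¹ := by group
    rw [e]
    refine hPn.conj_mem _ (hy.2 _ ?_) _
    have h := hFn.conj_mem f hf g⁻¹
    simpa using h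
  have haW : a ∈ W := (hW a).mpr ⟨haN, hPp⟩
  have hZn : (Subgroup.centralizer (FQ : Set (S ⧸ K))).Normal := inferInstance
  have hZle : Subgroup.centralizer (FQ : Set (S ⧸ K)) ≤ FQ := by
    have h := Cfsg.Agent.Lib.Helper10.subnormal_solvable_le_fitting_of_le_centralizer
      (Subgroup.centralizer (FQ : Set (S ⧸ K))) (Subgroup.Normal.isSubnormal hZn)
      (by rw [hFQ]) inferInstance
    rw [← hFQ] at h; exact h
  obtain ⟨e, he⟩ := IsPGroup.iff_card.mp hPg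
  have hWZ : ∀ y ∈ W, ∃ j : ℕ, y ^ p ^ j ∈ Subgroup.centralizer (FQ : Set (S ⧸ K)) := by
    intro y hy
    obtain ⟨k₁, hk₁⟩ := hNp y ((hW y).mp hy).1
    have hy1W : y ^ p ^ k₁ ∈ W := W.pow_mem hy _
    have hcentP : ∀ v ∈ Pp, y ^ p ^ k₁ * v * (y ^ p ^ k₁)⁻¹ = v := by
      intro v hv
      have h1 : φ (y ^ p ^ k₁) = 1 := by rw [map_pow]; exact hk₁
      have h2' := hφ (y ^ p ^ k₁) ⟨v, hv⟩
      rw [h1, MulAut.one_apply] at h2'
      exact h2'.symm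
    refine ⟨k₁ + e, ?_⟩
    rw [Subgroup.mem_centralizer_iff]
    intro f hf
    have hd := ((hW _).mp hy1W).2 f hf
    have hcd : y ^ p ^ k₁ * (y ^ p ^ k₁ * f * (y ^ p ^ k₁)⁻¹ * f⁻¹)
        = (y ^ p ^ k₁ * f * (y ^ p ^ k₁)⁻¹ * f⁻¹) * y ^ p ^ k₁ :=
      mul_inv_eq_iff_eq_mul.mp (hcentP _ hd)
    have h3' := pow_conj (y ^ p ^ k₁) f hcd (p ^ e)
    have h4 : (y ^ p ^ k₁ * f * (y ^ p ^ k₁)⁻¹ * f⁻¹) ^ p ^ e = 1 :=
      orderOf_dvd_iff_pow_eq_one.mp (he ▸ Subgroup.orderOf_dvd_natCard Pp hd)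
    rw [h4, one_mul, ← pow_mul, ← pow_add] at h3'
    exact (mul_inv_eq_iff_eq_mul.mp h3').symm
  have hcardne : Nat.card (S ⧸ K) ≠ 0 := Nat.card_pos.ne'
  obtain ⟨v, m, hm, hcard⟩ := Nat.exists_eq_pow_mul_and_not_dvd hcardne p hp.ne_one
  have hcop : Nat.Coprime (p ^ e) m := ((Nat.Prime.coprime_iff_not_dvd hp).mpr hm).pow_left e
  have hZcomm : ∀ z₁ ∈ Subgroup.centralizer (FQ : Set (S ⧸ K)),
      ∀ z₂ ∈ Subgroup.centralizer (FQ : Set (S ⧸ K)), z₁ * z₂ = z₂ * z₁ := by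
    intro z₁ h1 z₂ h2'
    exact Subgroup.mem_centralizer_iff.mp h2' z₁ (hZle h1)
  obtain ⟨Z', hZ'⟩ : ∃ Z' : Subgroup ↥W, ∀ w : ↥W, w ∈ Z' ↔
      ((w : S ⧸ K) ∈ Subgroup.centralizer (FQ : Set (S ⧸ K)) ∧ (w : S ⧸ K) ^ m = 1) :=
    ⟨{ carrier := {w | (w : S ⧸ K) ∈ Subgroup.centralizer (FQ : Set (S ⧸ K)) ∧
          (w : S ⧸ K) ^ m = 1}
       one_mem' := ⟨by rw [Subgroup.coe_one]; exact Subgroup.one_mem _,
         by rw [Subgroup.coe_one, one_pow]⟩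
       mul_mem' := by
         rintro w₁ w₂ ⟨h1, h1'⟩ ⟨h2', h2''⟩
         refine ⟨by rw [Subgroup.coe_mul]; exact Subgroup.mul_mem _ h1 h2', ?_⟩
         rw [Subgroup.coe_mul, (show Commute (w₁ : S ⧸ K) (w₂ : S ⧸ K) from
           hZcomm _ h1 _ h2').mul_pow, h1', h2'', one_mul]
       inv_mem' := by
         rintro w ⟨h1, h1'⟩
         exact ⟨by rw [Subgroup.coe_inv]; exact Subgroup.inv_mem _ h1,
           by rw [Subgroup.coe_inv, inv_pow, h1', inv_one]⟩ }, fun w => Iff.rfl⟩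
  have hZ'c : Z' ≤ Subgroup.center ↥W := by
    intro w hw
    rw [hZ'] at hw
    rw [Subgroup.mem_center_iff]
    intro y
    apply Subtype.ext
    rw [Subgroup.coe_mul, Subgroup.coe_mul]
    have hyW : (y : S ⧸ K) ∈ W := y.2
    have hc1 := ((hW _).mp hyW).2 (w : S ⧸ K) (hZle hw.1)
    have hcpe : ((y : S ⧸ K) * w * (y : S ⧸ K)⁻¹ * (w : S ⧸ K)⁻¹) ^ p ^ e = 1 :=
      orderOf_dvd_iff_pow_eq_one.mp (he ▸ Subgroup.orderOf_dvd_natCard Pp hc1)
    have hconj : (y : S ⧸ K) * w * (y : S ⧸ K)⁻¹ ∈ Subgroup.centralizer (FQ : Set (S ⧸ K)) :=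
      hZn.conj_mem _ hw.1 _
    have hcm : ((y : S ⧸ K) * w * (y : S ⧸ K)⁻¹ * (w : S ⧸ K)⁻¹) ^ m = 1 := by
      rw [(show Commute ((y : S ⧸ K) * w * (y : S ⧸ K)⁻¹) ((w : S ⧸ K)⁻¹) from
        hZcomm _ hconj _ (Subgroup.inv_mem _ hw.1)).mul_pow, conj_pow, hw.2, inv_pow, hw.2]
      simp
    have hc : (y : S ⧸ K) * w * (y : S ⧸ K)⁻¹ * (w : S ⧸ K)⁻¹ = 1 := by
      have h1 := orderOf_dvd_of_pow_eq_one hcpe
      have h2' := orderOf_dvd_of_pow_eq_one hcm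
      have h3' := Nat.dvd_gcd h1 h2'
      rw [Nat.Coprime.gcd_eq_one hcop] at h3'
      exact orderOf_eq_one_iff.mp (Nat.dvd_one.mp h3')
    have h5 : (y : S ⧸ K) * w * (y : S ⧸ K)⁻¹ = w := by rw [← mul_inv_eq_one]; exact hc
    exact mul_inv_eq_iff_eq_mul.mp h5
  have hZ'n : Z'.Normal := by
    refine ⟨fun n hn g => ?_⟩
    have h := Subgroup.mem_center_iff.mp (hZ'c hn) g
    rw [h, mul_inv_cancel_right]; exact hn
  have hpg : IsPGroup p (↥W ⧸ Z') := by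
    intro g
    induction g using QuotientGroup.induction_on with
    | H y =>
      obtain ⟨j, hj⟩ := hWZ (y : S ⧸ K) y.2
      refine ⟨j + v, ?_⟩
      rw [← QuotientGroup.mk_pow, QuotientGroup.eq_one_iff, hZ']
      refine ⟨?_, ?_⟩
      · rw [Subgroup.coe_pow, pow_add, pow_mul]
        exact Subgroup.pow_mem _ hj _
      · rw [Subgroup.coe_pow, ← pow_mul]
        have h1 : p ^ (j + v) * m = Nat.card (S ⧸ K) * p ^ j := by rw [hcard]; ring
        rw [h1, pow_mul, pow_card_eq_one', one_pow]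
  have hWquot : Group.IsNilpotent (↥W ⧸ Z') := IsPGroup.isNilpotent hpg
  have hWnil : Group.IsNilpotent ↥W :=
    Subgroup.isNilpotent_of_ker_le_center (QuotientGroup.mk' Z')
      (by rw [QuotientGroup.ker_mk']; exact hZ'c)
  have haF : a ∈ FQ := hFmax W hWn hWnil haW
  obtain ⟨r₀, hr₀, hr₀e⟩ := hlift a haF
  have hr₀A : r₀ ∈ A := hcentA r₀ hr₀ x hx (by rw [hr₀e, ha])
  have hk₀ : r₀⁻¹ * x ∈ K := by
    rw [← hker, map_mul, map_inv, hr₀e, ha, inv_mul_cancel]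
  have hcomm₀ : Commute r₀⁻¹ x :=
    (show Commute r₀ x from Subgroup.mem_centralizer_iff.mp hx r₀ hr₀A).inv_left
  have h_r : r₀ ^ (Nat.card A * p ^ k) = 1 := by
    rw [pow_mul, orderOf_dvd_iff_pow_eq_one.mp (Subgroup.orderOf_dvd_natCard A hr₀A), one_pow]
  have h_x : x ^ (Nat.card A * p ^ k) = 1 := by
    rw [mul_comm, pow_mul, hxk, one_pow]
  have hpow : (r₀⁻¹ * x) ^ (Nat.card A * p ^ k) = 1 := by
    rw [hcomm₀.mul_pow, inv_pow, h_r, h_x]; simp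
  have hk₀1 : r₀⁻¹ * x = 1 := by
    by_contra hne
    have ho : orderOf (r₀⁻¹ * x) ≠ 1 := fun h => hne (orderOf_eq_one_iff.mp h)
    obtain ⟨q, hq, hqd⟩ := Nat.exists_prime_and_dvd ho
    have hq1 : q ∣ Nat.card A * p ^ k := hqd.trans (orderOf_dvd_of_pow_eq_one hpow)
    have hqπ : q ∈ π := by
      rcases (Nat.Prime.dvd_mul hq).mp hq1 with h | h
      · exact hH.1 q hq (h.trans (Subgroup.card_dvd_of_le hAH))
      · have h1 := (Nat.prime_dvd_prime_iff_eq hq hp).mp (hq.dvd_of_dvd_pow h)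
        rw [h1]; exact hpπ
    exact hKπ q hq (hqd.trans (Subgroup.orderOf_dvd_natCard K hk₀)) hqπ
  have hxr : x = r₀ := by
    have h1 := congrArg (r₀ * ·) hk₀1
    simpa using h1
  rw [hxr]; exact hr₀A

/-- the centralizer of `A` splits as `A × D`, `D` a normal `π'`-subgroup -/
theorem exists_compl {S : Type u} [Group S] [Finite S] [Group.IsSolvable S]
    (π : Set ℕ) (h2 : 2 ∉ π) (h3 : 3 ∉ π) (H : Subgroup S) (hH : Cfsg.IsPiHall π H)
    (A : Subgroup S) (hA : Cfsg.IsSCN ((Cfsg.fittingSubgroup H).map H.subtype) A) :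
    ∃ D : Subgroup S, D ≤ Subgroup.centralizer (A : Set S) ∧
      (∀ c ∈ Subgroup.centralizer (A : Set S), ∀ d ∈ D, c * d * c⁻¹ ∈ D) ∧
      A ⊓ D = ⊥ ∧ A ⊔ D = Subgroup.centralizer (A : Set S) ∧
      ∀ q : ℕ, q.Prime → q ∣ Nat.card D → q ∉ π := by
  classical
  have hkey := main π h2 h3 H hH A hA
  have hAH : A ≤ H := hA.1.trans (Subgroup.map_subtype_le _)
  have hAC0 : A ≤ Subgroup.centralizer (A : Set S) := by
    intro a ha
    have h1 : a ∈ (Cfsg.fittingSubgroup H).map H.subtype ⊓ Subgroup.centralizer (A : Set S) := by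
      rw [hA.2.2]; exact ha
    exact (Subgroup.mem_inf.mp h1).2
  obtain ⟨C, hC⟩ : ∃ C : Subgroup S, C = Subgroup.centralizer (A : Set S) := ⟨_, rfl⟩
  rw [← hC] at hkey hAC0 ⊢
  have hcentral : ∀ a ∈ A, ∀ c ∈ C, a * c = c * a := by
    intro a ha c hc
    rw [hC] at hc
    exact Subgroup.mem_centralizer_iff.mp hc a ha
  obtain ⟨AC, hACdef⟩ : ∃ AC : Subgroup ↥C, AC = A.subgroupOf C := ⟨_, rfl⟩
  have hACmem : ∀ z : ↥C, z ∈ AC ↔ (z : S) ∈ A := by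
    intro z; rw [hACdef]; exact Subgroup.mem_subgroupOf
  have hACc : ∀ z ∈ AC, ∀ w : ↥C, z * w = w * z := by
    intro z hz w
    apply Subtype.ext
    rw [Subgroup.coe_mul, Subgroup.coe_mul]
    exact hcentral _ ((hACmem z).mp hz) _ w.2
  have hACn : AC.Normal := by
    refine ⟨fun n hn g => ?_⟩
    have h := hACc n hn g
    rw [← h, mul_inv_cancel_right]; exact hn
  have hidx : ∀ p : ℕ, p.Prime → p ∈ π → ¬ p ∣ AC.index := by
    intro p hp hpπ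
    have hpF : Fact p.Prime := ⟨hp⟩
    obtain ⟨X⟩ := (inferInstance : Nonempty (Sylow p ↥C))
    have hXA : (X : Subgroup ↥C) ≤ AC := by
      intro y hy
      obtain ⟨k, hk⟩ := X.isPGroup' ⟨y, hy⟩
      have hk' : (y : S) ^ p ^ k = 1 := by
        have h1 := congrArg (fun z : ↥(X : Subgroup ↥C) => ((z : ↥C) : S)) hk
        simpa using h1
      exact (hACmem y).mpr (hkey p hp hpπ (y : S) y.2 k hk')
    intro hdvd
    exact X.not_dvd_index (hdvd.trans (Subgroup.index_dvd_of_le hXA))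
  have hAπ : ∀ q : ℕ, q.Prime → q ∣ Nat.card AC → q ∈ π := by
    intro q hq hd
    have h1 : Nat.card AC = Nat.card A := by
      rw [hACdef]
      exact Nat.card_congr (Subgroup.subgroupOfEquivOfLe hAC0).toEquiv
    rw [h1] at hd
    exact hH.1 q hq (hd.trans (Subgroup.card_dvd_of_le hAH))
  have hcop : Nat.Coprime (Nat.card AC) AC.index := by
    rw [Nat.coprime_iff_gcd_eq_one]
    by_contra hne
    obtain ⟨q, hq, hqd⟩ := Nat.exists_prime_and_dvd hne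
    exact hidx q hq (hAπ q hq (hqd.trans (Nat.gcd_dvd_left _ _)))
      (hqd.trans (Nat.gcd_dvd_right _ _))
  obtain ⟨Dc, hDc⟩ := Subgroup.exists_right_complement'_of_coprime hcop
  have hdecomp : ∀ c : ↥C, ∃ a₁ ∈ AC, ∃ d₁ ∈ Dc, a₁ * d₁ = c := by
    intro c
    have h1 : c ∈ ((AC ⊔ Dc : Subgroup ↥C) : Set ↥C) := by
      rw [hDc.sup_eq_top]; exact Set.mem_univ c
    rw [Subgroup.normal_mul] at h1
    exact Set.mem_mul.mp h1
  refine ⟨Dc.map C.subtype, Subgroup.map_subtype_le _, ?_, ?_, ?_, ?_⟩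
  · rintro c hc d ⟨d', hd', rfl⟩
    obtain ⟨a₁, ha₁, d₁, hd₁, hcd⟩ := hdecomp ⟨c, hc⟩
    refine ⟨d₁ * d' * d₁⁻¹, Dc.mul_mem (Dc.mul_mem hd₁ hd') (Dc.inv_mem hd₁), ?_⟩
    have h1 : (a₁ * d₁) * d' * (a₁ * d₁)⁻¹ = d₁ * d' * d₁⁻¹ := by
      have h2' := hACc a₁ ha₁ (d₁ * d' * d₁⁻¹)
      calc (a₁ * d₁) * d' * (a₁ * d₁)⁻¹ = a₁ * (d₁ * d' * d₁⁻¹) * a₁⁻¹ := by group
        _ = (d₁ * d' * d₁⁻¹) * a₁ * a₁⁻¹ := by rw [h2']
        _ = d₁ * d' * d₁⁻¹ := by rw [mul_inv_cancel_right]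
    rw [hcd] at h1
    have h3' := congrArg (fun z : ↥C => (z : S)) h1
    simpa using h3'.symm
  · rw [eq_bot_iff]
    rintro y ⟨hyA, ⟨d', hd', rfl⟩⟩
    have h1 : d' ∈ AC ⊓ Dc := Subgroup.mem_inf.mpr ⟨(hACmem d').mpr hyA, hd'⟩
    rw [hDc.disjoint.eq_bot, Subgroup.mem_bot] at h1
    rw [Subgroup.mem_bot, h1]; rfl
  · apply le_antisymm
    · exact sup_le hAC0 (Subgroup.map_subtype_le _)
    · intro c hc
      obtain ⟨a₁, ha₁, d₁, hd₁, hcd⟩ := hdecomp ⟨c, hc⟩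
      have h1 : c = (a₁ : S) * (d₁ : S) := by
        have h2' := congrArg (fun z : ↥C => (z : S)) hcd
        simpa using h2'.symm
      rw [h1]
      exact Subgroup.mul_mem _ (Subgroup.mem_sup_left ((hACmem a₁).mp ha₁))
        (Subgroup.mem_sup_right ⟨d₁, hd₁, rfl⟩)
  · intro q hq hd hqπ
    have h1 : Nat.card (Dc.map C.subtype) = Nat.card Dc :=
      Subgroup.card_map_of_injective C.subtype_injective
    rw [h1, ← hDc.symm.index_eq_card] at hd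
    exact hidx q hq hqπ hd

end Cfsg.Agent.Lib.Helper19.HallSCN
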