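import Mathlib

set_option autoImplicit false

namespace Cfsg.Agent.Lib.Helper19

open Subgroup

variable {X : Type*} [Group X]

/-- conjugation action of a subgroup `P` on a subgroup `K` that it normalizes -/
@[reducible] def conjActionOfLeNormalizer {P K : Subgroup X} (hPK : P ≤ normalizer (K : Set X)) :
    MulAction ↥P ↥K where
  smul g k := ⟨g * k * g⁻¹, (mem_normalizer_iff.mp (hPK g.2) k).mp k.2⟩
  one_smul k := Subtype.ext (by
    show ((1 : P) : X) * k * ((1 : P) : X)⁻¹ = k
    simp)
  mul_smul g h k := Subtype.ext (by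
    show ((g * h : P) : X) * k * ((g * h : P) : X)⁻¹ = g * (h * k * (h : X)⁻¹) * (g : X)⁻¹
    simp [mul_assoc])

/-- A `p`-group `P` normalizing a subgroup `K` of order divisible by `p` centralizes a
nontrivial element of `K`. -/
theorem exists_ne_one_mem_centralizer_of_le_normalizer [Finite X] {p : ℕ} [Fact p.Prime]
    {P K : Subgroup X} (hP : IsPGroup p P) (hPK : P ≤ normalizer (K : Set X))
    (hK : p ∣ Nat.card K) : ∃ w ∈ K, w ≠ 1 ∧ w ∈ centralizer (P : Set X) := by
  letI := conjActionOfLeNormalizer hPK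
  have h1 : (1 : K) ∈ MulAction.fixedPoints ↥P ↥K := by
    intro g
    apply Subtype.ext
    show (g : X) * ((1 : K) : X) * (g : X)⁻¹ = ((1 : K) : X)
    simp
  obtain ⟨b, hb, hne⟩ := hP.exists_fixed_point_of_prime_dvd_card_of_fixed_point ↥K hK h1
  refine ⟨b, b.2, fun h => hne (Subtype.ext h.symm), ?_⟩
  rw [mem_centralizer_iff]
  intro g hg
  have := hb ⟨g, hg⟩
  have h2 : g * (b : X) * g⁻¹ = b := congrArg Subtype.val this
  calc g * (b : X) = g * b * g⁻¹ * g := by group
    _ = b * g := by rw [h2]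

/-- closure under conjugation by a subgroup gives normalization -/
theorem le_normalizer_of_conj_mem {H K : Subgroup X}
    (h : ∀ g ∈ H, ∀ z ∈ K, g * z * g⁻¹ ∈ K) : H ≤ normalizer (K : Set X) := by
  intro g hg
  rw [mem_normalizer_iff]
  intro z
  constructor
  · exact h g hg z
  · intro hz
    have := h g⁻¹ (inv_mem hg) _ hz
    have e : g⁻¹ * (g * z * g⁻¹) * g⁻¹⁻¹ = z := by group
    rwa [e] at this

end Cfsg.Agent.Lib.Helper19
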