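import Mathlib
import Cfsg.Prelude.Def_Solvable

set_option autoImplicit false

namespace Cfsg.Agent.Lib.Helper19

open Subgroup

variable {G : Type*} [Group G]

theorem card_sup_dvd_mul_of_normal_right [Finite G] (A B : Subgroup G) [B.Normal] :
    Nat.card (A ⊔ B : Subgroup G) ∣ Nat.card A * Nat.card B := by
  have h1 : B.relIndex (A ⊔ B) = B.relIndex A := relIndex_sup_right A B
  have h2 : Nat.card B * B.relIndex (A ⊔ B) = Nat.card (A ⊔ B : Subgroup G) := by
    have := (B.subgroupOf (A ⊔ B)).card_mul_index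
    rw [← this, relIndex]
    congr 1
    exact Nat.card_congr (subgroupOfEquivOfLe (le_sup_right : B ≤ A ⊔ B)).toEquiv.symm
  rw [← h2, h1, mul_comm (Nat.card A)]
  exact Nat.mul_dvd_mul_left _ (relIndex_dvd_card B A)

theorem pPrimeCore_normal_and_card_coprime [Finite G] (p : ℕ) :
    (Cfsg.pPrimeCore p G).Normal ∧ (Nat.card (Cfsg.pPrimeCore p G)).Coprime p := by
  have hsc : SupClosed {N : Subgroup G | N.Normal ∧ (Nat.card N).Coprime p} := by
    rintro A ⟨hA, hA'⟩ B ⟨hB, hB'⟩
    haveI := hA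
    haveI := hB
    refine ⟨inferInstance, ?_⟩
    exact Nat.Coprime.coprime_dvd_left (card_sup_dvd_mul_of_normal_right A B)
      (Nat.Coprime.mul_left hA' hB')
  have hbot : (⊥ : Subgroup G) ∈ {N : Subgroup G | N.Normal ∧ (Nat.card N).Coprime p} := by
    refine ⟨inferInstance, ?_⟩
    rw [card_bot]; exact Nat.coprime_one_left p
  exact hsc.sSup_mem_of_nonempty (Set.toFinite _) ⟨⊥, hbot⟩ (fun _ h => h)

theorem le_pPrimeCore_of_normal_of_coprime (p : ℕ) {N : Subgroup G} (hN : N.Normal)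
    (h : (Nat.card N).Coprime p) : N ≤ Cfsg.pPrimeCore p G :=
  le_sSup ⟨hN, h⟩

end Cfsg.Agent.Lib.Helper19
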