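import Mathlib
import Cfsg.Agent.Lib.Helper19.CD
import Cfsg.Agent.Lib.Helper19.MaxAb
import Cfsg.Agent.Lib.Helper19.ThompsonRepl

set_option autoImplicit false

namespace Cfsg.Agent.Lib.Helper19

open Subgroup
open scoped Pointwise

variable {G : Type*} [Group G]

/-- **Replacement along an element** (no `p`-group hypothesis). Let `A`, `B` be abelian subgroups
of a finite group and `x` an element with `x ∉ N(A)`, `x A x⁻¹ ≤ N(A)` and `[a, x] ∈ B` for all
`a ∈ A`. Then there is an abelian subgroup `A'` with `|A| ≤ |A'|`, `A ∩ B < A' ∩ B`,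
`A' ≤ N(A)` and `A'` inside the normal closure of `A`. -/
theorem abelian_replacement_of_element [Finite G]
    (A B : Subgroup G) (hA : IsMulCommutative A) (hB : IsMulCommutative B) (x : G)
    (hxN : x ∉ normalizer (A : Set G)) (hxA : ∀ a ∈ A, x * a * x⁻¹ ∈ normalizer (A : Set G))
    (hxB : ∀ a ∈ A, a * x * a⁻¹ * x⁻¹ ∈ B) :
    ∃ A' : Subgroup G, IsMulCommutative A' ∧ Nat.card A ≤ Nat.card A' ∧ A ⊓ B < A' ⊓ B ∧
      A' ≤ normalizer (A : Set G) ∧ A' ≤ normalClosure (A : Set G) := by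
  classical
  have hAc := le_centralizer_of_isMulCommutative hA
  have hBc := le_centralizer_of_isMulCommutative hB
  have hAcomm : ∀ a ∈ A, ∀ b ∈ A, a * b = b * a := fun a ha b hb =>
    (mem_centralizer_iff.mp (hAc hb) a ha)
  -- the generators
  obtain ⟨gens, hgens⟩ : ∃ s : Set G, s = {g | ∃ a ∈ A, g = a * x * a⁻¹ * x⁻¹} := ⟨_, rfl⟩
  obtain ⟨M, hM⟩ : ∃ M : Subgroup G, M = closure gens := ⟨_, rfl⟩
  have hgM : ∀ a ∈ A, a * x * a⁻¹ * x⁻¹ ∈ M := by
    intro a ha
    rw [hM]; apply Subgroup.subset_closure; rw [hgens]; exact ⟨a, ha, rfl⟩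
  have hMB : M ≤ B := by
    rw [hM, closure_le, hgens]
    rintro _ ⟨a, ha, rfl⟩
    exact hxB a ha
  have hMN : M ≤ normalizer (A : Set G) := by
    rw [hM, closure_le, hgens]
    rintro _ ⟨a, ha, rfl⟩
    have h1 : x * a⁻¹ * x⁻¹ ∈ normalizer (A : Set G) := hxA _ (A.inv_mem ha)
    have h2 : a * x * a⁻¹ * x⁻¹ = a * (x * a⁻¹ * x⁻¹) := by group
    rw [h2]
    exact mul_mem (le_normalizer ha) h1
  have hMcl : M ≤ normalClosure (A : Set G) := by
    rw [hM, closure_le, hgens]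
    rintro _ ⟨a, ha, rfl⟩
    have h1 : x * a⁻¹ * x⁻¹ ∈ normalClosure (A : Set G) :=
      (normalClosure_normal (s := (A : Set G))).conj_mem _ (le_normalClosure (A.inv_mem ha)) x
    have h2 : a * x * a⁻¹ * x⁻¹ = a * (x * a⁻¹ * x⁻¹) := by group
    rw [h2]
    exact mul_mem (le_normalClosure ha) h1
  have hMcM : M ≤ centralizer (M : Set G) := by
    intro m hm
    exact centralizer_le (by exact_mod_cast hMB) (hBc (hMB hm))
  obtain ⟨C, hC⟩ : ∃ C : Subgroup G, C = A ⊓ centralizer (M : Set G) := ⟨_, rfl⟩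
  have hCA : C ≤ A := by rw [hC]; exact inf_le_left
  have hCM : C ≤ centralizer (M : Set G) := by rw [hC]; exact inf_le_right
  have hABC : A ⊓ B ≤ C := by
    rw [hC]
    refine le_inf inf_le_left ?_
    intro z hz
    exact centralizer_le (by exact_mod_cast hMB) (hBc (mem_inf.mp hz).2)
  refine ⟨M ⊔ C, ?_, ?_, ?_, sup_le hMN (hCA.trans le_normalizer),
    sup_le hMcl (hCA.trans le_normalClosure)⟩
  · -- commutative
    apply isMulCommutative_of_le_centralizer
    rw [centralizer_sup_eq]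
    refine sup_le (le_inf hMcM (le_centralizer_iff.mp hCM)) (le_inf hCM ?_)
    intro c hc
    exact centralizer_le (by exact_mod_cast hCA) (hAc (hCA hc))
  · -- the order
    obtain ⟨A₁, hA₁⟩ : ∃ A₁ : Subgroup G, A₁ = A ⊓ A.comap (MulAut.conj x).toMonoidHom := ⟨_, rfl⟩
    have hmemA₁ : ∀ a : G, a ∈ A₁ ↔ a ∈ A ∧ x * a * x⁻¹ ∈ A := by
      intro a
      rw [hA₁, mem_inf, mem_comap]
      rfl
    -- (ii) |A₁| ≤ |C|
    have h2 : Nat.card A₁ ≤ Nat.card C := by
      have hle : A₁.map (MulAut.conj x).toMonoidHom ≤ C := by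
        rintro _ ⟨a₁, ha₁, rfl⟩
        obtain ⟨ha₁A, ha₁x⟩ := (hmemA₁ a₁).mp ha₁
        rw [hC]
        refine mem_inf.mpr ⟨ha₁x, ?_⟩
        rw [hM, centralizer_closure, mem_centralizer_iff, hgens]
        rintro _ ⟨a, ha, rfl⟩
        simp only [MulEquiv.coe_toMonoidHom, MulAut.conj_apply]
        have e1 : a * (x * a₁ * x⁻¹) = (x * a₁ * x⁻¹) * a := hAcomm _ ha _ ha₁x
        have e2 : a⁻¹ * a₁ = a₁ * a⁻¹ := hAcomm _ (A.inv_mem ha) _ ha₁A
        calc a * x * a⁻¹ * x⁻¹ * (x * a₁ * x⁻¹) = a * x * (a⁻¹ * a₁) * x⁻¹ := by group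
          _ = a * x * (a₁ * a⁻¹) * x⁻¹ := by rw [e2]
          _ = (a * (x * a₁ * x⁻¹)) * (x * a⁻¹ * x⁻¹) := by group
          _ = ((x * a₁ * x⁻¹) * a) * (x * a⁻¹ * x⁻¹) := by rw [e1]
          _ = x * a₁ * x⁻¹ * (a * x * a⁻¹ * x⁻¹) := by group
      calc Nat.card A₁ = Nat.card (A₁.map (MulAut.conj x).toMonoidHom) :=
            (card_map_of_injective (MulAut.conj x).injective).symm
        _ ≤ Nat.card C := card_le_of_le hle
    -- (iii)
    have h3 : Nat.card M * Nat.card C ≤ Nat.card (M ⊔ C : Subgroup G) * Nat.card (M ⊓ A : Subgroup G) := by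
      calc Nat.card M * Nat.card C ≤ Nat.card (M ⊔ C : Subgroup G) * Nat.card (M ⊓ C : Subgroup G) :=
            card_mul_card_le_sup_inf M C
        _ ≤ Nat.card (M ⊔ C : Subgroup G) * Nat.card (M ⊓ A : Subgroup G) :=
            Nat.mul_le_mul_left _ (card_le_of_le (inf_le_inf_left M hCA))
    -- (i) the fibre count
    have h1 : Nat.card A * Nat.card (M ⊓ A : Subgroup G) ≤ Nat.card A₁ * Nat.card M := by
      have := Fintype.ofFinite G
      let f : A × (M ⊓ A : Subgroup G) → M := fun z =>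
        ⟨(z.1 : G) * x * (z.1 : G)⁻¹ * x⁻¹ * (z.2 : G), M.mul_mem (hgM _ z.1.2) (mem_inf.mp z.2.2).1⟩
      have hkey : ∀ z w : A × (M ⊓ A : Subgroup G), f z = f w →
          (z.1 : G)⁻¹ * (w.1 : G) ∈ A₁ := by
        intro z w hzw
        obtain ⟨⟨a, ha⟩, ⟨m, hm⟩⟩ := z
        obtain ⟨⟨b, hb⟩, ⟨m', hm'⟩⟩ := w
        have hzw' : a * x * a⁻¹ * x⁻¹ * m = b * x * b⁻¹ * x⁻¹ * m' := congrArg Subtype.val hzw
        show a⁻¹ * b ∈ A₁
        have hmA : m * m'⁻¹ ∈ A := A.mul_mem (mem_inf.mp hm).2 (A.inv_mem (mem_inf.mp hm').2)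
        -- (a x a⁻¹ x⁻¹)⁻¹ (b x b⁻¹ x⁻¹) = m m'⁻¹
        have e1 : x * a * x⁻¹ * (a⁻¹ * b) * (x * b⁻¹ * x⁻¹) = m * m'⁻¹ := by
          calc x * a * x⁻¹ * (a⁻¹ * b) * (x * b⁻¹ * x⁻¹)
              = (a * x * a⁻¹ * x⁻¹)⁻¹ * ((b * x * b⁻¹ * x⁻¹ * m') * m'⁻¹) := by group
            _ = (a * x * a⁻¹ * x⁻¹)⁻¹ * ((a * x * a⁻¹ * x⁻¹ * m) * m'⁻¹) := by rw [← hzw']
            _ = m * m'⁻¹ := by group
        have hu : x * a * x⁻¹ ∈ normalizer (A : Set G) := hxA a ha
        have hc : (x * a * x⁻¹) * (a⁻¹ * b) * (x * a * x⁻¹)⁻¹ ∈ A :=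
          ((mem_normalizer_iff.mp hu) _).mp (A.mul_mem (A.inv_mem ha) hb)
        have e2 : x * (a * b⁻¹) * x⁻¹
            = ((x * a * x⁻¹) * (a⁻¹ * b) * (x * a * x⁻¹)⁻¹)⁻¹ *
              (x * a * x⁻¹ * (a⁻¹ * b) * (x * b⁻¹ * x⁻¹)) := by group
        have h5 : x * (a * b⁻¹) * x⁻¹ ∈ A := by
          rw [e2, e1]
          exact A.mul_mem (A.inv_mem hc) hmA
        rw [hmemA₁]
        refine ⟨A.mul_mem (A.inv_mem ha) hb, ?_⟩
        have e3 : x * (a⁻¹ * b) * x⁻¹ = (x * (a * b⁻¹) * x⁻¹)⁻¹ := by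
          rw [hAcomm _ (A.inv_mem ha) _ hb]; group
        rw [e3]
        exact A.inv_mem h5
      have hfib : ∀ m ∈ (Finset.univ : Finset (A × (M ⊓ A : Subgroup G))).image f,
          (Finset.univ.filter (fun z : A × (M ⊓ A : Subgroup G) => f z = m)).card ≤ Nat.card A₁ := by
        intro m hm
        obtain ⟨z₀, -, hz₀⟩ := Finset.mem_image.mp hm
        rw [Nat.card_eq_fintype_card, ← Finset.card_univ]
        apply Finset.card_le_card_of_injOn
          (fun z => if hz : f z = m then (⟨(z₀.1 : G)⁻¹ * (z.1 : G), hkey z₀ z (hz₀.trans hz.symm)⟩ : A₁)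
            else 1)
        · intro z _; exact Finset.mem_univ _
        · intro z hz w hw hzw
          have hz' : f z = m := (Finset.mem_filter.mp hz).2
          have hw' : f w = m := (Finset.mem_filter.mp hw).2
          simp only [dif_pos hz', dif_pos hw'] at hzw
          have h1 : (z.1 : G) = (w.1 : G) := by
            have := congrArg Subtype.val hzw
            simpa using this
          have h2 : (z.2 : G) = (w.2 : G) := by
            have h3 : (z.1 : G) * x * (z.1 : G)⁻¹ * x⁻¹ * (z.2 : G)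
                = (w.1 : G) * x * (w.1 : G)⁻¹ * x⁻¹ * (w.2 : G) :=
              congrArg Subtype.val (hz'.trans hw'.symm)
            rw [h1] at h3
            exact mul_left_cancel h3
          exact Prod.ext (Subtype.ext h1) (Subtype.ext h2)
      have hc1 := Finset.card_le_mul_card_image (Finset.univ : Finset (A × (M ⊓ A : Subgroup G))) _ hfib
      have hc2 : ((Finset.univ : Finset (A × (M ⊓ A : Subgroup G))).image f).card ≤ Nat.card M := by
        rw [Nat.card_eq_fintype_card, ← Finset.card_univ]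
        exact Finset.card_le_card (Finset.subset_univ _)
      calc Nat.card A * Nat.card (M ⊓ A : Subgroup G)
          = (Finset.univ : Finset (A × (M ⊓ A : Subgroup G))).card := by
            rw [Finset.card_univ, Fintype.card_prod, Nat.card_eq_fintype_card,
              Nat.card_eq_fintype_card]
        _ ≤ Nat.card A₁ * ((Finset.univ : Finset (A × (M ⊓ A : Subgroup G))).image f).card := hc1
        _ ≤ Nat.card A₁ * Nat.card M := Nat.mul_le_mul_left _ hc2
    have hpos : 0 < Nat.card (M ⊓ A : Subgroup G) := Nat.card_pos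
    have hfin : Nat.card A * Nat.card (M ⊓ A : Subgroup G)
        ≤ Nat.card (M ⊔ C : Subgroup G) * Nat.card (M ⊓ A : Subgroup G) := by
      calc Nat.card A * Nat.card (M ⊓ A : Subgroup G) ≤ Nat.card A₁ * Nat.card M := h1
        _ ≤ Nat.card C * Nat.card M := Nat.mul_le_mul_right _ h2
        _ = Nat.card M * Nat.card C := Nat.mul_comm _ _
        _ ≤ _ := h3
    exact Nat.le_of_mul_le_mul_right hfin hpos
  · -- the intersection with B grows
    have hle : A ⊓ B ≤ (M ⊔ C) ⊓ B := le_inf (hABC.trans le_sup_right) inf_le_right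
    refine lt_of_le_of_ne hle ?_
    intro heq
    apply hxN
    apply mem_normalizer_of_forall_conj_mem
    intro a ha
    have hg : a⁻¹ * x * a⁻¹⁻¹ * x⁻¹ ∈ (M ⊔ C) ⊓ B :=
      mem_inf.mpr ⟨mem_sup_left (hgM _ (A.inv_mem ha)), hMB (hgM _ (A.inv_mem ha))⟩
    rw [← heq] at hg
    have e : x * a * x⁻¹ = a * (a⁻¹ * x * a⁻¹⁻¹ * x⁻¹) := by group
    rw [e]
    exact A.mul_mem ha (mem_inf.mp hg).1

end Cfsg.Agent.Lib.Helper19
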