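import Mathlib
import Cfsg.Agent.S3080
import Cfsg.Agent.Lib.Helper14.SecSF
import Cfsg.Agent.Lib.Helper14.QdRed
import Cfsg.Agent.Lib.Helper17.QdZJ
import Cfsg.Agent.Lib.Helper17.S4Rec

set_option autoImplicit false
set_option linter.unusedVariables false

/-!
Control of strong fusion by the normalizer of the ZJ-type subgroup of a strongly closed
subgroup: the statement `Ctl`, its transfer from subgroups containing the Sylow subgroup and
from quotients by normal subgroups of order prime to `p`, and the case of groups whose `p`-core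
contains its centralizer.
-/

namespace Cfsg.Agent.Lib.Helper19.SCQd

open Cfsg
open Cfsg.Agent.Lib.Helper6

universe u

/-- The control statement for all Sylow subgroups and all strongly closed subgroups. -/
def Ctl (p e : ℕ) (X : Type u) [Group X] : Prop :=
  ∀ (P : Sylow p X) (D : Subgroup X), Cfsg.IsStronglyClosed D (P : Subgroup X) →
    ∀ (A : Set X), A ⊆ ((P : Subgroup X) : Set X) → ∀ g : X,
      (∀ a ∈ A, g * a * g⁻¹ ∈ (P : Subgroup X)) →
      ∃ x ∈ Subgroup.normalizer ((sInf (famX e D) : Subgroup X) : Set X),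
        ∀ a ∈ A, g * a * g⁻¹ = x * a * x⁻¹

variable {X : Type u} [Group X]

theorem normalizer_le_of_sc {P D : Subgroup X} (hD : Cfsg.IsStronglyClosed D P) :
    Subgroup.normalizer (P : Set X) ≤ Subgroup.normalizer (D : Set X) := by
  intro g hg
  have key : ∀ h ∈ Subgroup.normalizer (P : Set X), ∀ x ∈ D, h * x * h⁻¹ ∈ D := by
    intro h hh x hx
    exact hD.2 x hx h ((Subgroup.mem_normalizer_iff.mp hh x).mp (hD.1 hx))
  rw [Subgroup.mem_normalizer_iff]
  intro x
  refine ⟨key g hg x, fun hx => ?_⟩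
  have h1 := key g⁻¹ (inv_mem hg) _ hx
  have e : g⁻¹ * (g * x * g⁻¹) * g⁻¹⁻¹ = x := by group
  rwa [e] at h1

theorem normalizer_le_sInf [Finite X] (e : ℕ) (D : Subgroup X) :
    Subgroup.normalizer (D : Set X) ≤
      Subgroup.normalizer ((sInf (famX e D) : Subgroup X) : Set X) := by
  intro t ht
  apply Cfsg.Agent.Lib.Helper14.mem_normalizer_of_map_conj_eq
  have hinj : Set.InjOn (MulAut.conj t).toMonoidHom (D : Set X) :=
    (MulAut.conj t).injective.injOn
  rw [map_sInf_famX_of_injOn e _ D hinj]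
  rw [Cfsg.Agent.Lib.Helper14.map_conj_eq_self_of_mem_normalizer ht]

theorem sylow_le_normalizer_sInf [Finite X] {p : ℕ} [Fact p.Prime] (e : ℕ) (P : Sylow p X)
    (D : Subgroup X) (hD : Cfsg.IsStronglyClosed D (P : Subgroup X)) :
    Subgroup.normalizer ((P : Subgroup X) : Set X) ≤
      Subgroup.normalizer ((sInf (famX e D) : Subgroup X) : Set X) :=
  (normalizer_le_of_sc hD).trans (normalizer_le_sInf e D)

/-- Transfer from a subgroup containing the Sylow subgroup. -/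
theorem ctl_subgroup [Finite X] {p : ℕ} [Fact p.Prime] (e : ℕ) (H : Subgroup X)
    (hH : Ctl p e ↥H) (P : Sylow p X) (hPH : (P : Subgroup X) ≤ H) (D : Subgroup X)
    (hD : Cfsg.IsStronglyClosed D (P : Subgroup X)) (A : Set X)
    (hA : A ⊆ ((P : Subgroup X) : Set X)) (h : X) (hh : h ∈ H)
    (hAh : ∀ a ∈ A, h * a * h⁻¹ ∈ (P : Subgroup X)) :
    ∃ x ∈ Subgroup.normalizer ((sInf (famX e D) : Subgroup X) : Set X),
      x ∈ H ∧ ∀ a ∈ A, h * a * h⁻¹ = x * a * x⁻¹ := by
  have hPp : IsPGroup p (P : Subgroup X) := P.isPGroup'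
  have hfn : ¬ p ∣ (P : Subgroup X).relIndex H := fun hdvd =>
    P.not_dvd_index (hdvd.trans (Subgroup.relIndex_dvd_index_of_le hPH))
  have hPsub : IsPGroup p ((P : Subgroup X).subgroupOf H) := hPp.comap_subtype
  obtain ⟨PH, hPHeq⟩ : ∃ PH : Sylow p ↥H, (PH : Subgroup ↥H) = (P : Subgroup X).subgroupOf H :=
    ⟨hPsub.toSylow hfn, rfl⟩
  have hDH : Cfsg.IsStronglyClosed (D.subgroupOf H) (PH : Subgroup ↥H) := by
    rw [hPHeq]
    refine ⟨?_, ?_⟩
    · intro x hx
      exact Subgroup.mem_subgroupOf.mpr (hD.1 (Subgroup.mem_subgroupOf.mp hx))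
    · intro x hx k hkx
      rw [Subgroup.mem_subgroupOf] at hx hkx ⊢
      exact hD.2 _ hx k hkx
  obtain ⟨x, hx, hxeq⟩ := hH PH (D.subgroupOf H) hDH (H.subtype ⁻¹' A)
    (by
      intro a ha
      rw [SetLike.mem_coe, hPHeq]
      exact Subgroup.mem_subgroupOf.mpr (hA ha))
    ⟨h, hh⟩
    (by
      intro a ha
      rw [hPHeq]
      exact Subgroup.mem_subgroupOf.mpr (hAh (a : X) ha))
  have hxN : (x : X) ∈ Subgroup.normalizer ((sInf (famX e D) : Subgroup X) : Set X) := by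
    have h1 : (sInf (famX e (D.subgroupOf H))).map H.subtype = sInf (famX e D) := by
      rw [map_sInf_famX_of_injOn e H.subtype _ (H.subtype_injective.injOn),
        Subgroup.map_subgroupOf_eq_of_le (hD.1.trans hPH)]
    rw [← h1]
    exact Subgroup.le_normalizer_map H.subtype ⟨x, hx, rfl⟩
  refine ⟨x, hxN, x.2, fun a ha => ?_⟩
  have h1 := hxeq ⟨a, hPH (hA ha)⟩ ha
  have h2 := congrArg Subtype.val h1
  simpa using h2

/-- Transfer from the quotient by a normal subgroup of order prime to `p`. -/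
theorem ctl_of_quotient_coprime [Finite X] {p : ℕ} [Fact p.Prime] (e : ℕ) (K : Subgroup X)
    [K.Normal] (hK : (Nat.card K).Coprime p) (hq : Ctl p e (X ⧸ K)) (P : Sylow p X)
    (D : Subgroup X) (hD : Cfsg.IsStronglyClosed D (P : Subgroup X)) (A : Set X)
    (hA : A ⊆ ((P : Subgroup X) : Set X)) (g : X)
    (hg : ∀ a ∈ A, g * a * g⁻¹ ∈ (P : Subgroup X)) :
    ∃ x ∈ Subgroup.normalizer ((sInf (famX e D) : Subgroup X) : Set X),
      ∀ a ∈ A, g * a * g⁻¹ = x * a * x⁻¹ := by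
  have hπs : Function.Surjective (QuotientGroup.mk' K) := QuotientGroup.mk'_surjective K
  have hSp := P.isPGroup'
  have hDp : IsPGroup p D := hSp.to_le hD.1
  have hSN0 := (Subgroup.le_normalizer.trans (sylow_le_normalizer_sInf e P D hD))
  obtain ⟨Z, hZ⟩ : ∃ Z, Z = sInf (famX e D) := ⟨_, rfl⟩
  rw [← hZ] at hSN0 ⊢
  have hZD : Z ≤ D := hZ ▸ Cfsg.Agent.S3080.sInf_famX_le e D
  have hZp : IsPGroup p Z := hDp.to_le hZD
  have hSN : (P : Subgroup X) ≤ Subgroup.normalizer (Z : Set X) := hSN0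
  have hDQ := Cfsg.Agent.Lib.Helper1.SCLocal.stronglyClosed_quotient P D hD K
  have hmap : sInf (famX e (D.map (QuotientGroup.mk' K))) = Z.map (QuotientGroup.mk' K) := by
    rw [hZ, map_sInf_famX_of_injOn e (QuotientGroup.mk' K) D
      (Cfsg.Agent.Lib.Helper1.SCLocal.injOn_mk_of_pgroup K D hK hDp)]
  obtain ⟨nb, hnb, hnbeq⟩ := hq (P.mapSurjective hπs) (D.map (QuotientGroup.mk' K))
    (by rw [Sylow.coe_mapSurjective]; exact hDQ) (QuotientGroup.mk' K '' A)
    (by
      rintro _ ⟨a, ha, rfl⟩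
      rw [SetLike.mem_coe, Sylow.coe_mapSurjective]
      exact Subgroup.mem_map_of_mem _ (hA ha))
    (QuotientGroup.mk' K g)
    (by
      rintro _ ⟨a, ha, rfl⟩
      rw [Sylow.coe_mapSurjective]
      have h1 : QuotientGroup.mk' K (g * a * g⁻¹) ∈ (P : Subgroup X).map (QuotientGroup.mk' K) :=
        Subgroup.mem_map_of_mem _ (hg a ha)
      simpa only [map_mul, map_inv] using h1)
  rw [hmap] at hnb
  obtain ⟨n, hn, hnq⟩ := Cfsg.Agent.Lib.Helper14.exists_mem_normalizer_lift K hK hZp hnb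
  obtain ⟨P₁, hP₁⟩ : ∃ P₁ : Subgroup X,
      P₁ = Subgroup.closure ((fun b => n * b * n⁻¹) '' A) := ⟨_, rfl⟩
  have hP₁S : P₁ ≤ (P : Subgroup X).map (MulAut.conj n).toMonoidHom := by
    rw [hP₁, Subgroup.closure_le]
    rintro _ ⟨b, hb, rfl⟩
    exact Cfsg.Agent.Lib.Helper14.conj_mem_map_conj (hA hb)
  have hP₁p : IsPGroup p P₁ := (hSp.map _).to_le hP₁S
  have hcomap : ((P : Subgroup X).map (QuotientGroup.mk' K)).comap (QuotientGroup.mk' K) =
      (P : Subgroup X) ⊔ K := by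
    rw [Subgroup.comap_map_eq, QuotientGroup.ker_mk']
  have hP₁H : P₁ ≤ ((P : Subgroup X) ⊔ K) ⊓ Subgroup.normalizer (Z : Set X) := by
    rw [hP₁, Subgroup.closure_le]
    rintro _ ⟨b, hb, rfl⟩
    refine Subgroup.mem_inf.mpr ⟨?_, ?_⟩
    · rw [← hcomap, Subgroup.mem_comap]
      have h1 := hnbeq _ (Set.mem_image_of_mem _ hb)
      have h2 : QuotientGroup.mk' K (n * b * n⁻¹) = QuotientGroup.mk' K (g * b * g⁻¹) := by
        simp only [map_mul, map_inv, hnq]
        exact h1.symm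
      rw [h2]
      exact Subgroup.mem_map_of_mem _ (hg b hb)
    · exact mul_mem (mul_mem hn (hSN (hA hb))) (inv_mem hn)
  have hSH : (P : Subgroup X) ≤ ((P : Subgroup X) ⊔ K) ⊓ Subgroup.normalizer (Z : Set X) :=
    le_inf le_sup_left hSN
  obtain ⟨h, hh, hconj⟩ := Cfsg.Agent.Lib.Helper14.Sylow.exists_conj_mem_of_le P hSH hP₁p hP₁H
  obtain ⟨s, hs, k, hk, rfl⟩ :=
    Cfsg.Agent.Lib.Helper14.exists_mul_of_mem_sup_normal (P : Subgroup X) K
      (Subgroup.mem_inf.mp hh).1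
  have hkN : k ∈ Subgroup.normalizer (Z : Set X) := by
    have h1 := (Subgroup.mem_inf.mp hh).2
    have e : k = s⁻¹ * (s * k) := by group
    rw [e]
    exact mul_mem (inv_mem (hSN hs)) h1
  refine ⟨k * n, mul_mem hkN hn, fun a ha => ?_⟩
  have h1 : k * n * a * (k * n)⁻¹ ∈ (P : Subgroup X) := by
    have h1 := hconj (n * a * n⁻¹) (hP₁ ▸ Subgroup.subset_closure ⟨a, ha, rfl⟩)
    have e : k * n * a * (k * n)⁻¹ = s⁻¹ * (s * k * (n * a * n⁻¹) * (s * k)⁻¹) * s := by group
    rw [e]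
    exact mul_mem (mul_mem (inv_mem hs) h1) hs
  have h2 : g * a * g⁻¹ ∈ (P : Subgroup X) := hg a ha
  have hk1 : QuotientGroup.mk' K k = 1 := (QuotientGroup.eq_one_iff k).mpr hk
  have h3 : QuotientGroup.mk' K (k * n * a * (k * n)⁻¹) = QuotientGroup.mk' K (g * a * g⁻¹) := by
    have h0 := hnbeq _ (Set.mem_image_of_mem _ ha)
    simp only [map_mul, map_inv, hnq, hk1, one_mul]
    exact h0.symm
  have h4 : (k * n * a * (k * n)⁻¹)⁻¹ * (g * a * g⁻¹) ∈ K := by
    rw [← QuotientGroup.eq_one_iff, ← QuotientGroup.mk'_apply, map_mul, map_inv, h3,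
      inv_mul_cancel]
  have h5 := Cfsg.Agent.Lib.Helper14.eq_one_of_mem_of_coprime hSp hK
    (mul_mem (inv_mem h1) h2) h4
  exact (inv_mul_eq_one.mp h5).symm

/-- The ZJ-type subgroup of a strongly closed subgroup is normal when the `p`-core contains its
centralizer and `Qd(p)` is not involved. -/
theorem sInf_normal_of_constrained [Finite X] {p : ℕ} [Fact p.Prime] (hp : p ≠ 2)
    (hqd : ¬ Cfsg.Involves ↥(Cfsg.qd p) X)
    (hc : Subgroup.centralizer ((Cfsg.pCore p X : Subgroup X) : Set X) ≤ Cfsg.pCore p X)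
    (e : ℕ) (P : Sylow p X) (D : Subgroup X) (hD : Cfsg.IsStronglyClosed D (P : Subgroup X)) :
    (sInf (famX e D)).Normal := by
  have hst := Cfsg.Agent.Lib.Helper14.QdRed.qd_stable hp hqd
  exact Cfsg.Agent.Lib.Helper1.SCLocal.sInf_famX_normal' hp P D hD
    (fun V _ hV a _ hq => Cfsg.Agent.Lib.Helper17.hst_of_qstable
      (Cfsg.Agent.Lib.Helper14.qStable_of_nps hst) V hV a hq) hc e

end Cfsg.Agent.Lib.Helper19.SCQd
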