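import Mathlib
import Cfsg.Agent.Lib.Helper19.SCQdA

set_option autoImplicit false
set_option linter.unusedVariables false

/-!
Control of strong fusion by the normalizer of the ZJ-type subgroup of a strongly closed
subgroup: the reduction to two subgroups for a normal subgroup, control modulo a normal
`p`-subgroup, and the case where the Sylow subgroup and the centralizer of a normal `p`-subgroup
generate the group.
-/

namespace Cfsg.Agent.Lib.Helper19.SCQd

open Cfsg
open Cfsg.Agent.Lib.Helper6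

universe u

variable {X : Type u} [Group X]

/-- Control in `X` from the two subgroups `N_X(P ∩ C)` and `P C`, `C` normal. -/
theorem ctl_split [Finite X] {p : ℕ} [Fact p.Prime] (e : ℕ) (P : Sylow p X) (D : Subgroup X)
    (hD : Cfsg.IsStronglyClosed D (P : Subgroup X)) (C : Subgroup X) [hCn : C.Normal]
    (hN : Ctl p e ↥(Subgroup.normalizer (((P : Subgroup X) ⊓ C : Subgroup X) : Set X)))
    (hPC : Ctl p e ↥((P : Subgroup X) ⊔ C))
    (A : Set X) (hA : A ⊆ ((P : Subgroup X) : Set X)) (g : X)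
    (hg : ∀ a ∈ A, g * a * g⁻¹ ∈ (P : Subgroup X)) :
    ∃ x ∈ Subgroup.normalizer ((sInf (famX e D) : Subgroup X) : Set X),
      ∀ a ∈ A, g * a * g⁻¹ = x * a * x⁻¹ := by
  obtain ⟨B, hB⟩ : ∃ B : Subgroup X, B = Subgroup.closure A := ⟨_, rfl⟩
  have hAB : A ⊆ (B : Set X) := hB ▸ Subgroup.subset_closure
  have hBP : B ≤ (P : Subgroup X) := hB ▸ (Subgroup.closure_le _).mpr hA
  have hBg : B.map (MulAut.conj g).toMonoidHom ≤ (P : Subgroup X) := by
    rw [hB, MonoidHom.map_closure, Subgroup.closure_le]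
    rintro _ ⟨a, ha, rfl⟩
    show (MulAut.conj g).toMonoidHom a ∈ (P : Subgroup X)
    simp only [MulEquiv.toMonoidHom_eq_coe, MonoidHom.coe_coe, MulAut.conj_apply]
    exact hg a ha
  obtain ⟨k, hk, hkN, hkP⟩ :=
    Cfsg.Agent.Lib.Helper14.exists_mul_mem_normalizer_inf P C hBP g hBg
  have hSN := Cfsg.Agent.Lib.Helper14.le_normalizer_inf_normal (P : Subgroup X) C
  obtain ⟨x₁, hx₁, -, hx₁eq⟩ := ctl_subgroup e _ hN P hSN D hD (B : Set X) hBP (k * g) hkN
    (fun a ha => hkP (Cfsg.Agent.Lib.Helper14.conj_mem_map_conj ha))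
  obtain ⟨x₂, hx₂, -, hx₂eq⟩ := ctl_subgroup e _ hPC P le_sup_left D hD
    ((B.map (MulAut.conj (k * g)).toMonoidHom : Subgroup X) : Set X) hkP k⁻¹
    (Subgroup.mem_sup_right (inv_mem hk))
    (fun b hb => by
      have hb' := Cfsg.Agent.Lib.Helper14.mem_map_conj_iff.mp hb
      have h1 := hBg (Cfsg.Agent.Lib.Helper14.conj_mem_map_conj (g := g) hb')
      have e1 : g * ((k * g)⁻¹ * b * (k * g)) * g⁻¹ = k⁻¹ * b * k⁻¹⁻¹ := by group
      rwa [e1] at h1)
  refine ⟨x₂ * x₁, mul_mem hx₂ hx₁, fun a ha => ?_⟩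
  have h1 := hx₁eq a (hAB ha)
  have h2 := hx₂eq (k * g * a * (k * g)⁻¹)
    (Cfsg.Agent.Lib.Helper14.conj_mem_map_conj (hAB ha))
  calc g * a * g⁻¹ = k⁻¹ * (k * g * a * (k * g)⁻¹) * k⁻¹⁻¹ := by group
    _ = x₂ * (k * g * a * (k * g)⁻¹) * x₂⁻¹ := h2
    _ = x₂ * (x₁ * a * x₁⁻¹) * x₂⁻¹ := by rw [h1]
    _ = x₂ * x₁ * a * (x₂ * x₁)⁻¹ := by group

/-- Control modulo a normal `p`-subgroup `Q`, from the quotient by `Q` and the preimage of the
normalizer of the ZJ-type subgroup of the image. -/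
theorem ctl_mod [Finite X] {p : ℕ} [Fact p.Prime] (e : ℕ) (P : Sylow p X) (D : Subgroup X)
    (hD : Cfsg.IsStronglyClosed D (P : Subgroup X)) (Q : Subgroup X) [hQn : Q.Normal]
    (hQP : Q ≤ (P : Subgroup X)) (hquot : Ctl p e (X ⧸ Q))
    (hL : Ctl p e ↥((Subgroup.normalizer ((sInf (famX e (D.map (QuotientGroup.mk' Q))) :
      Subgroup (X ⧸ Q)) : Set (X ⧸ Q))).comap (QuotientGroup.mk' Q)))
    (B : Subgroup X) (hB : B ≤ (P : Subgroup X)) (g : X)
    (hBg : B.map (MulAut.conj g).toMonoidHom ≤ (P : Subgroup X)) :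
    ∃ x ∈ Subgroup.normalizer ((sInf (famX e D) : Subgroup X) : Set X),
      (∀ b ∈ B, x * b * x⁻¹ ∈ (P : Subgroup X)) ∧
        ∀ b ∈ B, g * b * g⁻¹ * (x * b * x⁻¹)⁻¹ ∈ Q := by
  have hπs : Function.Surjective (QuotientGroup.mk' Q) := QuotientGroup.mk'_surjective Q
  have hDQ := Cfsg.Agent.Lib.Helper1.SCLocal.stronglyClosed_quotient P D hD Q
  have hDQ' : Cfsg.IsStronglyClosed (D.map (QuotientGroup.mk' Q))
      ((P.mapSurjective hπs : Sylow p (X ⧸ Q)) : Subgroup (X ⧸ Q)) := by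
    rw [Sylow.coe_mapSurjective]; exact hDQ
  have hgB : ∀ b ∈ B, g * b * g⁻¹ ∈ (P : Subgroup X) := fun b hb =>
    hBg (Cfsg.Agent.Lib.Helper14.conj_mem_map_conj hb)
  obtain ⟨nb, hnb, hnbeq⟩ := hquot (P.mapSurjective hπs) (D.map (QuotientGroup.mk' Q)) hDQ'
    (QuotientGroup.mk' Q '' (B : Set X))
    (by
      rintro _ ⟨a, ha, rfl⟩
      rw [SetLike.mem_coe, Sylow.coe_mapSurjective]
      exact Subgroup.mem_map_of_mem _ (hB ha))
    (QuotientGroup.mk' Q g)
    (by
      rintro _ ⟨a, ha, rfl⟩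
      rw [Sylow.coe_mapSurjective]
      have h1 : QuotientGroup.mk' Q (g * a * g⁻¹) ∈ (P : Subgroup X).map (QuotientGroup.mk' Q) :=
        Subgroup.mem_map_of_mem _ (hgB a ha)
      simpa only [map_mul, map_inv] using h1)
  obtain ⟨l, rfl⟩ := hπs nb
  obtain ⟨L, hLdef⟩ : ∃ L : Subgroup X, L = (Subgroup.normalizer
      ((sInf (famX e (D.map (QuotientGroup.mk' Q))) : Subgroup (X ⧸ Q)) : Set (X ⧸ Q))).comap
        (QuotientGroup.mk' Q) := ⟨_, rfl⟩
  rw [← hLdef] at hL
  have hlL : l ∈ L := by rw [hLdef]; exact hnb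
  have hPL : (P : Subgroup X) ≤ L := by
    intro s hs
    rw [hLdef, Subgroup.mem_comap]
    apply sylow_le_normalizer_sInf e (P.mapSurjective hπs) _ hDQ'
    apply Subgroup.le_normalizer
    rw [Sylow.coe_mapSurjective]
    exact Subgroup.mem_map_of_mem _ hs
  have hmodQ : ∀ b ∈ B, g * b * g⁻¹ * (l * b * l⁻¹)⁻¹ ∈ Q := by
    intro b hb
    have h1 := hnbeq _ (Set.mem_image_of_mem _ hb)
    rw [← QuotientGroup.eq_one_iff, ← QuotientGroup.mk'_apply]
    simp only [map_mul, map_inv]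
    rw [h1]
    group
  have hlB : ∀ b ∈ B, l * b * l⁻¹ ∈ (P : Subgroup X) := by
    intro b hb
    have h1 := hQP (hmodQ b hb)
    have h2 := hgB b hb
    have e1 : l * b * l⁻¹ = (g * b * g⁻¹ * (l * b * l⁻¹)⁻¹)⁻¹ * (g * b * g⁻¹) := by group
    rw [e1]
    exact mul_mem (inv_mem h1) h2
  obtain ⟨x, hx, -, hxeq⟩ := ctl_subgroup e L hL P hPL D hD (B : Set X) hB l hlL hlB
  refine ⟨x, hx, fun b hb => ?_, fun b hb => ?_⟩
  · rw [← hxeq b hb]; exact hlB b hb
  · rw [← hxeq b hb]; exact hmodQ b hb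

/-- Control in a group generated by the Sylow subgroup and the elements of order prime to `p`
centralizing the normal `p`-subgroup `Q`, given control modulo `Q`. -/
theorem ctl_sup_eq_top [Finite X] {p : ℕ} [Fact p.Prime] (e : ℕ) (P : Sylow p X)
    (D : Subgroup X) (hD : Cfsg.IsStronglyClosed D (P : Subgroup X)) (Q : Subgroup X)
    [hQn : Q.Normal] (hQP : Q ≤ (P : Subgroup X))
    (hcent : ∀ x : X, (orderOf x).Coprime p → x ∈ Subgroup.centralizer (Q : Set X))
    (hmod : ∀ (B : Subgroup X), B ≤ (P : Subgroup X) → ∀ g : X,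
      B.map (MulAut.conj g).toMonoidHom ≤ (P : Subgroup X) →
      ∃ x ∈ Subgroup.normalizer ((sInf (famX e D) : Subgroup X) : Set X),
        (∀ b ∈ B, x * b * x⁻¹ ∈ (P : Subgroup X)) ∧
          ∀ b ∈ B, g * b * g⁻¹ * (x * b * x⁻¹)⁻¹ ∈ Q) :
    ∀ (m : ℕ) (U : Subgroup X), U ≤ (P : Subgroup X) →
      Nat.card (P : Subgroup X) - Nat.card U = m → ∀ g : X,
      U.map (MulAut.conj g).toMonoidHom ≤ (P : Subgroup X) →
      ∃ x ∈ Subgroup.normalizer ((sInf (famX e D) : Subgroup X) : Set X),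
        ∀ u ∈ U, g * u * g⁻¹ = x * u * x⁻¹ := by
  intro m
  induction m using Nat.strong_induction_on with
  | _ m ih =>
    intro U hUP hm g hUg
    have hSp := P.isPGroup'
    have hcardle : Nat.card U ≤ Nat.card (P : Subgroup X) := Subgroup.card_le_of_le hUP
    have hbig : ∀ U' : Subgroup X, U' ≤ (P : Subgroup X) → Nat.card U < Nat.card U' →
        ∀ g' : X, U'.map (MulAut.conj g').toMonoidHom ≤ (P : Subgroup X) →
        ∃ x ∈ Subgroup.normalizer ((sInf (famX e D) : Subgroup X) : Set X),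
          ∀ u ∈ U', g' * u * g'⁻¹ = x * u * x⁻¹ := by
      intro U' hU'P hlt g' hg'
      have := Subgroup.card_le_of_le hU'P
      exact ih (Nat.card (P : Subgroup X) - Nat.card U') (by omega) U' hU'P rfl g' hg'
    obtain ⟨x₁, hx₁N, hx₁P, hx₁Q⟩ := hmod U hUP g hUg
    obtain ⟨U', hU'⟩ : ∃ U' : Subgroup X, U' = U.map (MulAut.conj x₁).toMonoidHom := ⟨_, rfl⟩
    have hU'P : U' ≤ (P : Subgroup X) := by
      rw [hU']
      intro y hy
      rw [Cfsg.Agent.Lib.Helper14.mem_map_conj_iff] at hy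
      have h1 := hx₁P _ hy
      have e1 : x₁ * (x₁⁻¹ * y * x₁) * x₁⁻¹ = y := by group
      rwa [e1] at h1
    have hcardU' : Nat.card U' = Nat.card U := by
      rw [hU']; exact Cfsg.Agent.Lib.Helper14.card_map_conj U x₁
    obtain ⟨z, hz⟩ : ∃ z : X, z = g * x₁⁻¹ := ⟨_, rfl⟩
    have hzU' : ∀ u ∈ U', z * u * z⁻¹ * u⁻¹ ∈ Q := by
      intro u hu
      rw [hU', Cfsg.Agent.Lib.Helper14.mem_map_conj_iff] at hu
      have h1 := hx₁Q _ hu
      have e1 : g * (x₁⁻¹ * u * x₁) * g⁻¹ * (x₁ * (x₁⁻¹ * u * x₁) * x₁⁻¹)⁻¹ =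
          z * u * z⁻¹ * u⁻¹ := by rw [hz]; group
      rwa [e1] at h1
    have hzP : U'.map (MulAut.conj z).toMonoidHom ≤ (P : Subgroup X) := by
      rw [hU', Cfsg.Agent.Lib.Helper14.map_conj_map_conj]
      have e1 : z * x₁ = g := by rw [hz]; group
      rw [e1]; exact hUg
    have hres : ∃ x₂ ∈ Subgroup.normalizer ((sInf (famX e D) : Subgroup X) : Set X),
        ∀ u ∈ U', z * u * z⁻¹ = x₂ * u * x₂⁻¹ := by
      obtain ⟨V, hV⟩ : ∃ V : Subgroup X, V = U' ⊔ Q := ⟨_, rfl⟩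
      have hVP : V ≤ (P : Subgroup X) := hV ▸ sup_le hU'P hQP
      have hzV : ∀ v ∈ V, z * v * z⁻¹ * v⁻¹ ∈ Q := by
        have hVfix : V ≤ Cfsg.Agent.Lib.Helper14.fixMod z Q := by
          rw [hV]
          refine sup_le (fun a ha => Cfsg.Agent.Lib.Helper14.mem_fixMod.mpr (hzU' a ha))
            (fun q hq => Cfsg.Agent.Lib.Helper14.mem_fixMod.mpr ?_)
          exact mul_mem (hQn.conj_mem _ hq z) (inv_mem hq)
        exact fun v hv => Cfsg.Agent.Lib.Helper14.mem_fixMod.mp (hVfix hv)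
      have hzN : V.map (MulAut.conj z).toMonoidHom = V := by
        apply Subgroup.eq_of_le_of_card_ge
        · intro x hx
          rw [Cfsg.Agent.Lib.Helper14.mem_map_conj_iff] at hx
          have h1 := hzV _ hx
          have e1 : x = (z * (z⁻¹ * x * z) * z⁻¹ * (z⁻¹ * x * z)⁻¹) * (z⁻¹ * x * z) := by group
          rw [e1]
          refine mul_mem ?_ hx
          rw [hV]
          exact Subgroup.mem_sup_right h1
        · rw [Cfsg.Agent.Lib.Helper14.card_map_conj]
      by_cases hQU : Q ≤ U'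
      · have hVU : V = U' := by rw [hV]; exact sup_eq_left.mpr hQU
        rw [hVU] at hzV hzN
        by_cases hU'S : U' = (P : Subgroup X)
        · refine ⟨z, ?_, fun u _ => rfl⟩
          have hzNS : z ∈ Subgroup.normalizer ((P : Subgroup X) : Set X) :=
            Cfsg.Agent.Lib.Helper14.mem_normalizer_of_map_conj_eq (hU'S ▸ hzN)
          exact sylow_le_normalizer_sInf e P D hD hzNS
        · obtain ⟨h₁, hU''S, hU''fn⟩ :=
            Cfsg.Agent.Lib.Helper14.exists_fullyNormalized_conj P hU'P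
          obtain ⟨a, ha, haN⟩ := Cfsg.Agent.Lib.Helper14.exists_conj_normalizer_le P hU''fn
            (rfl : U'.map (MulAut.conj h₁).toMonoidHom = U'.map (MulAut.conj h₁).toMonoidHom)
          obtain ⟨U'', hU''⟩ : ∃ U'' : Subgroup X, U'' = U'.map (MulAut.conj h₁).toMonoidHom :=
            ⟨_, rfl⟩
          rw [← hU''] at hU''S hU''fn ha haN
          obtain ⟨xa, hxaN, hxaeq⟩ := hbig ((P : Subgroup X) ⊓ Subgroup.normalizer (U' : Set X))
            inf_le_left
            (by rw [← hcardU']; exact Cfsg.Agent.Lib.Helper14.card_lt_card_normalizer hSp hU'P hU'S)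
            a (haN.trans inf_le_left)
          have hzN' : z ∈ Subgroup.normalizer (U' : Set X) :=
            Cfsg.Agent.Lib.Helper14.mem_normalizer_of_map_conj_eq hzN
          have hz'N : a * z * a⁻¹ ∈ Subgroup.normalizer (U'' : Set X) := by
            rw [← ha, Cfsg.Agent.Lib.Helper14.mem_normalizer_map_conj_iff]
            have e1 : a⁻¹ * (a * z * a⁻¹) * a = z := by group
            rw [e1]; exact hzN'
          have hQU'' : Q ≤ U'' := by
            intro q hq
            rw [← ha, Cfsg.Agent.Lib.Helper14.mem_map_conj_iff]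
            apply hQU
            have h1 := hQn.conj_mem _ hq a⁻¹
            rwa [inv_inv] at h1
          have hz'U : ∀ u ∈ U'', (a * z * a⁻¹) * u * (a * z * a⁻¹)⁻¹ * u⁻¹ ∈ Q := by
            intro u hu
            rw [← ha, Cfsg.Agent.Lib.Helper14.mem_map_conj_iff] at hu
            have h1 := hzV _ hu
            have h2 := hQn.conj_mem _ h1 a
            have e1 : a * (z * (a⁻¹ * u * a) * z⁻¹ * (a⁻¹ * u * a)⁻¹) * a⁻¹ =
                (a * z * a⁻¹) * u * (a * z * a⁻¹)⁻¹ * u⁻¹ := by group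
            rwa [e1] at h2
          obtain ⟨s, hs, hseq⟩ := Cfsg.Agent.Lib.Helper14.exists_sylow_act P Q hcent hU''S hQU''
            hU''fn hz'N hz'U
          have hsN : s ∈ Subgroup.normalizer ((sInf (famX e D) : Subgroup X) : Set X) :=
            sylow_le_normalizer_sInf e P D hD (Subgroup.le_normalizer (Subgroup.mem_inf.mp hs).1)
          refine ⟨xa⁻¹ * s * xa, mul_mem (mul_mem (inv_mem hxaN) hsN) hxaN, fun u hu => ?_⟩
          have huN : u ∈ (P : Subgroup X) ⊓ Subgroup.normalizer (U' : Set X) :=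
            Subgroup.mem_inf.mpr ⟨hU'P hu, Subgroup.le_normalizer hu⟩
          have h1 := hxaeq u huN
          have hu'' : a * u * a⁻¹ ∈ U'' := by
            rw [← ha]; exact Cfsg.Agent.Lib.Helper14.conj_mem_map_conj hu
          have h2 := hseq _ hu''
          have hw : z * u * z⁻¹ ∈ U' := by
            have h0 := Cfsg.Agent.Lib.Helper14.conj_mem_map_conj (g := z) hu
            rwa [hzN] at h0
          have hwN : z * u * z⁻¹ ∈ (P : Subgroup X) ⊓ Subgroup.normalizer (U' : Set X) :=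
            Subgroup.mem_inf.mpr ⟨hU'P hw, Subgroup.le_normalizer hw⟩
          have h3 := hxaeq _ hwN
          have h4 : xa * (z * u * z⁻¹) * xa⁻¹ = s * (xa * u * xa⁻¹) * s⁻¹ := by
            rw [← h3, ← h1, h2]; group
          calc z * u * z⁻¹ = xa⁻¹ * (xa * (z * u * z⁻¹) * xa⁻¹) * xa := by group
            _ = xa⁻¹ * (s * (xa * u * xa⁻¹) * s⁻¹) * xa := by rw [h4]
            _ = xa⁻¹ * s * xa * u * (xa⁻¹ * s * xa)⁻¹ := by group
      · have hle : U' ≤ V := hV ▸ le_sup_left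
        have hlt : Nat.card U < Nat.card V := by
          rw [← hcardU']
          by_contra hcon
          push Not at hcon
          have h1 := Subgroup.eq_of_le_of_card_ge hle hcon
          exact hQU (h1 ▸ (hV ▸ le_sup_right))
        obtain ⟨x₂, hx₂N, hx₂eq⟩ := hbig V hVP hlt z (by rw [hzN]; exact hVP)
        exact ⟨x₂, hx₂N, fun u hu => hx₂eq u (hle hu)⟩
    obtain ⟨x₂, hx₂N, hx₂eq⟩ := hres
    refine ⟨x₂ * x₁, mul_mem hx₂N hx₁N, fun u hu => ?_⟩
    have h1 := hx₂eq (x₁ * u * x₁⁻¹) (hU' ▸ Cfsg.Agent.Lib.Helper14.conj_mem_map_conj hu)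
    have e1 : z * (x₁ * u * x₁⁻¹) * z⁻¹ = g * u * g⁻¹ := by rw [hz]; group
    rw [e1] at h1
    rw [h1]; group

end Cfsg.Agent.Lib.Helper19.SCQd
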