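import Mathlib
import Cfsg.Agent.Lib.Helper19.SCQdB
import Cfsg.Agent.Lib.Helper19.SCQdZ

set_option autoImplicit false
set_option linter.unusedVariables false

/-!
Control of strong fusion by the normalizer of the ZJ-type subgroup of a strongly closed
subgroup in groups not involving `Qd(p)`: the induction on the order of the group.
-/

namespace Cfsg.Agent.Lib.Helper19.SCQd

open Cfsg
open Cfsg.Agent.Lib.Helper6

universe u

theorem main (p : ℕ) [Fact p.Prime] (hp : p ≠ 2) (e : ℕ) (he : e = 0 ∨ e = p) :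
    ∀ (n : ℕ) (X : Type u) [Group X] [Finite X], Nat.card X = n →
      ¬ Cfsg.Involves ↥(Cfsg.qd p) X → Ctl p e X := by
  intro n
  induction n using Nat.strong_induction_on with
  | _ n ih =>
    intro X _ _ hn hqd P D hD A hA g hg
    have IH : ∀ (Y : Type u) [Group Y] [Finite Y], Nat.card Y < Nat.card X →
        ¬ Cfsg.Involves ↥(Cfsg.qd p) Y → Ctl p e Y :=
      fun Y _ _ hlt hY => ih (Nat.card Y) (hn ▸ hlt) Y rfl hY
    have IHsub : ∀ H : Subgroup X, H ≠ ⊤ → Ctl p e ↥H := fun H hH =>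
      IH ↥H (Cfsg.Agent.Lib.Helper14.card_subgroup_lt_of_ne_top H hH)
        (fun h => hqd (Cfsg.Agent.Lib.Helper17.involves_of_subgroup H h))
    have IHquot : ∀ (N : Subgroup X) [N.Normal], N ≠ ⊥ → Ctl p e (X ⧸ N) := fun N _ hN =>
      IH (X ⧸ N) (Cfsg.Agent.Lib.Helper14.card_quotient_lt_of_ne_bot N hN)
        (fun h => hqd (Cfsg.Agent.Lib.Helper17.involves_of_quotient N h))
    have hSp := P.isPGroup'
    have hDp : IsPGroup p D := hSp.to_le hD.1
    by_cases hWn : Subgroup.normalizer ((sInf (famX e D) : Subgroup X) : Set X) = ⊤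
    · exact ⟨g, hWn ▸ Subgroup.mem_top g, fun a _ => rfl⟩
    by_cases hC : Subgroup.centralizer ((Cfsg.pCore p X : Subgroup X) : Set X) ≤ Cfsg.pCore p X
    · exact absurd (Subgroup.normalizer_eq_top_iff.mpr
        (sInf_normal_of_constrained hp hqd hC e P D hD)) hWn
    by_cases hO : Cfsg.pPrimeCore p X = ⊥
    swap
    · exact ctl_of_quotient_coprime e (Cfsg.pPrimeCore p X)
        (Cfsg.Agent.Lib.Helper14.pPrimeCore_coprime p) (IHquot _ hO) P D hD A hA g hg
    by_cases hM : Subgroup.normalizer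
        ((Cfsg.centerThompsonAOf (P : Subgroup X) : Subgroup X) : Set X) = ⊤
    swap
    · obtain ⟨m, hm, hmeq⟩ := Cfsg.Agent.Lib.Helper19.SCQdZ.zjA_ctl hp hqd P A hA g hg
      have hPM : (P : Subgroup X) ≤ Subgroup.normalizer
          ((Cfsg.centerThompsonAOf (P : Subgroup X) : Subgroup X) : Set X) := by
        rw [← sInf_famX_zero]
        exact Subgroup.le_normalizer.trans (normalizer_le_sInf 0 (P : Subgroup X))
      obtain ⟨x, hx, -, hxeq⟩ := ctl_subgroup e _ (IHsub _ hM) P hPM D hD A hA m hm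
        (fun a ha => hmeq a ha ▸ hg a ha)
      exact ⟨x, hx, fun a ha => (hmeq a ha).trans (hxeq a ha)⟩
    by_cases hPbot : (P : Subgroup X) = ⊥
    · refine ⟨1, one_mem _, fun a ha => ?_⟩
      have h1 : a = 1 := by
        have h2 := hA ha
        rw [SetLike.mem_coe, hPbot, Subgroup.mem_bot] at h2
        exact h2
      rw [h1]; group
    have hQp : IsPGroup p (Cfsg.pCore p X) := Cfsg.Agent.Lib.Helper14.pCore_isPGroup p
    have hQn : (Cfsg.pCore p X).Normal := inferInstance
    have hQP : Cfsg.pCore p X ≤ (P : Subgroup X) := hQp.le_sylow_of_normal P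
    have hQne : Cfsg.pCore p X ≠ ⊥ := by
      intro hbot
      have hZle : Cfsg.centerThompsonAOf (P : Subgroup X) ≤ (P : Subgroup X) := by
        rw [← sInf_famX_zero]; exact Cfsg.Agent.S3080.sInf_famX_le 0 _
      have h1 : Cfsg.centerThompsonAOf (P : Subgroup X) ≤ Cfsg.pCore p X :=
        Cfsg.Agent.Lib.Helper14.le_pCore p (Subgroup.normalizer_eq_top_iff.mp hM)
          (hSp.to_le hZle)
      have h2 : sInf (famX 0 (P : Subgroup X)) ≠ ⊥ :=
        Cfsg.Agent.S3080.sInf_famX_ne_bot 0 (Or.inl rfl) _ hSp hPbot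
      rw [sInf_famX_zero] at h2
      exact h2 (le_bot_iff.mp (hbot ▸ h1))
    by_cases hSC : (P : Subgroup X) ⊔
        Subgroup.centralizer ((Cfsg.pCore p X : Subgroup X) : Set X) = ⊤
    swap
    · exact ctl_split e P D hD (Subgroup.centralizer ((Cfsg.pCore p X : Subgroup X) : Set X))
        (IHsub _ (Cfsg.Agent.Lib.Helper14.normalizer_sylow_inf_centralizer_ne_top P hO hC))
        (IHsub _ hSC) A hA g hg
    have hcent : ∀ x : X, (orderOf x).Coprime p →
        x ∈ Subgroup.centralizer ((Cfsg.pCore p X : Subgroup X) : Set X) := fun x hx =>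
      Cfsg.Agent.Lib.Helper14.mem_of_coprime_of_sup_eq_top P _ hSC hx
    have hπs : Function.Surjective (QuotientGroup.mk' (Cfsg.pCore p X)) :=
      QuotientGroup.mk'_surjective _
    have hLne : (Subgroup.normalizer ((sInf (famX e (D.map (QuotientGroup.mk' (Cfsg.pCore p X)))) :
        Subgroup (X ⧸ Cfsg.pCore p X)) : Set (X ⧸ Cfsg.pCore p X))).comap
          (QuotientGroup.mk' (Cfsg.pCore p X)) ≠ ⊤ := by
      intro htop
      apply hWn
      obtain ⟨V, hV⟩ : ∃ V : Subgroup (X ⧸ Cfsg.pCore p X),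
          V = sInf (famX e (D.map (QuotientGroup.mk' (Cfsg.pCore p X)))) := ⟨_, rfl⟩
      rw [← hV] at htop
      have hVn : V.Normal := by
        rw [← Subgroup.normalizer_eq_top_iff, eq_top_iff]
        intro x _
        obtain ⟨y, rfl⟩ := hπs x
        have : y ∈ (Subgroup.normalizer (V : Set (X ⧸ Cfsg.pCore p X))).comap
            (QuotientGroup.mk' (Cfsg.pCore p X)) := htop ▸ Subgroup.mem_top y
        exact this
      have hDbp : IsPGroup p (D.map (QuotientGroup.mk' (Cfsg.pCore p X))) := hDp.map _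
      have hVp : IsPGroup p V := hV ▸ hDbp.to_le (Cfsg.Agent.S3080.sInf_famX_le e _)
      have hcn : (V.comap (QuotientGroup.mk' (Cfsg.pCore p X))).Normal := hVn.comap _
      have hcp : IsPGroup p (V.comap (QuotientGroup.mk' (Cfsg.pCore p X))) :=
        hVp.comap_of_ker_isPGroup _ (by rw [QuotientGroup.ker_mk']; exact hQp)
      have hle : V.comap (QuotientGroup.mk' (Cfsg.pCore p X)) ≤ Cfsg.pCore p X :=
        Cfsg.Agent.Lib.Helper14.le_pCore p hcn hcp
      have hVbot : V = ⊥ := by
        rw [eq_bot_iff]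
        intro v hv
        obtain ⟨x, rfl⟩ := hπs v
        have : x ∈ Cfsg.pCore p X := hle hv
        exact (QuotientGroup.eq_one_iff x).mpr this
      have hDbot : D.map (QuotientGroup.mk' (Cfsg.pCore p X)) = ⊥ := by
        by_contra hne
        exact Cfsg.Agent.S3080.sInf_famX_ne_bot e he _ hDbp hne (hV ▸ hVbot)
      have hDQ : D ≤ Cfsg.pCore p X := by
        intro d hd
        have h1 : QuotientGroup.mk' (Cfsg.pCore p X) d ∈
            D.map (QuotientGroup.mk' (Cfsg.pCore p X)) := Subgroup.mem_map_of_mem _ hd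
        rw [hDbot, Subgroup.mem_bot] at h1
        exact (QuotientGroup.eq_one_iff d).mp h1
      have hDn : D.Normal :=
        ⟨fun x hx y => hD.2 x hx y (hQP (hQn.conj_mem x (hDQ hx) y))⟩
      exact top_le_iff.mp ((Subgroup.normalizer_eq_top_iff.mpr hDn) ▸ normalizer_le_sInf e D)
    have hmod := fun (B : Subgroup X) (hB : B ≤ (P : Subgroup X)) (g' : X)
        (hBg : B.map (MulAut.conj g').toMonoidHom ≤ (P : Subgroup X)) =>
      ctl_mod e P D hD (Cfsg.pCore p X) hQP (IHquot _ hQne) (IHsub _ hLne) B hB g' hBg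
    have hcl : Subgroup.closure A ≤ (P : Subgroup X) := (Subgroup.closure_le _).mpr hA
    have hPg : (Subgroup.closure A).map (MulAut.conj g).toMonoidHom ≤ (P : Subgroup X) := by
      rw [MonoidHom.map_closure, Subgroup.closure_le]
      rintro _ ⟨a, ha, rfl⟩
      show (MulAut.conj g).toMonoidHom a ∈ (P : Subgroup X)
      simp only [MulEquiv.toMonoidHom_eq_coe, MonoidHom.coe_coe, MulAut.conj_apply]
      exact hg a ha
    obtain ⟨x, hx, hxeq⟩ := ctl_sup_eq_top e P D hD (Cfsg.pCore p X) hQP hcent hmod _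
      (Subgroup.closure A) hcl rfl g hPg
    exact ⟨x, hx, fun a ha => hxeq a (Subgroup.subset_closure ha)⟩

end Cfsg.Agent.Lib.Helper19.SCQd
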