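import Mathlib
import Cfsg.Prelude.Def_SubgroupEmbedding
import Cfsg.Prelude.Def_Solvable
import Cfsg.Agent.S0199

set_option autoImplicit false

namespace Cfsg.Agent.Lib.Helper19

open Subgroup

universe u

variable {G : Type u} [Group G]

/-- An element of odd order equal to its inverse is trivial. -/
theorem eq_one_of_odd_of_eq_inv {h : G} (ho : Odd (orderOf h)) (e : h = h⁻¹) : h = 1 := by
  have h2 : h ^ 2 = 1 := by
    rw [pow_two]
    nth_rewrite 2 [e]
    exact mul_inv_cancel h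
  have hd : orderOf h ∣ 2 := orderOf_dvd_of_pow_eq_one h2
  have h1 : orderOf h = 1 := by
    rcases (Nat.dvd_prime Nat.prime_two).mp hd with h1 | h1
    · exact h1
    · rw [h1] at ho; exact absurd ho (by decide)
  exact orderOf_eq_one_iff.mp h1

/-- If `u` inverts `y` by conjugation then odd powers of `u` invert `y`. -/
theorem conj_pow_odd_of_inverts {u y : G} (e : u * y * u⁻¹ = y⁻¹) (j : ℕ) :
    u ^ (2 * j + 1) * y * (u ^ (2 * j + 1))⁻¹ = y⁻¹ := by
  obtain ⟨w, hw⟩ : ∃ w : G, w = u * u := ⟨_, rfl⟩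
  have e2 : w * y * w⁻¹ = y := by
    rw [hw]
    calc (u * u) * y * (u * u)⁻¹ = u * (u * y * u⁻¹) * u⁻¹ := by group
      _ = u * y⁻¹ * u⁻¹ := by rw [e]
      _ = (u * y * u⁻¹)⁻¹ := by group
      _ = y := by rw [e, inv_inv]
  have e3 : ∀ j : ℕ, w ^ j * y * (w ^ j)⁻¹ = y := by
    intro j
    induction j with
    | zero => simp
    | succ j ih =>
      calc w ^ (j + 1) * y * (w ^ (j + 1))⁻¹
          = w * (w ^ j * y * (w ^ j)⁻¹) * w⁻¹ := by
            rw [pow_succ']; group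
        _ = y := by rw [ih, e2]
  have e4 : u ^ (2 * j + 1) = w ^ j * u := by
    rw [pow_succ, pow_mul, pow_two, hw]
  calc u ^ (2 * j + 1) * y * (u ^ (2 * j + 1))⁻¹
      = w ^ j * (u * y * u⁻¹) * (w ^ j)⁻¹ := by
        rw [e4]; group
    _ = (w ^ j * y * (w ^ j)⁻¹)⁻¹ := by rw [e]; group
    _ = y⁻¹ := by rw [e3 j]

/-- An element of odd order inverting `y` (of odd order) by conjugation forces `y = 1`. -/
theorem eq_one_of_odd_inverts {u y : G} (hu : Odd (orderOf u)) (hy : Odd (orderOf y))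
    (e : u * y * u⁻¹ = y⁻¹) : y = 1 := by
  obtain ⟨j, hj⟩ := hu
  have h1 := conj_pow_odd_of_inverts e j
  rw [← hj, pow_orderOf_eq_one] at h1
  apply eq_one_of_odd_of_eq_inv hy
  simpa using h1

/-- The odd part of an element: a power of odd order, trivial only if the order is a power
of two. -/
theorem exists_odd_pow [Finite G] (d : G) :
    ∃ e : ℕ, Odd (orderOf (d ^ 2 ^ e)) ∧ (d ^ 2 ^ e = 1 → orderOf d = 2 ^ e) := by
  have hord : orderOf d ≠ 0 := (orderOf_pos d).ne'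
  obtain ⟨e, m, hm, hem⟩ := Nat.exists_eq_pow_mul_and_not_dvd hord 2 (by norm_num)
  have h1 : orderOf (d ^ 2 ^ e) = m := by
    rw [orderOf_pow, hem, Nat.gcd_eq_right (Dvd.intro _ rfl),
      Nat.mul_div_cancel_left _ (pow_pos (by norm_num) e)]
  refine ⟨e, ?_, ?_⟩
  · rw [h1]; exact Nat.odd_iff.mpr (Nat.two_dvd_ne_zero.mp hm)
  · intro h
    rw [h, orderOf_one] at h1
    rw [hem, ← h1, mul_one]

/-- **Baer–Suzuki for involutions**: an element `v` with `v ^ 2 = 1` outside `O_2(G)` inverts a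
nontrivial element of odd order. -/
theorem exists_odd_inverted_of_not_mem_pCore [Finite G] {v : G} (hv2 : v ^ 2 = 1)
    (hv : v ∉ Cfsg.pCore 2 G) :
    ∃ h : G, h ≠ 1 ∧ Odd (orderOf h) ∧ v * h * v⁻¹ = h⁻¹ := by
  by_contra hcon
  push Not at hcon
  have : Fact (Nat.Prime 2) := ⟨Nat.prime_two⟩
  apply hv
  obtain ⟨K, hK⟩ : ∃ K : Set G, K = {z | ∃ g : G, z = g * v * g⁻¹} := ⟨_, rfl⟩
  have hconj : ∀ g : G, ∀ x ∈ K, g * x * g⁻¹ ∈ K := by
    intro g x hx
    rw [hK] at hx ⊢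
    obtain ⟨a, rfl⟩ := hx
    exact ⟨g * a, by group⟩
  have hsq : ∀ x ∈ K, x * x = 1 := by
    intro x hx
    rw [hK] at hx
    obtain ⟨a, rfl⟩ := hx
    calc a * v * a⁻¹ * (a * v * a⁻¹) = a * (v * v) * a⁻¹ := by group
      _ = 1 := by rw [← pow_two, hv2]; group
  have hinv : ∀ x ∈ K, ∀ h : G, Odd (orderOf h) → x * h * x⁻¹ = h⁻¹ → h = 1 := by
    intro x hx h ho e
    rw [hK] at hx
    obtain ⟨a, rfl⟩ := hx
    have ho' : Odd (orderOf (a⁻¹ * h * a)) := by
      have e1 : a⁻¹ * h * a = MulAut.conj a⁻¹ h := by rw [MulAut.conj_apply, inv_inv]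
      rw [e1, MulEquiv.orderOf_eq]; exact ho
    have e2 : v * (a⁻¹ * h * a) * v⁻¹ = (a⁻¹ * h * a)⁻¹ := by
      calc v * (a⁻¹ * h * a) * v⁻¹ = a⁻¹ * (a * v * a⁻¹ * h * (a * v * a⁻¹)⁻¹) * a := by group
        _ = a⁻¹ * h⁻¹ * a := by rw [e]
        _ = (a⁻¹ * h * a)⁻¹ := by group
    have h3 := hcon (a⁻¹ * h * a)
    by_contra hne
    have h4 : a⁻¹ * h * a ≠ 1 := by
      intro h5
      apply hne
      calc h = a * (a⁻¹ * h * a) * a⁻¹ := by group
        _ = 1 := by rw [h5]; group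
    exact h3 h4 ho' e2
  have hpair : ∀ x ∈ K, ∀ y ∈ K, IsPGroup 2 (Subgroup.closure ({x, y} : Set G)) := by
    intro x hx y hy
    have hx2 := hsq x hx
    have hy2 := hsq y hy
    have hxinv : x⁻¹ = x := inv_eq_of_mul_eq_one_left hx2
    have hyinv : y⁻¹ = y := inv_eq_of_mul_eq_one_left hy2
    obtain ⟨d, hd⟩ : ∃ d : G, d = x * y := ⟨_, rfl⟩
    have hxd : x * d * x⁻¹ = d⁻¹ := by
      rw [hd, mul_inv_rev, hxinv, hyinv]
      calc x * (x * y) * x = (x * x) * y * x := by group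
        _ = y * x := by rw [hx2, one_mul]
    obtain ⟨e, hodd, hone⟩ := exists_odd_pow d
    have hxde : x * d ^ 2 ^ e * x⁻¹ = (d ^ 2 ^ e)⁻¹ := by
      have h1 : x * d ^ 2 ^ e * x⁻¹ = (x * d * x⁻¹) ^ 2 ^ e := by
        rw [conj_pow]
      rw [h1, hxd, inv_pow]
    have hd1 := hinv x hx _ hodd hxde
    have hdord := hone hd1
    have hD : IsPGroup 2 (Subgroup.zpowers d) := by
      apply IsPGroup.of_card (n := e)
      rw [Nat.card_zpowers, hdord]
    have hX : IsPGroup 2 (Subgroup.zpowers x) := by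
      have hxo : orderOf x ∣ 2 := orderOf_dvd_of_pow_eq_one (by rw [pow_two]; exact hx2)
      rcases (Nat.dvd_prime Nat.prime_two).mp hxo with h1 | h1
      · apply IsPGroup.of_card (n := 0)
        rw [Nat.card_zpowers, h1, pow_zero]
      · apply IsPGroup.of_card (n := 1)
        rw [Nat.card_zpowers, h1, pow_one]
    have hnorm : Subgroup.zpowers x ≤ Subgroup.normalizer (Subgroup.zpowers d : Set G) := by
      rw [Subgroup.zpowers_le, Subgroup.mem_normalizer_iff]
      intro n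
      constructor
      · intro hn
        obtain ⟨i, rfl⟩ := Subgroup.mem_zpowers_iff.mp hn
        have h1 : x * d ^ i * x⁻¹ = (x * d * x⁻¹) ^ i := by rw [conj_zpow]
        rw [h1, hxd]
        exact Subgroup.zpow_mem _ (Subgroup.inv_mem _ (Subgroup.mem_zpowers d)) i
      · intro hn
        obtain ⟨i, hi⟩ := Subgroup.mem_zpowers_iff.mp hn
        have h1 : n = x * d ^ i * x⁻¹ := by
          rw [hi]
          calc n = (x * x) * n * (x * x)⁻¹ := by rw [hx2]; group
            _ = x * (x * n * x⁻¹) * x⁻¹ := by group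
        rw [h1, ← conj_zpow, hxd]
        exact Subgroup.zpow_mem _ (Subgroup.inv_mem _ (Subgroup.mem_zpowers d)) i
    have hsup := IsPGroup.to_sup_of_normal_right' hX hD hnorm
    apply hsup.to_le
    rw [Subgroup.closure_le]
    intro z hz
    rcases hz with rfl | hz
    · exact Subgroup.mem_sup_left (Subgroup.mem_zpowers _)
    · rw [Set.mem_singleton_iff] at hz
      have hy' : z = x⁻¹ * d := by rw [hz, hd]; group
      rw [hy']
      exact Subgroup.mul_mem _ (Subgroup.mem_sup_left (Subgroup.inv_mem _ (Subgroup.mem_zpowers x)))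
        (Subgroup.mem_sup_right (Subgroup.mem_zpowers d))
  obtain ⟨N, hNn, hNp, hKN⟩ := Cfsg.Agent.S0199.baer_suzuki_set (p := 2) K hconj hpair
  have hvK : v ∈ K := by rw [hK]; exact ⟨1, by group⟩
  have hle : N ≤ Cfsg.pCore 2 G := le_sSup ⟨hNn, hNp⟩
  exact hle (hKN hvK)

/-- The core of Sidki's four-group argument. -/
theorem sidki_core {a b x y : G} (hab : a * b = b * a) (ha2 : a * a = 1) (hb2 : b * b = 1)
    (hx : Odd (orderOf x)) (hy : Odd (orderOf y)) (hx1 : x ≠ 1) (hy1 : y ≠ 1)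
    (hax : a * x = x * a) (hbx : b * x * b⁻¹ = x⁻¹) (hby : b * y = y * b)
    (hay : a * y * a⁻¹ = y⁻¹)
    (hS : ∀ h : G, ∀ v : G, (v = a ∨ v = b ∨ v = a * b) → Odd (orderOf h) → v * h * v⁻¹ = h⁻¹ →
      (a * h = h * a ∨ b * h = h * b ∨ (a * b) * h = h * (a * b))) : False := by
  have hainv : a⁻¹ = a := inv_eq_of_mul_eq_one_left ha2
  have hbinv : b⁻¹ = b := inv_eq_of_mul_eq_one_left hb2
  have hax' : a * x * a⁻¹ = x := by rw [hax]; group
  have hby' : b * y * b⁻¹ = y := by rw [hby]; group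
  -- Step 1: x commutes with y
  have hx2y : (x * x) * y = y * (x * x) := by
    have ho : Odd (orderOf (x * y * x⁻¹)) := by
      have e1 : x * y * x⁻¹ = MulAut.conj x y := by rw [MulAut.conj_apply]
      rw [e1, MulEquiv.orderOf_eq]; exact hy
    have e : a * (x * y * x⁻¹) * a⁻¹ = (x * y * x⁻¹)⁻¹ := by
      calc a * (x * y * x⁻¹) * a⁻¹ = (a * x * a⁻¹) * (a * y * a⁻¹) * (a * x * a⁻¹)⁻¹ := by group
        _ = x * y⁻¹ * x⁻¹ := by rw [hax', hay]
        _ = (x * y * x⁻¹)⁻¹ := by group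
    have hne : x * y * x⁻¹ ≠ 1 := by
      intro h
      apply hy1
      calc y = x⁻¹ * (x * y * x⁻¹) * x := by group
        _ = 1 := by rw [h]; group
    rcases hS _ a (Or.inl rfl) ho e with h1 | h1 | h1
    · exfalso
      apply hne
      apply eq_one_of_odd_of_eq_inv ho
      rw [← e, h1]; group
    · have h2 : b * (x * y * x⁻¹) * b⁻¹ = x * y * x⁻¹ := by rw [h1]; group
      have h3 : b * (x * y * x⁻¹) * b⁻¹ = x⁻¹ * y * x := by
        calc b * (x * y * x⁻¹) * b⁻¹ = (b * x * b⁻¹) * (b * y * b⁻¹) * (b * x * b⁻¹)⁻¹ := by group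
          _ = x⁻¹ * y * x := by rw [hbx, hby', inv_inv]
      rw [h3] at h2
      calc (x * x) * y = x * (x * y * x⁻¹) * x := by group
        _ = x * (x⁻¹ * y * x) * x := by rw [← h2]
        _ = y * (x * x) := by group
    · exfalso
      have h2 : (a * b) * (x * y * x⁻¹) * (a * b)⁻¹ = x * y * x⁻¹ := by rw [h1]; group
      have h3 : (a * b) * (x * y * x⁻¹) * (a * b)⁻¹ = x⁻¹ * y⁻¹ * x := by
        calc (a * b) * (x * y * x⁻¹) * (a * b)⁻¹
            = a * ((b * x * b⁻¹) * (b * y * b⁻¹) * (b * x * b⁻¹)⁻¹) * a⁻¹ := by group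
          _ = a * (x⁻¹ * y * x) * a⁻¹ := by rw [hbx, hby', inv_inv]
          _ = (a * x * a⁻¹)⁻¹ * (a * y * a⁻¹) * (a * x * a⁻¹) := by group
          _ = x⁻¹ * y⁻¹ * x := by rw [hax', hay]
      rw [h3] at h2
      have h4 : (x * x) * y * (x * x)⁻¹ = y⁻¹ := by
        calc (x * x) * y * (x * x)⁻¹ = x * (x * y * x⁻¹) * x⁻¹ := by group
          _ = x * (x⁻¹ * y⁻¹ * x) * x⁻¹ := by rw [← h2]
          _ = y⁻¹ := by group
      have hx2o : Odd (orderOf (x * x)) := by
        have hd : orderOf (x ^ 2) ∣ orderOf x := orderOf_pow_dvd 2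
        rw [pow_two] at hd
        exact Odd.of_dvd_nat hx hd
      exact hy1 (eq_one_of_odd_inverts hx2o hy h4)
  have hxy : x * y = y * x := by
    obtain ⟨j, hj⟩ := hx
    have hxp : x = (x * x) ^ (j + 1) := by
      rw [← pow_two, ← pow_mul]
      have : 2 * (j + 1) = orderOf x + 1 := by omega
      rw [this, pow_succ, pow_orderOf_eq_one, one_mul]
    have hc : Commute (x * x) y := hx2y
    have := (hc.pow_left (j + 1)).eq
    rwa [← hxp] at this
  -- Step 2
  have ho : Odd (orderOf (x * y)) := by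
    have hd := Commute.orderOf_mul_dvd_lcm (show Commute x y from hxy)
    have hl : Odd (Nat.lcm (orderOf x) (orderOf y)) := by
      rw [Nat.odd_iff, ← Nat.two_dvd_ne_zero]
      intro h2
      rcases (Nat.Prime.dvd_lcm Nat.prime_two).mp h2 with h3 | h3
      · exact (Nat.two_dvd_ne_zero.mpr (Nat.odd_iff.mp hx)) h3
      · exact (Nat.two_dvd_ne_zero.mpr (Nat.odd_iff.mp hy)) h3
    exact Odd.of_dvd_nat hl hd
  have e : (a * b) * (x * y) * (a * b)⁻¹ = (x * y)⁻¹ := by
    calc (a * b) * (x * y) * (a * b)⁻¹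
        = a * ((b * x * b⁻¹) * (b * y * b⁻¹)) * a⁻¹ := by group
      _ = a * (x⁻¹ * y) * a⁻¹ := by rw [hbx, hby']
      _ = (a * x * a⁻¹)⁻¹ * (a * y * a⁻¹) := by group
      _ = x⁻¹ * y⁻¹ := by rw [hax', hay]
      _ = (y * x)⁻¹ := by group
      _ = (x * y)⁻¹ := by rw [hxy]
  rcases hS _ (a * b) (Or.inr (Or.inr rfl)) ho e with h1 | h1 | h1
  · -- a commutes with x*y
    apply hy1
    apply eq_one_of_odd_of_eq_inv hy
    have h2 : a * (x * y) * a⁻¹ = x * y := by rw [h1]; group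
    have h3 : a * (x * y) * a⁻¹ = x * y⁻¹ := by
      calc a * (x * y) * a⁻¹ = (a * x * a⁻¹) * (a * y * a⁻¹) := by group
        _ = x * y⁻¹ := by rw [hax', hay]
    rw [h3] at h2
    exact (mul_left_cancel h2).symm
  · apply hx1
    apply eq_one_of_odd_of_eq_inv hx
    have h2 : b * (x * y) * b⁻¹ = x * y := by rw [h1]; group
    have h3 : b * (x * y) * b⁻¹ = x⁻¹ * y := by
      calc b * (x * y) * b⁻¹ = (b * x * b⁻¹) * (b * y * b⁻¹) := by group
        _ = x⁻¹ * y := by rw [hbx, hby']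
    rw [h3] at h2
    exact (mul_right_cancel h2).symm
  · have h2 : (a * b) * (x * y) * (a * b)⁻¹ = x * y := by rw [h1]; group
    rw [e] at h2
    have h3 : x * y = 1 := eq_one_of_odd_of_eq_inv ho h2.symm
    apply hy1
    apply eq_one_of_odd_of_eq_inv hy
    have h4 : y = x⁻¹ := by
      calc y = x⁻¹ * (x * y) := by group
        _ = x⁻¹ := by rw [h3, mul_one]
    have h5 : a * y * a⁻¹ = y := by
      rw [h4]
      calc a * x⁻¹ * a⁻¹ = (a * x * a⁻¹)⁻¹ := by group
        _ = x⁻¹ := by rw [hax']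
    exact h5.symm.trans hay

/-- **Sidki's four-group theorem** (elementwise form): a nontrivial elementary abelian `2`-subgroup
`V` of order at most `4` satisfying the Sidki pair condition meets `O_2(G)` nontrivially. -/
theorem sidki_four [Finite G] (V : Subgroup G) (hc : ∀ a ∈ V, ∀ b ∈ V, a * b = b * a)
    (h2 : ∀ a ∈ V, a ^ 2 = 1) (hV1 : V ≠ ⊥) (hS : Cfsg.IsSidkiPair V) (h4 : Nat.card V ≤ 4) :
    V ⊓ Cfsg.pCore 2 G ≠ ⊥ := by
  classical
  intro hbot
  have hnot : ∀ v ∈ V, v ≠ 1 → v ∉ Cfsg.pCore 2 G := by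
    intro v hv hv1 hvc
    have : v ∈ V ⊓ Cfsg.pCore 2 G := mem_inf.mpr ⟨hv, hvc⟩
    rw [hbot, mem_bot] at this
    exact hv1 this
  have factA : ∀ v ∈ V, v ≠ 1 → ∃ h : G, h ≠ 1 ∧ Odd (orderOf h) ∧ v * h * v⁻¹ = h⁻¹ ∧
      ∃ w ∈ V, w ≠ 1 ∧ w ≠ v ∧ w * h = h * w := by
    intro v hv hv1
    obtain ⟨h, hh1, ho, hinv⟩ := exists_odd_inverted_of_not_mem_pCore (h2 v hv) (hnot v hv hv1)
    obtain ⟨w, hw, hw1, hwh⟩ := hS h v hv ho hinv
    refine ⟨h, hh1, ho, hinv, w, hw, hw1, ?_, hwh⟩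
    rintro rfl
    apply hh1
    apply eq_one_of_odd_of_eq_inv ho
    rw [← hinv, hwh]; group
  obtain ⟨v₁, hv₁⟩ := Subgroup.ne_bot_iff_exists_ne_one.mp hV1
  obtain ⟨b, hb⟩ : ∃ b : G, b = (v₁ : G) := ⟨_, rfl⟩
  have hbV : b ∈ V := by rw [hb]; exact v₁.2
  have hb1 : b ≠ 1 := by rw [hb]; exact fun h => hv₁ (Subtype.ext h)
  obtain ⟨x, hx1, hxo, hbx, a, haV, ha1, hab, hax⟩ := factA b hbV hb1
  have ha2 : a * a = 1 := by rw [← pow_two]; exact h2 a haV
  have hb2 : b * b = 1 := by rw [← pow_two]; exact h2 b hbV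
  have hcomm : a * b = b * a := hc a haV b hbV
  have hab1 : a * b ≠ 1 := by
    intro h
    apply hab
    calc a = (a * b) * b := by rw [mul_assoc, hb2, mul_one]
      _ = b := by rw [h, one_mul]
  have haba : a * b ≠ a := by
    intro h
    apply hb1
    calc b = a⁻¹ * (a * b) := by group
      _ = 1 := by rw [h]; group
  have habb : a * b ≠ b := by
    intro h
    apply ha1
    calc a = (a * b) * b⁻¹ := by group
      _ = 1 := by rw [h]; group
  have hVeq : ∀ w ∈ V, w = 1 ∨ w = a ∨ w = b ∨ w = a * b := by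
    have hF : ({1, a, b, a * b} : Finset G).card = 4 := by
      rw [Finset.card_insert_of_notMem (by simp [Ne.symm ha1, Ne.symm hb1, Ne.symm hab1]),
        Finset.card_insert_of_notMem (by simp [hab, Ne.symm haba]),
        Finset.card_pair (Ne.symm habb)]
    have hsub : ((({1, a, b, a * b} : Finset G) : Set G)) ⊆ (V : Set G) := by
      intro z hz
      simp only [Finset.coe_insert, Finset.coe_singleton, Set.mem_insert_iff,
        Set.mem_singleton_iff] at hz
      rcases hz with rfl | rfl | rfl | rfl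
      exacts [V.one_mem, haV, hbV, V.mul_mem haV hbV]
    have hle : (V : Set G).ncard ≤ ((({1, a, b, a * b} : Finset G) : Set G)).ncard := by
      rw [Set.ncard_coe_finset, hF, ← Nat.card_coe_set_eq]
      exact h4
    have heq := Set.eq_of_subset_of_ncard_le hsub hle (Set.toFinite _)
    intro w hw
    have hw' : w ∈ ((({1, a, b, a * b} : Finset G) : Set G)) := by rw [heq]; exact hw
    simpa using hw'
  have hS' : ∀ h : G, ∀ v : G, (v = a ∨ v = b ∨ v = a * b) → Odd (orderOf h) →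
      v * h * v⁻¹ = h⁻¹ → (a * h = h * a ∨ b * h = h * b ∨ (a * b) * h = h * (a * b)) := by
    intro h v hv ho hinv
    have hvV : v ∈ V := by
      rcases hv with rfl | rfl | rfl
      exacts [haV, hbV, V.mul_mem haV hbV]
    obtain ⟨w, hw, hw1, hwh⟩ := hS h v hvV ho hinv
    rcases hVeq w hw with rfl | rfl | rfl | rfl
    · exact absurd rfl hw1
    · exact Or.inl hwh
    · exact Or.inr (Or.inl hwh)
    · exact Or.inr (Or.inr hwh)
  obtain ⟨y, hy1, hyo, hay, w₂, hw₂V, hw₂1, hw₂a, hw₂y⟩ := factA a haV ha1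
  rcases hVeq w₂ hw₂V with rfl | rfl | rfl | rfl
  · exact hw₂1 rfl
  · exact hw₂a rfl
  · exact sidki_core hcomm ha2 hb2 hxo hyo hx1 hy1 hax hbx hw₂y hay hS'
  · -- the partner is `a * b`
    have hax' : a * x * a⁻¹ = x := by rw [hax]; group
    have hc2 : (a * b) * (a * b) = 1 := by
      calc (a * b) * (a * b) = a * (b * a) * b := by group
        _ = a * (a * b) * b := by rw [hcomm]
        _ = (a * a) * (b * b) := by group
        _ = 1 := by rw [ha2, hb2, one_mul]
    have hcx : (a * b) * x * (a * b)⁻¹ = x⁻¹ := by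
      calc (a * b) * x * (a * b)⁻¹ = a * (b * x * b⁻¹) * a⁻¹ := by group
        _ = a * x⁻¹ * a⁻¹ := by rw [hbx]
        _ = (a * x * a⁻¹)⁻¹ := by group
        _ = x⁻¹ := by rw [hax']
    have hac : a * (a * b) = b := by rw [← mul_assoc, ha2, one_mul]
    have hcomm' : a * (a * b) = (a * b) * a := by
      calc a * (a * b) = a * (b * a) := by rw [hcomm]
        _ = (a * b) * a := by group
    refine sidki_core (a := a) (b := a * b) hcomm'
      ha2 hc2 hxo hyo hx1 hy1 hax hcx hw₂y hay ?_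
    intro h v hv ho hinv
    have hv' : v = a ∨ v = b ∨ v = a * b := by
      rcases hv with rfl | rfl | hv
      · exact Or.inl rfl
      · exact Or.inr (Or.inr rfl)
      · rw [hac] at hv; exact Or.inr (Or.inl hv)
    rcases hS' h v hv' ho hinv with h1 | h1 | h1
    · exact Or.inl h1
    · right; right; rw [hac]; exact h1
    · exact Or.inr (Or.inl h1)

end Cfsg.Agent.Lib.Helper19
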